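import Cfsg.Agent.H380.RC.Ind
import Cfsg.Agent.H31.RC.Spor.Gen
import Cfsg.Prelude.Def_Classical
import Cfsg.Agent.ClassicalGeometry.HermOrthonormal
import Cfsg.Agent.ClassicalGeometry.GUBasic
import Cfsg.Agent.H916.RG.Pair_m3
import Cfsg.Agent.LieClassical.HermPerfect
import Cfsg.Agent.S0283
import Cfsg.Agent.FastGrp
import Cfsg.Agent.Prune
set_option linter.all false

section
prune_inst 0x7f00000000000000000000000000000000000000000000000000000000000000000000000000000000000000000000000000000000000000000000000000000000000000000000000000000000000000003fffffffffffffffffffffffffffbeffbdffffffff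

-- part: H380/RC/UEnv
section
set_option linter.all false
open scoped Cfsg.Agent.FastGrp

/-!
# S3510, family E (unitary groups): the concrete environment (helper380)

`U : UEnv G Ω N F n q` : `Env G Ω N`, `U.e : N ≃* PSU n F q`, `|F| = q ^ 2`, `n ≥ 3`, `(n, q) ≠ (3, 2)`.

* `U.aut : G →* MulAut (PSU n F q)` (injective), `U.el : SU n F q →* G`;
* `U.Lft x f` : `f : F ^ n → F ^ n` is a semilinear isometry which induces `x`;
* `conj_el` : `x * el s * x⁻¹ = el s'` if `f (act s v) = act s' (f v)`;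
* `exists_lft`, `Lft.mul`, `Lft.pow`, `Lft.unique`, `Lft.scalar`, `Lft.inj`, `eq_one_iff`.
-/

set_option autoImplicit false

namespace Cfsg.Agent.H380.RC

open Matrix Cfsg Cfsg.Agent.LieClassical.HermBasic Cfsg.Agent.LieClassical.HermSiegel
  Cfsg.Agent.LieClassical.HermGen Cfsg.Agent.LieClassical.SUBasic Cfsg.Agent.ClassicalGeometry.PSUAutBasic
  Cfsg.Agent.ClassicalGeometry.PSUAutCount Cfsg.Agent.LieClassical.FieldTransfer Cfsg.Agent.ClassicalGeometry

/-- the environment for `PSU n F q` -/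
structure UEnv (G Ω : Type*) [Group G] [MulAction G Ω] (N : Subgroup G) (F : Type*) [Field F] [Fintype F] (n q : ℕ) where
  env : H106.RC.Env G Ω N
  e : N ≃* PSU n F q
  hF : Fintype.card F = q ^ 2
  hn : 3 ≤ n
  h32 : ¬ (n = 3 ∧ q = 2)

namespace UEnv

variable {G Ω : Type*} [Group G] [MulAction G Ω] {N : Subgroup G} {F : Type*} [Field F] [Fintype F] {n q : ℕ}

/-- the automorphism of `PSU n F q` induced by an element of `G` -/
def aut (U : UEnv G Ω N F n q) : G →* MulAut (PSU n F q) :=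
  haveI := U.env.norm
  (MulAut.congr U.e).toMonoidHom.comp (MulAut.conjNormal (H := N))

theorem aut_e (U : UEnv G Ω N F n q) (x : G) (s : N) (h : x * s * x⁻¹ ∈ N) :
    U.aut x (U.e s) = U.e ⟨x * s * x⁻¹, h⟩ := by
  haveI := U.env.norm
  change U.e (MulAut.conjNormal x (U.e.symm (U.e s))) = _
  rw [MulEquiv.symm_apply_apply]
  congr 1

theorem aut_injective (U : UEnv G Ω N F n q) : Function.Injective U.aut := by
  rw [injective_iff_map_eq_one]
  intro x hx
  have hN := U.env.norm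
  have h1 : x ∈ Subgroup.centralizer (N : Set G) := by
    rw [Subgroup.mem_centralizer_iff]
    intro s hs
    have h2 := U.aut_e x ⟨s, hs⟩ (hN.conj_mem s hs x)
    rw [hx, MulAut.one_apply] at h2
    have h3 := congrArg Subtype.val (U.e.injective h2)
    change s = x * s * x⁻¹ at h3
    nth_rewrite 1 [h3]
    group
  rw [U.env.cent] at h1
  exact Subgroup.mem_bot.1 h1

/-- the element of `G` induced by a matrix -/
def el (U : UEnv G Ω N F n q) : SU n F q →* G := N.subtype.comp (U.e.symm.toMonoidHom.comp (pr n F q))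

theorem el_mem (U : UEnv G Ω N F n q) (s : SU n F q) : U.el s ∈ N := (U.e.symm (pr n F q s)).2

theorem e_el (U : UEnv G Ω N F n q) (s : SU n F q) : U.e ⟨U.el s, U.el_mem s⟩ = pr n F q s :=
  U.e.apply_symm_apply _

theorem exists_el (U : UEnv G Ω N F n q) {x : G} (hx : x ∈ N) : ∃ s, U.el s = x := by
  obtain ⟨s, hs⟩ := pr_surjective (U.e ⟨x, hx⟩)
  refine ⟨s, ?_⟩
  change ((U.e.symm (pr n F q s) : N) : G) = x
  rw [hs, MulEquiv.symm_apply_apply]

theorem el_eq_one (U : UEnv G Ω N F n q) {s : SU n F q} : U.el s = 1 ↔ s ∈ Subgroup.center (SU n F q) := by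
  rw [← pr_eq_one_iff]
  change ((U.e.symm (pr n F q s) : N) : G) = 1 ↔ _
  rw [OneMemClass.coe_eq_one]
  exact map_eq_one_iff U.e.symm U.e.symm.injective

theorem aut_el (U : UEnv G Ω N F n q) (s : SU n F q) : U.aut (U.el s) = MulAut.conj (pr n F q s) := by
  have hN := U.env.norm
  apply MulEquiv.ext
  intro t
  obtain ⟨t, rfl⟩ := pr_surjective t
  have h1 := U.aut_e (U.el s) ⟨U.el t, U.el_mem t⟩ (hN.conj_mem _ (U.el_mem t) _)
  rw [U.e_el t] at h1
  rw [h1, MulAut.conj_apply, ← U.e_el s, ← U.e_el t]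
  exact (map_mul U.e (⟨U.el s, U.el_mem s⟩ * ⟨U.el t, U.el_mem t⟩) (⟨U.el s, U.el_mem s⟩⁻¹ : N)).trans
    (by rw [map_mul, map_inv])

/-- `f` is a semilinear isometry inducing `x` -/
def Lft (U : UEnv G Ω N F n q) (x : G) (f : (Fin n → F) → (Fin n → F)) : Prop := Ind f (U.aut x)

variable {U : UEnv G Ω N F n q} {x y : G} {f g : (Fin n → F) → (Fin n → F)}

theorem exists_lft (U : UEnv G Ω N F n q) (x : G) : ∃ f, U.Lft x f := exists_ind U.hF U.hn U.h32 _

theorem Lft.ind (h : U.Lft x f) : Ind f (U.aut x) := h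

theorem Lft.mul (h : U.Lft x f) (h' : U.Lft y g) : U.Lft (x * y) (fun v => f (g v)) := by
  have h1 := Ind.comp h h'
  rwa [← map_mul] at h1

theorem lft_one (U : UEnv G Ω N F n q) : U.Lft 1 (fun v => v) := by
  have h1 := ind_one (F := F) (n := n) (q := q)
  rwa [← map_one U.aut] at h1

theorem lft_el (U : UEnv G Ω N F n q) (s : SU n F q) : U.Lft (U.el s) (act s) := by
  have h1 := ind_act s
  rwa [← U.aut_el] at h1

theorem Lft.pow (h : U.Lft x f) (k : ℕ) : U.Lft (x ^ k) f^[k] := by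
  have h1 := Ind.iterate h k
  rwa [← map_pow] at h1

theorem Lft.inj (h : U.Lft x f) (h' : U.Lft y f) : x = y := U.aut_injective (Ind.inj h h')

theorem Lft.inv (h : U.Lft x f) : ∃ g, U.Lft x⁻¹ g ∧ (∀ v, f (g v) = v) ∧ ∀ v, g (f v) = v := by
  obtain ⟨g, h1, h2, h3⟩ := Ind.bij h
  rw [← map_inv] at h1
  exact ⟨g, h1, h2, h3⟩

/-- conjugates of matrices -/
theorem Lft.conj_el (h : U.Lft x f) {s s' : SU n F q} (hs : ∀ v, f (act s v) = act s' (f v)) :
    x * U.el s * x⁻¹ = U.el s' := by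
  apply U.aut_injective
  rw [map_mul, map_mul, map_inv, U.aut_el, U.aut_el]
  exact Ind.conj_pr h hs

theorem Lft.exists_conj (h : U.Lft x f) (s : SU n F q) : ∃ s' : SU n F q, ∀ v, f (act s v) = act s' (f v) :=
  Ind.exists_conj h s

/-- two lifts differ by a scalar -/
theorem Lft.unique (h : U.Lft x f) (h' : U.Lft x g) : ∃ c : F, c * c ^ q = 1 ∧ ∀ v, g v = c • f v := by
  obtain ⟨A, ρ, rfl, h1⟩ := h
  obtain ⟨B, σ, rfl, h2⟩ := h'
  obtain ⟨h3, c, h4, h5⟩ := eq_of_toAut_eq U.hF U.hn (h1.symm.trans h2)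
  refine ⟨c, h4, fun v => ?_⟩
  rw [sl_def, sl_def, h5, h3, Matrix.smul_mulVec]

/-- scalar multiples of lifts -/
theorem Lft.scalar (h : U.Lft x f) {c : F} (hc : c * c ^ q = 1) : U.Lft x (fun v => c • f v) := by
  obtain ⟨A, ρ, rfl, h1⟩ := h
  refine ⟨sc n ⟨c, hc⟩ * A, ρ, ?_, by rw [h1, toAut_sc_mul]⟩
  funext v
  rw [sl_def, sl_def, gm_sc_mul, Matrix.smul_mulVec]

/-- an element is trivial iff its lifts are scalars -/
theorem Lft.eq_one_iff (h : U.Lft x f) : x = 1 ↔ ∃ c : F, ∀ v, f v = c • v := by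
  constructor
  · rintro rfl
    obtain ⟨c, -, hc⟩ := U.lft_one.unique h
    exact ⟨c, hc⟩
  · rintro ⟨c, hc⟩
    obtain ⟨ρ, h1, h2⟩ := Ind.exists_rho h
    have hn := U.hn
    -- `c` has norm one
    obtain ⟨v, w, hvw⟩ : ∃ v w : Fin n → F, hermForm n F q v w = 1 := by
      refine ⟨Pi.single ⟨0, by omega⟩ 1, Pi.single ⟨0, by omega⟩ 1, ?_⟩
      rw [herm_single_left, Pi.single_eq_same, one_pow, one_mul]
    have h3 := h2 v w
    rw [hc, hc, herm_smul_left, herm_smul_right, hvw, map_one, mul_one] at h3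
    have h4 := (U.lft_one).scalar h3
    have h5 : f = fun v => c • v := funext hc
    rw [h5] at h
    exact h.inj h4

end UEnv

end Cfsg.Agent.H380.RC
end

-- part: H380/RC/EStmt
section
set_option linter.all false

/-!
# S3510, family E (unitary groups): exact statements of the boxes (helper380)

Everything is about `U : UEnv G Ω N F n q` and a family `UFam U x f r` (`PF x r`, commuting lifts `f i`) with `Cov Ω x`.
-/

set_option autoImplicit false

namespace Cfsg.Agent.H380.RC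

open Matrix Cfsg Cfsg.Agent.LieClassical.HermBasic Cfsg.Agent.LieClassical.HermSiegel
  Cfsg.Agent.ClassicalGeometry.PSUAutBasic Cfsg.Agent.ClassicalGeometry.PSUAutCount

section defs

variable {F : Type*} [Field F] {n : ℕ}

/-- `f` is linear -/
def Lin (f : (Fin n → F) → (Fin n → F)) : Prop := ∀ (c : F) (v : Fin n → F), f (c • v) = c • f v

/-- `A` is `f`-invariant -/
def Stab (f : (Fin n → F) → (Fin n → F)) (A : Submodule F (Fin n → F)) : Prop := ∀ v ∈ A, f v ∈ A

/-- `f` is a scalar on `A` -/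
def ScalOn (f : (Fin n → F) → (Fin n → F)) (A : Submodule F (Fin n → F)) : Prop := ∃ c : F, ∀ v ∈ A, f v = c • v

/-- `A` is nondegenerate -/
def NDeg (q : ℕ) (A : Submodule F (Fin n → F)) : Prop := ∀ v ∈ A, (∀ w ∈ A, hermForm n F q v w = 0) → v = 0

/-- `A` is totally singular -/
def TS (q : ℕ) (A : Submodule F (Fin n → F)) : Prop := ∀ v ∈ A, ∀ w ∈ A, hermForm n F q v w = 0

end defs

/-- a family in the sense of the hub, with commuting lifts; the order of `f i` is a power of `r i` -/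
structure UFam {G Ω : Type*} [Group G] [MulAction G Ω] {N : Subgroup G} {F : Type*} [Field F] [Fintype F] {n q : ℕ}
    (U : UEnv G Ω N F n q) {ι : Type*} (x : ι → G) (f : ι → (Fin n → F) → (Fin n → F)) (r : ι → ℕ) : Prop where
  pf : H106.RC.PF x r
  lft : ∀ i, U.Lft (x i) (f i)
  comm : ∀ i j v, f i (f j v) = f j (f i v)
  ord : ∀ i, ∃ k, ∀ v, (f i)^[r i ^ k] v = v

/-- the conclusion: there is no cover by a family with the property `P` -/
def NoC (P : ∀ {G Ω : Type} [Group G] [MulAction G Ω] {N : Subgroup G} {F : Type} [Field F] [Fintype F] {n q : ℕ}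
    (_ : UEnv G Ω N F n q) {ι : Type} (_ : ι → G) (_ : ι → (Fin n → F) → (Fin n → F)) (_ : ι → ℕ), Prop) : Prop :=
  ∀ {G Ω : Type} [Group G] [Finite G] [Finite Ω] [Nonempty Ω] [MulAction G Ω] {N : Subgroup G} {F : Type} [Field F]
    [Fintype F] {n q : ℕ} (U : UEnv G Ω N F n q) {ι : Type} [Finite ι] (x : ι → G)
    (f : ι → (Fin n → F) → (Fin n → F)) (r : ι → ℕ), UFam U x f r → H106.RC.Cov Ω x → P U x f r → False

/-- E0 : commuting lifts exist -/
def LiftStmt : Prop :=
  ∀ {G Ω : Type} [Group G] [Finite G] [MulAction G Ω] {N : Subgroup G} {F : Type} [Field F]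
    [Fintype F] {n q : ℕ} (U : UEnv G Ω N F n q) {ι : Type} [Finite ι] (x : ι → G) (r : ι → ℕ), H106.RC.PF x r →
    ∃ f, UFam U x f r

/-- E4 (DEC) : an invariant nondegenerate subspace `A ≠ V`, `dim A ≥ 3`, on which no `x i` of order `p` is a scalar -/
def DecStmt : Prop :=
  NoC fun {_ _ _ _ _ F _ _ n q} _ {ι} _ f r => ∃ A : Submodule F (Fin n → F), NDeg q A ∧ A ≠ ⊤ ∧
    3 ≤ Module.finrank F A ∧ ¬ (Module.finrank F A = 3 ∧ q = 2) ∧ (∀ i : ι, Stab (f i) A) ∧
    (∀ i : ι, ScalOn (f i) A → (r i).Coprime q) ∧ H106.RC.RC (PSU (Module.finrank F A) F q)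

/-- E5 (D) : `V = W ⊕ W'`, totally singular, invariant (the `f i` may be semilinear) -/
def DStmt : Prop :=
  NoC fun {_ _ _ _ _ F _ _ n q} _ {ι} _ f _ => ∃ W W' : Submodule F (Fin n → F), TS q W ∧ TS q W' ∧ IsCompl W W' ∧
    (∀ i : ι, Stab (f i) W ∧ Stab (f i) W') ∧
    (H106.RC.RC (Matrix.ProjectiveSpecialLinearGroup (Fin (Module.finrank F W)) F) ∨
      ∀ i j : ι, ¬ ScalOn (f i) W → ¬ ScalOn (f j) W → i = j)

/-- E5' (D with swaps) : some `f i` may interchange `W` and `W'` -/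
def DSwapStmt : Prop :=
  NoC fun {_ _ _ _ _ F _ _ n q} _ {ι} _ f _ => ∃ W W' : Submodule F (Fin n → F), TS q W ∧ TS q W' ∧ IsCompl W W' ∧
    (∀ i : ι, (Stab (f i) W ∧ Stab (f i) W') ∨
      ((∀ v ∈ W, f i v ∈ W') ∧ (∀ v ∈ W', f i v ∈ W) ∧ ∃ w ∈ W, hermForm n F q w (f i w) ≠ 0)) ∧
    (H106.RC.RC (Matrix.ProjectiveSpecialLinearGroup (Fin (Module.finrank F W)) F) ∨
      ∀ i j : ι, ¬ ScalOn (f i) W → ¬ ScalOn (f j) W → i = j)

/-- E6 (L) : a field `K ⊇ F` of endomorphisms of `V`, closed under adjoints, commuting with all `f i`,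
`dim_K V ≥ 3`, `K ≠ F` -/
def LStmt : Prop :=
  NoC fun {_ _ _ _ _ F _ _ n q} _ {ι} _ f _ => ∃ (K : Type) (_ : Field K) (_ : Fintype K) (_ : Algebra F K)
    (_ : Module K (Fin n → F)) (_ : IsScalarTower F K (Fin n → F)),
    (∀ a : K, ∃ b : K, ∀ v w : Fin n → F, hermForm n F q (a • v) w = hermForm n F q v (b • w)) ∧
    (∀ (i : ι) (a : K) (v : Fin n → F), f i (a • v) = a • f i v) ∧ 1 < Module.finrank F K ∧
    3 ≤ Module.finrank K (Fin n → F) ∧ H106.RC.IH (Nat.card (PSU n F q))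

/-- E7 : all `f i` linear, of order prime to `p`, one of them (all of them) irreducible : character bound -/
def IrrStmt : Prop :=
  NoC fun {_ _ _ _ _ F _ _ n q} _ {ι} _ f r => Odd n ∧ (∀ i : ι, Lin (f i)) ∧ (∀ i : ι, (r i).Coprime q) ∧
    ∀ (i : ι) (A : Submodule F (Fin n → F)), Stab (f i) A → A = ⊥ ∨ A = ⊤

/-- E8 (structure of commuting linear isometries of order prime to `p`) -/
def StrStmt : Prop :=
  ∀ {F : Type} [Field F] [Fintype F] {n q : ℕ} (_ : Fintype.card F = q ^ 2) (_ : 3 ≤ n) {ι : Type} [Finite ι]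
    (f : ι → (Fin n → F) → (Fin n → F)), (∀ i, Lin (f i)) → (∀ i v w, f i (v + w) = f i v + f i w) →
    (∀ i v w, hermForm n F q (f i v) (f i w) = hermForm n F q v w) → (∀ i j v, f i (f j v) = f j (f i v)) →
    (∀ i, ∃ m : ℕ, m.Coprime q ∧ ∀ v, (f i)^[m] v = v) →
    -- (S1) a common singular eigenvector
    (∃ e : Fin n → F, e ≠ 0 ∧ hermForm n F q e e = 0 ∧ ∀ i, ∃ c : F, f i e = c • e) ∨
    -- (S2) a large invariant nondegenerate subspace
    (∃ A : Submodule F (Fin n → F), NDeg q A ∧ A ≠ ⊤ ∧ 3 ≤ Module.finrank F A ∧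
      ¬ (Module.finrank F A = 3 ∧ q = 2) ∧ ∀ i, Stab (f i) A) ∨
    -- (S3) two totally singular halves
    (∃ W W' : Submodule F (Fin n → F), TS q W ∧ TS q W' ∧ IsCompl W W' ∧ ∀ i, Stab (f i) W ∧ Stab (f i) W') ∨
    -- (S4) a field, `V` of dimension at least 3 over it
    (∃ (K : Type) (_ : Field K) (_ : Fintype K) (_ : Algebra F K) (_ : Module K (Fin n → F))
      (_ : IsScalarTower F K (Fin n → F)),
      (∀ a : K, ∃ b : K, ∀ v w : Fin n → F, hermForm n F q (a • v) w = hermForm n F q v (b • w)) ∧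
      (∀ (i : ι) (a : K) (v : Fin n → F), f i (a • v) = a • f i v) ∧ 1 < Module.finrank F K ∧
      3 ≤ Module.finrank K (Fin n → F)) ∨
    -- (S4') every `f i` is a scalar or irreducible
    (Odd n ∧ ∀ i, ScalOn (f i) ⊤ ∨ ∀ A : Submodule F (Fin n → F), Stab (f i) A → A = ⊥ ∨ A = ⊤) ∨
    -- (S5) `n = 3`, an orthonormal frame of common eigenvectors
    (n = 3 ∧ ∃ w : Fin 3 → (Fin n → F), (∀ i j, hermForm n F q (w i) (w j) = if i = j then 1 else 0) ∧
      ∀ i j, ∃ c : F, f i (w j) = c • w j) ∨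
    -- (S6) `q = 2`, orders dividing 9
    (q = 2 ∧ ∀ i v, (f i)^[9] v = v)

/-- E9 (case I) : all linear, all of order prime to `p` -/
def CaseOne : Prop :=
  NoC fun {_ _ _ _ _ F _ _ n q} _ {ι} _ f r => ¬ (n = 4 ∧ q = 2) ∧ (∀ i : ι, Lin (f i)) ∧
    (∀ i : ι, (r i).Coprime q) ∧ H106.RC.IH (Nat.card (PSU n F q))

/-- E10 (case II) : all linear, one of them of order `p` -/
def CaseTwo : Prop :=
  NoC fun {_ _ _ _ _ F _ _ n q} _ {ι} _ f r => ¬ (n = 4 ∧ q = 2) ∧ (∀ i : ι, Lin (f i)) ∧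
    (∃ i : ι, ¬ (r i).Coprime q) ∧ H106.RC.IH (Nat.card (PSU n F q))

/-- E11 (case III.1) : one of them not linear, of odd order -/
def CaseField : Prop :=
  NoC fun {_ _ _ _ _ F _ _ n q} _ {ι} _ f r => ¬ (n = 4 ∧ q = 2) ∧ (∃ i : ι, ¬ Lin (f i) ∧ r i ≠ 2) ∧
    H106.RC.IH (Nat.card (PSU n F q))

/-- E12, E13, E14 (case III.2) : one of them not linear, of order 2, the others linear -/
def CaseGraph : Prop :=
  NoC fun {_ _ _ _ _ F _ _ n q} _ {ι} _ f r => ¬ (n = 4 ∧ q = 2) ∧
    (∃ i : ι, ¬ Lin (f i) ∧ r i = 2 ∧ ∀ j, j ≠ i → Lin (f j)) ∧ H106.RC.IH (Nat.card (PSU n F q))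

/-- normal form of a graph involution `x i₀` : `T = b f i₀`, `T² = 1` -/
structure GForm {G Ω : Type*} [Group G] [MulAction G Ω] {N : Subgroup G} {F : Type*} [Field F] [Fintype F] {n q : ℕ}
    (U : UEnv G Ω N F n q) {ι : Type*} (x : ι → G) (f : ι → (Fin n → F) → (Fin n → F)) (r : ι → ℕ) (i₀ : ι)
    (T : (Fin n → F) → (Fin n → F)) : Prop where
  fam : UFam U x f r
  r2 : r i₀ = 2
  nlin : ¬ Lin (f i₀)
  lin : ∀ j, j ≠ i₀ → Lin (f j)
  eq : ∃ b : F, b ≠ 0 ∧ ∀ v, T v = b • f i₀ v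
  TT : ∀ v, T (T v) = v
  add : ∀ v w, T (v + w) = T v + T w
  smul : ∀ (c : F) v, T (c • v) = c ^ q • T v
  herm : ∃ ε : F, (ε = 1 ∨ ε = -1) ∧ ∀ u v, hermForm n F q (T u) (T v) = ε * (hermForm n F q u v) ^ q
  comm : ∀ j, j ≠ i₀ → ∀ v, f j (T v) = T (f j v)

/-- E12a : the normal form exists -/
def GFormStmt : Prop :=
  ∀ {G Ω : Type} [Group G] [Finite G] [MulAction G Ω] {N : Subgroup G} {F : Type} [Field F]
    [Fintype F] {n q : ℕ} (U : UEnv G Ω N F n q) {ι : Type} [Finite ι] (x : ι → G)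
    (f : ι → (Fin n → F) → (Fin n → F)) (r : ι → ℕ) (_ : UFam U x f r) (i₀ : ι), ¬ Lin (f i₀) → r i₀ = 2 →
    (∀ j, j ≠ i₀ → Lin (f j)) → ∃ T, GForm U x f r i₀ T

/-- E12b (2a) : the form on the fixed points of `T` is alternating -/
def GraphAlt : Prop :=
  NoC fun {_ _ _ _ _ F _ _ n q} U {ι} x f r => ¬ (n = 4 ∧ q = 2) ∧ H106.RC.IH (Nat.card (PSU n F q)) ∧
    ∃ (i₀ : ι) (T : (Fin n → F) → (Fin n → F)), GForm U x f r i₀ T ∧ ∀ v, T v = v → hermForm n F q v v = 0

/-- E13 (2b, 2c) : the form on the fixed points of `T` is symmetric, not alternating, `q` odd -/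
def GraphSym : Prop :=
  NoC fun {_ _ _ _ _ F _ _ n q} U {ι} x f r => Odd q ∧ H106.RC.IH (Nat.card (PSU n F q)) ∧
    ∃ (i₀ : ι) (T : (Fin n → F) → (Fin n → F)), GForm U x f r i₀ T ∧ ∃ v, T v = v ∧ hermForm n F q v v ≠ 0

/-- E13x : `n = 4`, `q = 3`, `T` symmetric, a linear element of order 5 -/
def GraphFourThree : Prop :=
  NoC fun {_ _ _ _ _ F _ _ n q} U {ι} x f r => n = 4 ∧ q = 3 ∧
    ∃ (i₀ j₀ : ι) (T : (Fin n → F) → (Fin n → F)), GForm U x f r i₀ T ∧ (∃ v, T v = v ∧ hermForm n F q v v ≠ 0) ∧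
      r j₀ = 5 ∧ ∀ i, i = i₀ ∨ i = j₀

/-- E14 (2d) : the same, `q` even -/
def GraphEven : Prop :=
  NoC fun {_ _ _ _ _ F _ _ n q} U {ι} x f r => Even q ∧ ¬ (n = 4 ∧ q = 2) ∧ H106.RC.IH (Nat.card (PSU n F q)) ∧
    ∃ (i₀ : ι) (T : (Fin n → F) → (Fin n → F)), GForm U x f r i₀ T ∧ ∃ v, T v = v ∧ hermForm n F q v v ≠ 0

/-- a family without condition on the primes: commuting lifts, some members are not of prime order -/
structure GFam {G Ω : Type*} [Group G] [MulAction G Ω] {N : Subgroup G} {F : Type*} [Field F] [Fintype F] {n q : ℕ}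
    (U : UEnv G Ω N F n q) {ι : Type*} (x : ι → G) (f : ι → (Fin n → F) → (Fin n → F)) : Prop where
  ne : ∀ i, x i ≠ 1
  lft : ∀ i, U.Lft (x i) (f i)
  comm : ∀ i j v, f i (f j v) = f j (f i v)

/-- E4g (general DEC) : `A` nondegenerate, invariant; the `f i` act on `A` as scalars times powers of one isometry `g`
of `A`; those which are scalars on `A` have prime order different from `p` -/
def GDecStmt : Prop :=
  ∀ {G Ω : Type} [Group G] [Finite G] [Finite Ω] [Nonempty Ω] [MulAction G Ω] {N : Subgroup G} {F : Type} [Field F]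
    [Fintype F] {n q : ℕ} (U : UEnv G Ω N F n q) {ι : Type} [Finite ι] (x : ι → G)
    (f : ι → (Fin n → F) → (Fin n → F)), GFam U x f → H106.RC.Cov Ω x →
    ∀ (A : Submodule F (Fin n → F)) (g : (Fin n → F) → (Fin n → F)), NDeg q A → A ≠ ⊤ →
    2 ≤ Module.finrank F A → ¬ (Module.finrank F A = 3 ∧ q = 2) → ¬ (Module.finrank F A = 2 ∧ q ≤ 3) →
    (∀ i : ι, Lin (f i) ∧ Stab (f i) A) →
    (∀ i : ι, ScalOn (f i) A → ∃ r : ℕ, r.Prime ∧ r.Coprime q ∧ x i ^ r = 1) →
    (∀ v w, g (v + w) = g v + g w) → Lin g → Stab g A →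
    (∀ v ∈ A, ∀ w ∈ A, hermForm n F q (g v) (g w) = hermForm n F q v w) →
    (∀ i : ι, ∃ (k : ℕ) (c : F), ∀ v ∈ A, f i v = c • g^[k] v) →
    ((3 ≤ Module.finrank F A ∧ H106.RC.RC (PSU (Module.finrank F A) F q)) ∨
     (Module.finrank F A = 2 ∧ ∀ (K : Type) [Field K] [Fintype K], Fintype.card K = q →
        H106.RC.RC (Matrix.ProjectiveSpecialLinearGroup (Fin 2) K)) ∨
     (∃ r k : ℕ, r.Prime ∧ ∃ c : F, ∀ v ∈ A, g^[r ^ k] v = c • v)) → False

/-- E16 : smaller groups -/
def SmallStmt : Prop :=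
  ∀ {F : Type} [Field F] [Fintype F] {n q : ℕ}, Fintype.card F = q ^ 2 → 3 ≤ n → ¬ (n = 3 ∧ q = 2) →
    H106.RC.IH (Nat.card (PSU n F q)) →
    -- (a) smaller dimension
    (∀ m, 3 ≤ m → m < n → ¬ (m = 3 ∧ q = 2) → H106.RC.RC (PSU m F q)) ∧
    -- (b) field extension
    (∀ (K : Type) [Field K] [Fintype K] (l m : ℕ), n = m * l → 3 ≤ l → 3 ≤ m → Fintype.card K = (q ^ l) ^ 2 →
      H106.RC.RC (PSU m K (q ^ l))) ∧
    (∀ (K : Type) [Field K] [Fintype K] (l : ℕ), n = 2 * l → 3 ≤ l → Fintype.card K = q ^ l →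
      H106.RC.RC (Matrix.ProjectiveSpecialLinearGroup (Fin 2) K)) ∧
    -- (c) the stabiliser of two totally singular halves
    (∀ d, n = 2 * d → ¬ (d = 2 ∧ q ≤ 3) → H106.RC.RC (Matrix.ProjectiveSpecialLinearGroup (Fin d) F)) ∧
    -- (d) subfields
    (∀ (K : Type) [Field K] [Fintype K] (s t : ℕ), q = s ^ t → 1 < t → Fintype.card K = s ^ 2 →
      ¬ (n = 3 ∧ s = 2) → H106.RC.RC (PSU n K s)) ∧
    -- (e) `PSL 2 q`
    (∀ (K : Type) [Field K] [Fintype K], Fintype.card K = q → 4 ≤ q → q ≠ 4 → q ≠ 5 → q ≠ 9 →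
      H106.RC.RC (Matrix.ProjectiveSpecialLinearGroup (Fin 2) K)) ∧
    -- (f) symplectic groups
    (∀ (K : Type) [Field K] [Fintype K] (m : ℕ), Fintype.card K = q → n = 2 * m → ¬ (m = 2 ∧ q = 2) →
      H106.RC.RC (PSp m K))

end Cfsg.Agent.H380.RC
end

-- part: H398/RC/KStruct
section
set_option linter.all false
open scoped Cfsg.Agent.FastGrp

/-!
# S3510, family E, box E6a: the structure of `V` over a field of endomorphisms closed under adjoints (helper398)
-/

set_option autoImplicit false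
set_option linter.unusedSectionVars false

namespace Cfsg.Agent.H398.RC

open Module Cfsg Cfsg.Agent.LieClassical.HermBasic Cfsg.Agent.ClassicalGeometry

/-- a nondegenerate hermitian form, linear in the first variable (copy of helper749) -/
structure HermF {F W : Type*} [Field F] [AddCommGroup W] [Module F W] (σ : F →+* F) (b : W → W → F) : Prop where
  add : ∀ u u' v, b (u + u') v = b u v + b u' v
  smul : ∀ (c : F) u v, b (c • u) v = c * b u v
  symm : ∀ u v, b v u = σ (b u v)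
  nd : ∀ u, (∀ v, b u v = 0) → u = 0

section

variable {F W : Type*} [Field F] [AddCommGroup W] [Module F W] {σ : F →+* F} {b : W → W → F}

/-- the sesquilinear map -/
noncomputable def HermF.toMap (h : HermF σ b) : W →ₛₗ[σ] W →ₗ[F] F :=
  LinearMap.mk₂'ₛₗ σ (RingHom.id F) (fun u v => b v u)
    (fun u u' v => by rw [h.symm, h.add, map_add, ← h.symm, ← h.symm])
    (fun c u v => by rw [h.symm, h.smul, map_mul, ← h.symm, smul_eq_mul])
    (fun u v v' => h.add v v' u)
    (fun c u v => by rw [h.smul, smul_eq_mul]; rfl)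

theorem HermF.toMap_apply (h : HermF σ b) (u v : W) : h.toMap u v = b v u := rfl

variable [Finite F] [FiniteDimensional F W] (hσ : σ ≠ RingHom.id F) (hσ2 : ∀ a : F, σ (σ a) = a)

include hσ hσ2

theorem HermF.exists_iso {q : ℕ} (hq : ∀ x, σ x = x ^ q) (h : HermF σ b) {n : ℕ} (hn : Module.finrank F W = n) :
    ∃ j : (Fin n → F) ≃ₗ[F] W, ∀ x y, b (j x) (j y) = hermForm n F q x y := by
  obtain ⟨B, hB⟩ := HermOrthonormal.exists_orthonormal_basis hσ hσ2 h.toMap ⟨fun u v => by
    rw [h.toMap_apply, h.toMap_apply, h.symm, hσ2]⟩ (fun u hu => h.nd u fun v => by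
      rw [h.symm]
      have h1 := hu v
      rw [h.toMap_apply] at h1
      rw [h1, map_zero])
  subst hn
  refine ⟨B.equivFun.symm, fun x y => ?_⟩
  rw [← h.toMap_apply, Module.Basis.equivFun_symm_apply, Module.Basis.equivFun_symm_apply, map_sum,
    GUBasic.hermForm_apply]
  refine Finset.sum_congr rfl fun i _ => ?_
  rw [map_smul, map_sum, LinearMap.sum_apply, Finset.sum_eq_single i]
  · rw [LinearMap.map_smulₛₗ, LinearMap.smul_apply, hB, if_pos rfl, hq]
    simp only [smul_eq_mul, mul_one]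
  · intro k _ hk
    rw [LinearMap.map_smulₛₗ, LinearMap.smul_apply, hB, if_neg hk]
    simp
  · intro hi
    exact absurd (Finset.mem_univ i) hi

end

/-- a nontrivial involution of a finite field -/
theorem inv_eq_pow {K : Type*} [Field K] [Fintype K] (σ : K ≃+* K) (h2 : ∀ a, σ (σ a) = a) (hne : ∃ a, σ a ≠ a) :
    ∃ Q : ℕ, Fintype.card K = Q ^ 2 ∧ ∀ a, σ a = a ^ Q := by
  classical
  obtain ⟨p, hp⟩ := CharP.exists K
  have hpp : p.Prime := CharP.char_is_prime K p
  have : Fact p.Prime := ⟨hpp⟩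
  let _ : Algebra (ZMod p) K := ZMod.algebra K p
  have hcomm : ∀ r : ZMod p, σ (algebraMap (ZMod p) K r) = algebraMap (ZMod p) K r := fun r =>
    RingHom.congr_fun (Subsingleton.elim ((σ : K →+* K).comp (algebraMap (ZMod p) K))
      (algebraMap (ZMod p) K)) r
  let stA : K ≃ₐ[ZMod p] K := AlgEquiv.ofRingEquiv (f := σ) hcomm
  obtain ⟨⟨n, hnd⟩, hn⟩ := (FiniteField.bijective_frobeniusAlgEquivOfAlgebraic_pow (ZMod p) K).2 stA
  obtain ⟨d, hd⟩ : ∃ d, d = finrank (ZMod p) K := ⟨_, rfl⟩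
  have hK : Fintype.card K = p ^ d := by
    have := Module.card_eq_pow_finrank (K := ZMod p) (V := K)
    rwa [ZMod.card, ← hd] at this
  have hst : ∀ x, σ x = x ^ (p ^ n) := by
    intro x
    have h3 : stA x = x ^ (p ^ n) := by
      rw [← hn]
      simp only
      rw [AlgEquiv.coe_pow, FiniteField.coe_frobeniusAlgEquivOfAlgebraic_iterate, ZMod.card]
    exact h3
  rw [← hd] at hnd
  obtain ⟨g, hg⟩ := IsCyclic.exists_generator (α := Kˣ)
  have hord : orderOf g = p ^ d - 1 := by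
    rw [orderOf_eq_card_of_forall_mem_zpowers hg, Nat.card_eq_fintype_card, Fintype.card_units, hK]
  have h3 : g ^ (p ^ n * p ^ n) = g ^ 1 := by
    apply Units.ext
    have := h2 (g : K)
    rw [hst, hst, ← pow_mul] at this
    rw [Units.val_pow_eq_pow_val, this, pow_one]
  rw [pow_eq_pow_iff_modEq, hord, ← pow_add] at h3
  have hp1 := hpp.one_lt
  have hn0 : n ≠ 0 := by
    intro h0
    obtain ⟨a, ha⟩ := hne
    exact ha (by rw [hst, h0, pow_zero, pow_one])
  have hmod : ∀ k, k < d → p ^ k ≡ 1 [MOD p ^ d - 1] → k = 0 := by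
    intro k hk h
    by_contra hk0
    have h4 : 1 < p ^ k := Nat.one_lt_pow hk0 hp1
    have h5 : p ^ k < p ^ d := Nat.pow_lt_pow_right hp1 hk
    have h6 := (Nat.modEq_iff_dvd' (by omega)).1 h.symm
    have h7 := Nat.le_of_dvd (by omega) h6
    omega
  have h4 : d = n + n := by
    rcases Nat.lt_or_ge (n + n) d with h | h
    · have := hmod _ h h3
      omega
    · have h5 : p ^ (n + n) ≡ p ^ (n + n - d) [MOD p ^ d - 1] := by
        have h6 : p ^ (n + n) = p ^ d * p ^ (n + n - d) := by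
          rw [← pow_add]
          congr 1
          omega
        have h7 : p ^ d ≡ 1 [MOD p ^ d - 1] := by
          have h8 : 1 ≤ p ^ d := Nat.one_le_pow _ _ hpp.pos
          have h9 : p ^ d = (p ^ d - 1) + 1 := by omega
          conv_lhs => rw [h9]
          exact Nat.add_modEq_left
        rw [h6]
        have := h7.mul_right (p ^ (n + n - d))
        rwa [one_mul] at this
      have h6 := hmod _ (by omega) (h5.symm.trans h3)
      omega
  refine ⟨p ^ n, ?_, hst⟩
  rw [hK, ← pow_mul, h4]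
  congr 1
  omega

variable {F : Type} [Field F] [Fintype F] {n q : ℕ} {K : Type} [Field K] [Fintype K] [Algebra F K]
  [Module K (Fin n → F)] [IsScalarTower F K (Fin n → F)]

/-- nondegeneracy -/
theorem smul_unique (hF : Fintype.card F = q ^ 2) (hn : 0 < n) {b b' : K}
    (h : ∀ v w : Fin n → F, hermForm n F q v (b • w) = hermForm n F q v (b' • w)) : b = b' := by
  let w : Fin n → F := Pi.single ⟨0, hn⟩ 1
  have hw : w ≠ 0 := by
    intro h0
    have h1 : (Pi.single ⟨0, hn⟩ 1 : Fin n → F) ⟨0, hn⟩ = 0 := congrFun h0 ⟨0, hn⟩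
    rw [Pi.single_eq_same] at h1
    exact one_ne_zero h1
  have h1 : (b - b') • w = 0 := by
    rw [sub_smul]
    apply herm_nondeg hF
    intro v
    apply herm_eq_zero_swap hF
    rw [herm_sub_right hF, h, sub_self]
  rcases smul_eq_zero.1 h1 with h2 | h2
  · exact sub_eq_zero.1 h2
  · exact absurd h2 hw

/-- the adjoint is an automorphism of the field -/
theorem exists_adj (hF : Fintype.card F = q ^ 2) (hn : 0 < n)
    (h : ∀ a : K, ∃ b : K, ∀ v w : Fin n → F, hermForm n F q (a • v) w = hermForm n F q v (b • w)) :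
    ∃ σ : K ≃+* K, (∀ (a : K) (v w : Fin n → F), hermForm n F q (a • v) w = hermForm n F q v (σ a • w)) ∧
      (∀ c : F, σ (algebraMap F K c) = algebraMap F K (c ^ q)) ∧ ∀ a, σ (σ a) = a := by
  choose f hf using h
  have hff : ∀ a, f (f a) = a := by
    intro a
    apply smul_unique hF hn
    intro v w
    rw [← hf, herm_swap hF w (f a • v), ← hf, ← herm_swap hF]
  have hadd : ∀ a b, f (a + b) = f a + f b := by
    intro a b
    apply smul_unique hF hn
    intro v w
    rw [← hf, add_smul, add_smul, herm_add_left, herm_add_right hF, hf, hf]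
  have hmul : ∀ a b, f (a * b) = f a * f b := by
    intro a b
    apply smul_unique hF hn
    intro v w
    rw [← hf, mul_smul, mul_comm (f a), mul_smul, hf, hf]
  refine ⟨{ toFun := f, invFun := f, left_inv := hff, right_inv := hff, map_mul' := hmul, map_add' := hadd },
    hf, ?_, hff⟩
  intro c
  change f (algebraMap F K c) = _
  apply smul_unique hF hn
  intro v w
  rw [← hf, algebraMap_smul, algebraMap_smul, herm_smul_left, herm_smul_right, pow_q_pow_q hF]

/-- the trace form -/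
theorem trace_unique {c c' : K} (h : ∀ a : K, Algebra.trace F K (c * a) = Algebra.trace F K (c' * a)) : c = c' := by
  have : FiniteDimensional F K := Module.Finite.of_finite
  have hnd := traceForm_nondegenerate F K
  rw [← sub_eq_zero]
  apply hnd.1
  intro l
  rw [Algebra.traceForm_apply, sub_mul, map_sub, h, sub_self]

theorem exists_trace (φ : K →ₗ[F] F) : ∃ c : K, ∀ a : K, Algebra.trace F K (c * a) = φ a := by
  have : FiniteDimensional F K := Module.Finite.of_finite
  have hnd := traceForm_nondegenerate F K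
  refine ⟨((Algebra.traceForm F K).toDual hnd).symm φ, fun l => ?_⟩
  have h1 := LinearMap.congr_fun (LinearEquiv.apply_symm_apply ((Algebra.traceForm F K).toDual hnd) φ) l
  rw [LinearMap.BilinForm.toDual_def, Algebra.traceForm_apply] at h1
  exact h1

/-- **Box E6a.** -/
theorem kstruct (hF : Fintype.card F = q ^ 2) (hn : 0 < n)
    (h : ∀ a : K, ∃ b : K, ∀ v w : Fin n → F, hermForm n F q (a • v) w = hermForm n F q v (b • w)) :
    ∃ l m : ℕ, n = m * l ∧ Odd l ∧ Fintype.card K = (q ^ l) ^ 2 ∧ Module.finrank F K = l ∧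
      ∃ ψ : (Fin m → K) ≃ₗ[K] (Fin n → F), ∀ a b : Fin m → K,
        hermForm n F q (ψ a) (ψ b) = Algebra.trace F K (hermForm m K (q ^ l) a b) := by
  classical
  have hfd : FiniteDimensional F K := Module.Finite.of_finite
  have hfdV : FiniteDimensional K (Fin n → F) := Module.Finite.of_finite
  have hinj : Function.Injective (algebraMap F K) := (algebraMap F K).injective
  obtain ⟨σ, hadj, halg, hinv⟩ := exists_adj hF hn h
  obtain ⟨c₀, hc₀⟩ := exists_not_fixed hF
  obtain ⟨Q, hQ, hσQ⟩ := inv_eq_pow σ hinv ⟨algebraMap F K c₀, fun h1 => hc₀ (hinj (by rw [← halg, h1]))⟩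
  set l := finrank F K with hl
  have hcK : Fintype.card K = (q ^ l) ^ 2 := by
    rw [Module.card_eq_pow_finrank (K := F) (V := K), hF, ← hl, ← pow_mul, ← pow_mul, mul_comm]
  have hQl : Q = q ^ l := by
    have h1 : Q ^ 2 = (q ^ l) ^ 2 := by rw [← hQ, hcK]
    exact Nat.pow_left_injective (by norm_num : 2 ≠ 0) h1
  subst hQl
  have hodd : Odd l := by
    by_contra hev
    rw [Nat.not_odd_iff_even] at hev
    obtain ⟨k, hk⟩ := hev
    apply hc₀
    apply hinj
    rw [← halg, hσQ, ← map_pow]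
    congr 1
    have h3 : ∀ t : ℕ, c₀ ^ (q ^ (2 * t)) = c₀ := by
      intro t
      rw [pow_mul, ← hF]
      exact FiniteField.pow_card_pow t c₀
    rw [hk, ← two_mul]
    exact h3 k
  -- the form
  let φ : (Fin n → F) → (Fin n → F) → K →ₗ[F] F := fun v w =>
    { toFun := fun a => hermForm n F q (a • v) w
      map_add' := fun a b => by rw [add_smul, herm_add_left]
      map_smul' := fun a b => by rw [smul_assoc, herm_smul_left, RingHom.id_apply, smul_eq_mul] }
  choose H hH using fun v w => exists_trace (φ v w)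
  have hH' : ∀ v w a, Algebra.trace F K (H v w * a) = hermForm n F q (a • v) w := fun v w a => hH v w a
  have htr : ∀ a, Algebra.trace F K (σ a) = (Algebra.trace F K a) ^ q := by
    intro a
    have h1 := Algebra.trace_eq_of_equiv_equiv (conj hF) σ (by
      ext r
      exact (halg r).symm) a
    rw [h1, ← conj_apply hF, RingEquiv.apply_symm_apply]
  have hHerm : HermF (σ : K →+* K) H := by
    refine ⟨fun u u' v => ?_, fun c u v => ?_, fun u v => ?_, fun u hu => ?_⟩
    · apply trace_unique (F := F)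
      intro a
      rw [add_mul, map_add, hH', hH', hH', smul_add, herm_add_left]
    · apply trace_unique (F := F)
      intro a
      rw [hH', mul_comm c, mul_assoc, hH', mul_comm c a, mul_smul]
    · apply trace_unique (F := F)
      intro a
      rw [hH']
      change _ = Algebra.trace F K (σ (H u v) * a)
      have h1 : σ (H u v) * a = σ (H u v * σ a) := by rw [map_mul, hinv]
      rw [h1, htr, hH', ← herm_swap hF, ← hadj]
    · apply herm_nondeg hF
      intro v
      have h1 := hH' u v 1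
      rw [hu, zero_mul, map_zero, one_smul] at h1
      exact h1.symm
  have hσ1 : (σ : K →+* K) ≠ RingHom.id K := by
    intro h1
    apply hc₀
    apply hinj
    rw [← halg]
    exact RingHom.congr_fun h1 _
  obtain ⟨ψ, hψ⟩ := HermF.exists_iso hσ1 (fun a => hinv a) (q := q ^ l) (fun x => hσQ x) hHerm (n := finrank K (Fin n → F)) rfl
  refine ⟨l, finrank K (Fin n → F), ?_, hodd, hcK, rfl, ψ, fun a b => ?_⟩
  · have hfr99 : Module.Free K (Fin n → F) := Module.Free.of_divisionRing _ _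
    have hst99 : IsScalarTower F K (Fin n → F) := by first | exact Subalgebra.isScalarTower_mid _ | infer_instance
    have h1 := Module.finrank_mul_finrank F K (Fin n → F)
    rw [Module.finrank_fin_fun, ← hl] at h1
    exact h1.symm.trans (mul_comm _ _)
  · rw [← hψ]
    have h1 := hH' (ψ a) (ψ b) 1
    rw [mul_one, one_smul] at h1
    exact h1.symm

end Cfsg.Agent.H398.RC
end

-- part: H398/RC/FieldSU
section
set_option linter.all false
open scoped Cfsg.Agent.FastGrp

/-!
# S3510, family E, box E6b: extension field subgroups `SU_m(q^l) ≤ SU_n(q)` (helper398)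
-/

set_option autoImplicit false
set_option linter.unusedSectionVars false

namespace Cfsg.Agent.H398.RC

open Matrix Module Cfsg Cfsg.Agent.LieClassical.HermBasic Cfsg.Agent.LieClassical.HermSiegel Cfsg.Agent.H106.RC
  Cfsg.Agent.H380.RC MulAction Cfsg.Agent.ClassicalGeometry.PSUAutBasic Cfsg.Agent.ClassicalGeometry.PSUAutCount
  Cfsg.Agent.ClassicalGeometry

section su

variable {K : Type*} [Field K] [Fintype K] {m Q : ℕ}

theorem perf_su (hK : Fintype.card K = Q ^ 2) (hm : 3 ≤ m) (h32 : ¬ (m = 3 ∧ Q = 2)) :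
    commutator (SU m K Q) = ⊤ := Cfsg.Agent.LieClassical.HermPerfect.commutator_SU_eq_top hK hm h32

theorem simple_psu (hK : Fintype.card K = Q ^ 2) (hm : 3 ≤ m) (h32 : ¬ (m = 3 ∧ Q = 2)) :
    IsSimpleGroup (PSU m K Q) := Cfsg.Agent.S0283.result hK m hm h32

theorem notComm_psu (hK : Fintype.card K = Q ^ 2) (hm : 3 ≤ m) (h32 : ¬ (m = 3 ∧ Q = 2)) :
    ¬ IsMulCommutative (PSU m K Q) := by
  intro hcon
  have hs := simple_psu hK hm h32
  have h1 := perf_su hK hm h32
  have h2 : commutator (SU m K Q) ≤ Subgroup.center (SU m K Q) := by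
    rw [commutator_def, Subgroup.commutator_le]
    intro g _ h _
    rw [← pr_eq_one_iff, commutatorElement_def, map_mul, map_mul, map_mul, map_inv, map_inv,
      hcon.1.1 _ (pr m K Q h)]
    group
  rw [h1] at h2
  obtain ⟨x, hx⟩ := exists_ne (1 : PSU m K Q)
  obtain ⟨y, rfl⟩ := pr_surjective x
  exact hx (pr_eq_one_iff.2 (h2 (Subgroup.mem_top _)))

end su

section fld

variable {F : Type} [Field F] [Fintype F] {n q : ℕ} {K : Type} [Field K] [Fintype K] [Algebra F K]
  [Module K (Fin n → F)] [IsScalarTower F K (Fin n → F)] {m l : ℕ}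

/-- the structure of `V` over `K` -/
structure KS (q l : ℕ) (ψ : (Fin m → K) ≃ₗ[K] (Fin n → F)) : Prop where
  hF : Fintype.card F = q ^ 2
  hK : Fintype.card K = (q ^ l) ^ 2
  hm : 3 ≤ m
  h32 : ¬ (m = 3 ∧ q ^ l = 2)
  tr : ∀ a b : Fin m → K, hermForm n F q (ψ a) (ψ b) = Algebra.trace F K (hermForm m K (q ^ l) a b)

variable {ψ : (Fin m → K) ≃ₗ[K] (Fin n → F)}

/-- the `F`-linear map of an element of `SU_m(K)` -/
noncomputable def toEnd (l : ℕ) (q : ℕ) (ψ : (Fin m → K) ≃ₗ[K] (Fin n → F)) :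
    SU m K (q ^ l) →* Module.End F (Fin n → F) where
  toFun s :=
    { toFun := fun v => ψ (act s (ψ.symm v))
      map_add' := fun v w => by rw [map_add, act_add, map_add]
      map_smul' := fun c v => by
        rw [RingHom.id_apply, ← algebraMap_smul K c v, map_smul, act_smul, map_smul, algebraMap_smul] }
  map_one' := by
    refine LinearMap.ext fun v => ?_
    change ψ (act 1 (ψ.symm v)) = v
    rw [act_one, LinearEquiv.apply_symm_apply]
  map_mul' s t := by
    refine LinearMap.ext fun v => ?_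
    change ψ (act (s * t) (ψ.symm v)) = ψ (act s (ψ.symm (ψ (act t (ψ.symm v)))))
    rw [act_mul, LinearEquiv.symm_apply_apply]

theorem toEnd_apply (s : SU m K (q ^ l)) (v : Fin n → F) : toEnd l q ψ s v = ψ (act s (ψ.symm v)) := rfl

variable (h : KS q l ψ)
include h

theorem KS.det (s : SU m K (q ^ l)) : LinearMap.det (toEnd l q ψ s) = 1 := by
  let D : SU m K (q ^ l) →* Fˣ := MonoidHom.toHomUnits (LinearMap.det.comp (toEnd l q ψ))
  have h1 : s ∈ commutator (SU m K (q ^ l)) := by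
    rw [perf_su h.hK h.hm h.h32]
    trivial
  have h2 : s ∈ D.ker := Abelianization.commutator_subset_ker D h1
  have h3 := congrArg Units.val (MonoidHom.mem_ker.1 h2)
  exact h3

theorem KS.herm (s : SU m K (q ^ l)) (v w : Fin n → F) :
    hermForm n F q (ψ (act s (ψ.symm v))) (ψ (act s (ψ.symm w))) = hermForm n F q v w := by
  rw [h.tr, herm_act, ← h.tr, LinearEquiv.apply_symm_apply, LinearEquiv.apply_symm_apply]

/-- the embedding `SU_m(K) → SU_n(F)` -/
noncomputable def KS.phi : SU m K (q ^ l) →* SU n F q where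
  toFun s := mkSU (LinearMap.toMatrix' (toEnd l q ψ s)) (by rw [LinearMap.det_toMatrix', h.det]) (by
    intro v w
    rw [LinearMap.toMatrix'_mulVec, LinearMap.toMatrix'_mulVec, toEnd_apply, toEnd_apply, h.herm])
  map_one' := by
    apply ext_act
    intro v
    change LinearMap.toMatrix' (toEnd l q ψ 1) *ᵥ v = _
    rw [LinearMap.toMatrix'_mulVec, map_one, act_one]
    rfl
  map_mul' s t := by
    apply ext_act
    intro v
    rw [act_mul]
    change LinearMap.toMatrix' (toEnd l q ψ (s * t)) *ᵥ v =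
      LinearMap.toMatrix' (toEnd l q ψ s) *ᵥ (LinearMap.toMatrix' (toEnd l q ψ t) *ᵥ v)
    rw [LinearMap.toMatrix'_mulVec, LinearMap.toMatrix'_mulVec, LinearMap.toMatrix'_mulVec, map_mul]
    rfl

theorem KS.act_phi (s : SU m K (q ^ l)) (v : Fin n → F) : act (h.phi s) v = ψ (act s (ψ.symm v)) := by
  change LinearMap.toMatrix' (toEnd l q ψ s) *ᵥ v = _
  rw [LinearMap.toMatrix'_mulVec, toEnd_apply]

theorem KS.act_phi' (s : SU m K (q ^ l)) (a : Fin m → K) : act (h.phi s) (ψ a) = ψ (act s a) := by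
  rw [h.act_phi, LinearEquiv.symm_apply_apply]

/-- an `F`-linear isometry commuting with `K` is in `GU_m(K)` -/
theorem KS.exists_gu {f f' : (Fin n → F) → (Fin n → F)} (hadd : ∀ v w, f (v + w) = f v + f w)
    (hK : ∀ (a : K) (v : Fin n → F), f (a • v) = a • f v)
    (hiso : ∀ v w, hermForm n F q (f v) (f w) = hermForm n F q v w)
    (h1 : ∀ v, f (f' v) = v) (h2 : ∀ v, f' (f v) = v) :
    ∃ A : Cfsg.GU m K (q ^ l), ∀ a : Fin m → K, ψ (gm A *ᵥ a) = f (ψ a) := by
  let g : (Fin m → K) →ₗ[K] (Fin m → K) :=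
    { toFun := fun a => ψ.symm (f (ψ a))
      map_add' := fun a b => by rw [map_add, hadd, map_add]
      map_smul' := fun c a => by rw [map_smul, hK, map_smul, RingHom.id_apply] }
  have hadd' : ∀ v w, f' (v + w) = f' v + f' w := by
    intro v w
    conv_lhs => rw [← h1 v, ← h1 w, ← hadd, h2]
  have hK' : ∀ (a : K) (v : Fin n → F), f' (a • v) = a • f' v := by
    intro a v
    conv_lhs => rw [← h1 v, ← hK, h2]
  let g' : (Fin m → K) →ₗ[K] (Fin m → K) :=
    { toFun := fun a => ψ.symm (f' (ψ a))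
      map_add' := fun a b => by rw [map_add, hadd', map_add]
      map_smul' := fun c a => by rw [map_smul, hK', map_smul, RingHom.id_apply] }
  have hg : ∀ a, g a = ψ.symm (f (ψ a)) := fun _ => rfl
  have hg' : ∀ a, g' a = ψ.symm (f' (ψ a)) := fun _ => rfl
  have e1 : g.comp g' = LinearMap.id := by
    apply LinearMap.ext
    intro a
    rw [LinearMap.comp_apply, hg, hg', LinearEquiv.apply_symm_apply, h1, LinearEquiv.symm_apply_apply]
    rfl
  have e2 : g'.comp g = LinearMap.id := by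
    apply LinearMap.ext
    intro a
    rw [LinearMap.comp_apply, hg, hg', LinearEquiv.apply_symm_apply, h2, LinearEquiv.symm_apply_apply]
    rfl
  have hform : ∀ a b, hermForm m K (q ^ l) (g a) (g b) = hermForm m K (q ^ l) a b := by
    intro a b
    apply trace_unique (F := F)
    intro c
    have e3 : ∀ x y : Fin m → K, Algebra.trace F K (hermForm m K (q ^ l) x y * c) = hermForm n F q (c • ψ x) (ψ y) := by
      intro x y
      rw [mul_comm, ← herm_smul_left, ← h.tr, map_smul]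
    rw [e3, e3, hg, hg, LinearEquiv.apply_symm_apply, LinearEquiv.apply_symm_apply, ← hK, hiso]
  let A0 : GL (Fin m) K := ⟨LinearMap.toMatrix' g, LinearMap.toMatrix' g', by
    rw [← LinearMap.toMatrix'_comp, e1, LinearMap.toMatrix'_id], by
    rw [← LinearMap.toMatrix'_comp, e2, LinearMap.toMatrix'_id]⟩
  have hA0 : ∀ a, ((A0 : GL (Fin m) K) : Matrix (Fin m) (Fin m) K) *ᵥ a = g a := fun a => by
    change LinearMap.toMatrix' g *ᵥ a = _
    rw [LinearMap.toMatrix'_mulVec]
  refine ⟨⟨A0, ?_⟩, fun a => ?_⟩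
  · rw [mem_GU_iff]
    intro u v
    rw [hA0, hA0, hform]
  · change ψ ((A0 : Matrix (Fin m) (Fin m) K) *ᵥ a) = _
    rw [hA0, hg, LinearEquiv.apply_symm_apply]

end fld

end Cfsg.Agent.H398.RC
end
end
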