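import Cfsg.Agent.H398.RC.FieldSU
import Cfsg.Agent.S0822
import Cfsg.Agent.H993.RC.TwoDefs_m3
import Cfsg.Agent.CpAutU.Fixed
import Cfsg.Agent.LieClassical.HermPerfect
import Cfsg.Agent.H202.RC.Point_mg_m3
import Cfsg.Agent.LieRecognition.FieldSemilinear
import Cfsg.Agent.H579.RC.CaseTwoFinal_m3
import Cfsg.Agent.H93.RC.BoxB3_m3
import Cfsg.Agent.H385.RC.Dec_mg_m3
import Cfsg.Agent.H686.SR.Dye
import Cfsg.Agent.H236.RC.Ident
import Cfsg.Agent.H578.RC.One_m3
import Cfsg.Agent.H810.RC.Core_mg_m3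
import Cfsg.Agent.H67.RC.RowOdd_m3
import Cfsg.Agent.H989.OkuboRoot
import Cfsg.Agent.Lib.Zsigmondy
import Cfsg.Agent.H377.OddThree_m3
import Cfsg.Agent.H568.RowTools_m3
import Cfsg.Agent.H955.QClass
import Cfsg.Agent.S0293
import Cfsg.Agent.H890.SpIndex
import Cfsg.Agent.ClassicalGeometry.TwoFamilies
import Cfsg.Agent.FastGrp
import Cfsg.Agent.Prune
set_option linter.all false

section
prune_inst 0x7ffcecf9abb819dfdfff7e7fa6dccffdd8b93fffa4dff9cbbfe02bcf0b9f4b0009452b8d0be000fe1ec2401410e87b43f9ffeeffe06bdc7ffffd5df41ffbfe0ffdf7b508519488340f340ff603f0778e7f3fffffffffffffffffffffffffffaeffbfffffffff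

-- part: H398/RC/RowU
section
prune_inst 0x3010210406000000000000100000027020000422000000000000010600008c4808020800880000100220000100000000010000200000000000000000001c00000000000400000008800000000000000000000000000000000000000000000000000000000
set_option linter.all false
open scoped Cfsg.Agent.FastGrp

-- part: H380/RC/Final
section
/-!
# S3510, family E: the row for `PSU n F q` from the boxes (helper380)
-/

set_option autoImplicit false

namespace Cfsg.Agent.H380.RC

open Cfsg Cfsg.Agent.LieClassical.HermBasic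

/-- the case of a graph involution -/
theorem caseGraph (hg : GFormStmt) (ha : GraphAlt) (hs : GraphSym) (he : GraphEven) : CaseGraph := by
  intro G Ω _ _ _ _ _ N F _ _ n q U ι _ x f r hfam hcov h
  obtain ⟨h42, ⟨i₀, h1, h2, h3⟩, hIH⟩ := h
  obtain ⟨T, hT⟩ := hg U x f r hfam i₀ h1 h2 h3
  by_cases halt : ∀ v, T v = v → hermForm n F q v v = 0
  · exact ha U x f r hfam hcov ⟨h42, hIH, i₀, T, hT, halt⟩
  · push Not at halt
    rcases Nat.even_or_odd q with hq | hq
    · exact he U x f r hfam hcov ⟨hq, h42, hIH, i₀, T, hT, halt⟩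
    · exact hs U x f r hfam hcov ⟨hq, hIH, i₀, T, hT, halt⟩

/-- **No covers for `PSU n F q`.** -/
theorem noCov_psu (hlift : LiftStmt) (h1 : CaseOne) (h2 : CaseTwo) (h3 : CaseField) (h4 : CaseGraph)
    {F : Type} [Field F] [Fintype F] {n q : ℕ} (hF : Fintype.card F = q ^ 2) (hn : 3 ≤ n) (h32 : ¬ (n = 3 ∧ q = 2))
    (h42 : ¬ (n = 4 ∧ q = 2)) (hIH : H106.RC.IH (Nat.card (PSU n F q))) {S : Type} [Group S] (e : S ≃* PSU n F q) :
    H106.RC.NoCov S := by
  intro G _ _ Ω _ _ _ N hE eN ι _ x r hpf hcov _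
  obtain ⟨U⟩ : Nonempty (UEnv G Ω N F n q) := ⟨⟨hE, eN.trans e, hF, hn, h32⟩⟩
  obtain ⟨f, hf⟩ := hlift U x r hpf
  by_cases hlin : ∀ i, Lin (f i)
  · by_cases hr : ∀ i, (r i).Coprime q
    · exact h1 U x f r hf hcov ⟨h42, hlin, hr, hIH⟩
    · push Not at hr
      exact h2 U x f r hf hcov ⟨h42, hlin, hr, hIH⟩
  · by_cases hodd : ∃ i, ¬ Lin (f i) ∧ r i ≠ 2
    · exact h3 U x f r hf hcov ⟨h42, hodd, hIH⟩
    · push Not at hlin hodd
      obtain ⟨i₀, hi₀⟩ := hlin
      have hr2 := hodd i₀ hi₀
      refine h4 U x f r hf hcov ⟨h42, ⟨i₀, hi₀, hr2, fun j hj => ?_⟩, hIH⟩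
      by_contra hjl
      exact hj (hpf.inj ((hodd j hjl).trans hr2.symm))

/-- **The row for the unitary groups.** -/
theorem row_psu (hsp : H106.RC.Row (fun S _ => IsPSp S)) (hlift : LiftStmt) (h1 : CaseOne) (h2 : CaseTwo)
    (h3 : CaseField) (h4 : CaseGraph) : H106.RC.Row (fun S _ => IsPSU S) := by
  intro S _ _ hS hSn hP hE hIH
  have hP' := hP
  obtain ⟨F, _, _, n, q, hF, hn, h32, ⟨e⟩⟩ := hP'
  by_cases h42 : n = 4 ∧ q = 2
  · obtain ⟨rfl, rfl⟩ := h42
    obtain ⟨e'⟩ := S0822.result (F := F) (K := ZMod 3) (by rw [hF]; norm_num) (by rw [ZMod.card])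
    exact hsp S hS hSn ⟨ZMod 3, inferInstance, inferInstance, 2, by norm_num, by simp, ⟨e.trans e'⟩⟩ hE hIH
  · exact H106.RC.rc_of_noCov hS hSn
      (noCov_psu hlift h1 h2 h3 h4 hF hn h32 h42 (by rw [← Nat.card_congr e.toEquiv]; exact hIH) e)

end Cfsg.Agent.H380.RC
end

-- part: H398/RC/SetAlg
section
/-!
# S3510, family E, box E8: the algebra generated by commuting isometries of order prime to `q` (helper398)
-/

set_option autoImplicit false
set_option linter.unusedSectionVars false

namespace Cfsg.Agent.H398.RC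

open Module Cfsg Cfsg.Agent.LieClassical.HermBasic Cfsg.Agent.ClassicalGeometry Cfsg.Agent.H380.RC

section set

variable {F : Type} [Field F] [Fintype F] {n q : ℕ} {S : Set (Module.End F (Fin n → F))} {N : ℕ}

theorem set_comm_of_mem {a u : Module.End F (Fin n → F)} (hu : ∀ b ∈ S, u * b = b * u) (ha : a ∈ Algebra.adjoin F S) :
    u * a = a * u := by
  induction ha using Algebra.adjoin_induction with
  | mem x hx => exact hu x hx
  | algebraMap r => exact (Algebra.commutes r u).symm
  | add x y _ _ hx hy => rw [mul_add, add_mul, hx, hy]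
  | mul x y _ _ hx hy => rw [← mul_assoc, hx, mul_assoc, hy, mul_assoc]

theorem set_comm_mem (hS : ∀ a ∈ S, ∀ b ∈ S, a * b = b * a) {a b : Module.End F (Fin n → F)}
    (ha : a ∈ Algebra.adjoin F S) (hb : b ∈ Algebra.adjoin F S) : a * b = b * a :=
  set_comm_of_mem (fun c hc => (set_comm_of_mem (hS c hc) ha).symm) hb

theorem set_exists_adj (hF : Fintype.card F = q ^ 2) (hG : ∀ G ∈ S, ∀ v w, hermForm n F q (G v) (G w) = hermForm n F q v w)
    (hN : 0 < N) (hGN : ∀ G ∈ S, G ^ N = 1) {a : Module.End F (Fin n → F)} (ha : a ∈ Algebra.adjoin F S) :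
    ∃ b ∈ Algebra.adjoin F S, Adj q a b := by
  induction ha using Algebra.adjoin_induction with
  | mem x hx => exact ⟨_, pow_mem (Algebra.subset_adjoin hx) _, adj_iso (hG x hx) hN (hGN x hx)⟩
  | algebraMap r => exact ⟨_, Subalgebra.algebraMap_mem _ _, adj_algebraMap hF r⟩
  | add x y _ _ hx hy =>
    obtain ⟨b, hb, hb'⟩ := hx
    obtain ⟨c, hc, hc'⟩ := hy
    exact ⟨b + c, add_mem hb hc, hb'.add hF hc'⟩
  | mul x y _ _ hx hy =>
    obtain ⟨b, hb, hb'⟩ := hx
    obtain ⟨c, hc, hc'⟩ := hy
    exact ⟨c * b, mul_mem hc hb, hb'.mul hc'⟩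

theorem set_exists_pow [Nontrivial (Fin n → F)] (hF : Fintype.card F = q ^ 2) (hNq : N.Coprime q)
    (hS : ∀ a ∈ S, ∀ b ∈ S, a * b = b * a) (hGN : ∀ G ∈ S, G ^ N = 1) :
    ∃ Q, 2 ≤ Q ∧ ∀ a ∈ Algebra.adjoin F S, a ^ Q = a := by
  obtain ⟨p, k, hp, hk, hq⟩ : ∃ p k, p.Prime ∧ CharP F p ∧ q = p ^ k := by
    obtain ⟨p, hp⟩ := CharP.exists F
    have hpp : p.Prime := CharP.char_is_prime F p
    have : Fact p.Prime := ⟨hpp⟩
    obtain ⟨m, -, hm⟩ := FiniteField.card F p
    have h1 : q ∣ p ^ (m : ℕ) := by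
      rw [← hm, hF]
      exact Dvd.intro _ (sq q).symm
    obtain ⟨k, -, hk⟩ := (Nat.dvd_prime_pow hpp).1 h1
    exact ⟨p, k, hpp, hp, hk⟩
  have : Fact p.Prime := ⟨hp⟩
  have hq2 := two_le hF
  have hN0 : N ≠ 0 := by
    rintro rfl
    rw [Nat.coprime_zero_left] at hNq
    omega
  have hφ : 0 < N.totient := Nat.totient_pos.2 (Nat.pos_of_ne_zero hN0)
  have hcp : CharP (Module.End F (Fin n → F)) p :=
    charP_of_injective_algebraMap (algebraMap F (Module.End F (Fin n → F))).injective p
  have hQ : (q ^ 2) ^ N.totient = p ^ (k * 2 * N.totient) := by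
    rw [hq, ← pow_mul, ← pow_mul, mul_assoc]
  refine ⟨(q ^ 2) ^ N.totient, ?_, fun a ha => ?_⟩
  · calc 2 ≤ q := hq2
      _ ≤ q ^ 2 := Nat.le_self_pow (by norm_num) q
      _ ≤ (q ^ 2) ^ N.totient := Nat.le_self_pow hφ.ne' _
  · induction ha using Algebra.adjoin_induction with
    | mem x hx =>
      have h1 : (q ^ 2) ^ N.totient ≡ 1 [MOD N] := Nat.ModEq.pow_totient (Nat.Coprime.pow_left 2 hNq.symm)
      rw [pow_eq_pow_mod _ (hGN x hx), h1, ← pow_eq_pow_mod _ (hGN x hx), pow_one]
    | algebraMap r =>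
      rw [← map_pow, ← hF, FiniteField.pow_card_pow]
    | add x y hxm hym hx hy =>
      rw [hQ] at hx hy ⊢
      rw [add_pow_char_pow_of_commute p _ (set_comm_mem hS hxm hym), hx, hy]
    | mul x y hxm hym hx hy =>
      rw [(show Commute x y from set_comm_mem hS hxm hym).mul_pow, hx, hy]

/-- the adjoint involution -/
theorem set_exists_sigma (hF : Fintype.card F = q ^ 2) (hS : ∀ a ∈ S, ∀ b ∈ S, a * b = b * a)
    (hG : ∀ G ∈ S, ∀ v w, hermForm n F q (G v) (G w) = hermForm n F q v w)
    (hN : 0 < N) (hGN : ∀ G ∈ S, G ^ N = 1) :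
    ∃ σ : Algebra.adjoin F S ≃+* Algebra.adjoin F S, (∀ a : Algebra.adjoin F S, Adj q a.1 (σ a).1) ∧
      ∀ a, σ (σ a) = a := by
  have h1 : ∀ a : Algebra.adjoin F S, ∃ b : Algebra.adjoin F S, Adj q a.1 b.1 := by
    intro a
    obtain ⟨b, hb, hb'⟩ := set_exists_adj hF hG hN hGN a.2
    exact ⟨⟨b, hb⟩, hb'⟩
  choose s hs using h1
  have hss : ∀ a, s (s a) = a := fun a => Subtype.ext ((hs (s a)).unique hF ((hs a).symm hF))
  refine ⟨{ toFun := s, invFun := s, left_inv := hss, right_inv := hss, map_mul' := ?_, map_add' := ?_ }, hs, hss⟩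
  · intro a b
    apply Subtype.ext
    apply (hs (a * b)).unique hF
    change Adj q _ ((s a).1 * (s b).1)
    rw [set_comm_mem hS (s a).2 (s b).2]
    exact (hs a).mul (hs b)
  · intro a b
    apply Subtype.ext
    exact (hs (a + b)).unique hF ((hs a).add hF (hs b))

/-- an algebra of endomorphisms which is a field, closed under adjoints -/
structure FldAlg (q : ℕ) (R : Subalgebra F (Module.End F (Fin n → F))) : Prop where
  fld : IsField R
  adj : ∀ a ∈ R, ∃ b ∈ R, Adj q a b

/-- the split -/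
theorem set_split (hF : Fintype.card F = q ^ 2) (hn : 0 < n) (hS : ∀ a ∈ S, ∀ b ∈ S, a * b = b * a)
    (hG : ∀ G ∈ S, ∀ v w, hermForm n F q (G v) (G w) = hermForm n F q v w)
    (hNq : N.Coprime q) (hGN : ∀ G ∈ S, G ^ N = 1) :
    (∃ A : Submodule F (Fin n → F), NDeg q A ∧ A ≠ ⊥ ∧ A ≠ ⊤ ∧ ∀ G ∈ S, Stab G A) ∨
    (∃ W W' : Submodule F (Fin n → F), TS q W ∧ TS q W' ∧ IsCompl W W' ∧ ∀ G ∈ S, Stab G W ∧ Stab G W') ∨
    FldAlg q (Algebra.adjoin F S) := by
  classical
  have hq2 := two_le hF
  have hN : 0 < N := by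
    rcases Nat.eq_zero_or_pos N with h | h
    · rw [h, Nat.coprime_zero_left] at hNq
      omega
    · exact h
  have : Nontrivial (Fin n → F) := by
    have : Nonempty (Fin n) := ⟨⟨0, hn⟩⟩
    infer_instance
  obtain ⟨σ, hσ, hσσ⟩ := set_exists_sigma hF hS hG hN hGN
  obtain ⟨Q, hQ, hpow⟩ := set_exists_pow hF hNq hS hGN
  let _ : CommRing (Algebra.adjoin F S) :=
    { (inferInstance : Ring (Algebra.adjoin F S)) with mul_comm := fun a b => Subtype.ext (set_comm_mem hS a.2 b.2) }
  have : Nontrivial (Algebra.adjoin F S) := ⟨⟨0, 1, fun h => by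
    have h1 : (0 : Module.End F (Fin n → F)) = 1 := congrArg Subtype.val h
    exact zero_ne_one h1⟩⟩
  have : Finite (Module.End F (Fin n → F)) := Module.finite_of_finite F
  have : Finite (Algebra.adjoin F S) := Subtype.finite
  have hpow' : ∀ a : Algebra.adjoin F S, a ^ Q = a := fun a => Subtype.ext (by
    have := hpow a.1 a.2
    exact this)
  have hstab : ∀ (a : Algebra.adjoin F S), ∀ G ∈ S, Stab G (LinearMap.range a.1) ∧ Stab G (LinearMap.ker a.1) := by
    intro a G hGS
    have hcom : ∀ v, G (a.1 v) = a.1 (G v) := fun v =>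
      LinearMap.congr_fun (set_comm_mem hS (Algebra.subset_adjoin hGS) a.2) v
    constructor
    · rintro _ ⟨v, rfl⟩
      exact ⟨G v, (hcom v).symm⟩
    · intro v hv
      rw [LinearMap.mem_ker] at hv ⊢
      rw [← hcom, hv, map_zero]
  have hidm : ∀ a : Algebra.adjoin F S, a * a = a → a.1 * a.1 = a.1 := fun a ha => congrArg Subtype.val ha
  have hts : ∀ w : Algebra.adjoin F S, w * w = w → σ w = 1 - w →
      ∃ W W' : Submodule F (Fin n → F), TS q W ∧ TS q W' ∧ IsCompl W W' ∧ ∀ G ∈ S, Stab G W ∧ Stab G W' := by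
    intro w hw hσw
    have hE : w.1 * w.1 = w.1 := hidm w hw
    have hA : Adj q w.1 (1 - w.1) := by
      have h1 := hσ w
      rwa [hσw] at h1
    exact ⟨LinearMap.range w.1, LinearMap.ker w.1, ts_rng hE hA hF, ts_ker hA hF, compl_rng hE, hstab w⟩
  rcases idem_cases (R := Algebra.adjoin F S) hQ hpow' σ (RingEquiv.refl _) hσσ (fun _ => rfl) (fun _ => rfl) with
    hfield | ⟨s, hs, hs0, hs1, hσs, -⟩ | ⟨w, hw, hσw, -⟩ | ⟨w, hw, hσw, -⟩ | ⟨e, he, he0, -, hτe, -⟩
  · right; right
    refine ⟨⟨⟨0, 1, zero_ne_one⟩, fun x y => mul_comm x y, fun {x} hx => ⟨x ^ (Q - 2), ?_⟩⟩,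
      fun a ha => set_exists_adj hF hG hN hGN ha⟩
    rw [← pow_succ', show Q - 2 + 1 = Q - 1 by omega, hfield x hx]
  · left
    have hE : s.1 * s.1 = s.1 := hidm s hs
    have hA : Adj q s.1 s.1 := by
      have h1 := hσ s
      rwa [hσs] at h1
    refine ⟨LinearMap.range s.1, ndeg_rng hE hA hF, ?_, ?_, fun G hG => (hstab s G hG).1⟩
    · intro h1
      apply hs0
      apply Subtype.ext
      exact LinearMap.range_eq_bot.1 h1
    · intro h1
      apply hs1
      apply Subtype.ext
      apply LinearMap.ext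
      intro v
      have h2 : v ∈ LinearMap.range s.1 := by rw [h1]; trivial
      rw [mem_rng hE] at h2
      exact h2
  · exact Or.inr (Or.inl (hts w hw hσw))
  · exact Or.inr (Or.inl (hts w hw hσw))
  · exfalso
    apply he0
    have h1 : e = 1 - e := hτe
    have h2 : e * e = e * (1 - e) := by rw [← h1]
    rw [mul_sub, mul_one, he, sub_self] at h2
    exact h2

end set

end Cfsg.Agent.H398.RC
end

-- part: H398/RC/FldAlg
section
/-!
# S3510, family E, box E8: the case that the algebra is a field (helper398)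
-/

set_option autoImplicit false
set_option linter.unusedSectionVars false

namespace Cfsg.Agent.H398.RC

open Module Cfsg Cfsg.Agent.LieClassical.HermBasic Cfsg.Agent.ClassicalGeometry Cfsg.Agent.H380.RC

variable {F : Type} [Field F] [Fintype F] {n q : ℕ}

/-- a singular vector -/
theorem exists_sing (hF : Fintype.card F = q ^ 2) (hn : 2 ≤ n) : ∃ e : Fin n → F, e ≠ 0 ∧ hermForm n F q e e = 0 := by
  have hq2 := two_le hF
  obtain ⟨a, ha⟩ := _root_.Cfsg.Agent.LieClassical.HermBasic.exists_norm_eq hF (c := -1) (by rw [neg_pow_q hF, one_pow])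
  let i₀ : Fin n := ⟨0, by omega⟩
  let i₁ : Fin n := ⟨1, by omega⟩
  have h01 : i₀ ≠ i₁ := fun h => absurd (congrArg Fin.val h) (by norm_num [i₀, i₁])
  have e0 : (Pi.single i₀ 1 + Pi.single i₁ a : Fin n → F) i₀ = 1 := by
    rw [Pi.add_apply, Pi.single_eq_same, Pi.single_eq_of_ne h01, add_zero]
  have e1 : (Pi.single i₀ 1 + Pi.single i₁ a : Fin n → F) i₁ = a := by
    rw [Pi.add_apply, Pi.single_eq_same, Pi.single_eq_of_ne h01.symm, zero_add]
  refine ⟨Pi.single i₀ 1 + Pi.single i₁ a, ?_, ?_⟩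
  · intro h
    have h1 := congrFun h i₀
    rw [e0] at h1
    exact one_ne_zero h1
  · rw [herm_add_left, herm_single_left, herm_single_left, e0, e1, one_pow, one_mul, ha, add_neg_cancel]

variable {R : Subalgebra F (Module.End F (Fin n → F))}

/-- the field structure, the structure theorem -/
theorem FldAlg.dims (hF : Fintype.card F = q ^ 2) (hn : 0 < n) (hR : FldAlg q R) :
    ∃ (K : Type) (_ : Field K) (_ : Fintype K) (_ : Algebra F K) (_ : Module K (Fin n → F))
      (_ : IsScalarTower F K (Fin n → F)) (φ : K ≃ R) (l m : ℕ), (∀ (a : K) v, a • v = (φ a).1 v) ∧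
      (∀ a b, φ (a * b) = φ a * φ b) ∧
      (∀ a : K, ∃ b : K, ∀ v w : Fin n → F, hermForm n F q (a • v) w = hermForm n F q v (b • w)) ∧
      n = m * l ∧ Odd l ∧ Fintype.card K = (q ^ l) ^ 2 ∧ Nat.card R = (q ^ l) ^ 2 ∧ finrank F K = l ∧
      finrank K (Fin n → F) = m ∧
      ∃ ψ : (Fin m → K) ≃ₗ[K] (Fin n → F), ∀ a b : Fin m → K,
        hermForm n F q (ψ a) (ψ b) = Algebra.trace F K (hermForm m K (q ^ l) a b) := by
  have : Finite (Module.End F (Fin n → F)) := Module.finite_of_finite F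
  have : Finite R := Subtype.finite
  let _ : Field R := (hR.fld.toField : _)
  let _ : Fintype R := Fintype.ofFinite R
  let ι : F →+* R := algebraMap F R
  let _ : Algebra F R := (ι.toAlgebra :)
  let _ : Module R (Fin n → F) :=
    { smul := fun a v => a.1 v
      one_smul := fun v => rfl
      mul_smul := fun a b v => rfl
      smul_zero := fun a => map_zero a.1
      smul_add := fun a v w => map_add a.1 v w
      add_smul := fun a b v => rfl
      zero_smul := fun v => rfl }
  have hsm : ∀ (a : R) (v : Fin n → F), a • v = a.1 v := fun _ _ => rfl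
  have htow : IsScalarTower F R (Fin n → F) := ⟨fun c a v => by
    rw [Algebra.smul_def c]
    rfl⟩
  have hadj : ∀ a : R, ∃ b : R, ∀ v w : Fin n → F, hermForm n F q (a • v) w = hermForm n F q v (b • w) := by
    intro a
    obtain ⟨b, hb, hab⟩ := hR.adj a.1 a.2
    exact ⟨⟨b, hb⟩, hab⟩
  have hob_ := kstruct (K := R) hF hn hadj
  obtain ⟨l, m, h1, h2, h3, h4, ψ, hψ⟩ := hob_
  refine ⟨R, inferInstance, inferInstance, inferInstance, inferInstance, htow, Equiv.refl _, l, m, hsm,
    fun _ _ => rfl, hadj, h1, h2, h3, ?_, h4, ?_, ψ, hψ⟩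
  · rw [Nat.card_eq_fintype_card, h3]
  · rw [← ψ.finrank_eq, Module.finrank_fin_fun]

section plane

variable {K : Type} [Field K] [Fintype K] [Algebra F K] [Module K (Fin n → F)] [IsScalarTower F K (Fin n → F)] {Q : ℕ}

theorem plane_halves (hK : Fintype.card K = Q ^ 2) (ψ : (Fin 2 → K) ≃ₗ[K] (Fin n → F))
    (hψ : ∀ a b : Fin 2 → K, hermForm n F q (ψ a) (ψ b) = Algebra.trace F K (hermForm 2 K Q a b)) :
    ∃ W W' : Submodule F (Fin n → F), TS q W ∧ TS q W' ∧ IsCompl W W' ∧
      ∀ a : K, (∀ v ∈ W, a • v ∈ W) ∧ ∀ v ∈ W', a • v ∈ W' := by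
  obtain ⟨μ, hμ0, hμ⟩ := exists_norm_eq_ne hK (c := -1) (by rw [neg_pow_q hK, one_pow]) (neg_ne_zero.2 one_ne_zero)
  obtain ⟨c₀, hc₀⟩ := exists_not_fixed hK
  have hc0 : c₀ ≠ 0 := by
    rintro rfl
    exact hc₀ (zero_pow_q hK)
  obtain ⟨ζ, hζ⟩ : ∃ ζ, ζ = c₀ ^ Q * c₀⁻¹ := ⟨_, rfl⟩
  have hζ1 : ζ ≠ 1 := by
    intro h
    apply hc₀
    rw [h] at hζ
    field_simp at hζ
    exact hζ.symm
  have hζn : ζ * ζ ^ Q = 1 := by
    rw [hζ, mul_pow, pow_q_pow_q hK, inv_pow]
    have h1 : c₀ ^ Q ≠ 0 := pow_ne_zero _ hc0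
    field_simp
  let W : (Fin 2 → K) → Submodule F (Fin n → F) := fun u => (Submodule.span K {ψ u}).restrictScalars F
  have hW : ∀ u v, v ∈ W u ↔ ∃ a : K, a • ψ u = v := by
    intro u v
    rw [Submodule.restrictScalars_mem, Submodule.mem_span_singleton]
  have hTS : ∀ u, hermForm 2 K Q u u = 0 → TS q (W u) := by
    intro u hu v hv w hw
    obtain ⟨a, rfl⟩ := (hW u v).1 hv
    obtain ⟨b, rfl⟩ := (hW u w).1 hw
    rw [← map_smul, ← map_smul, hψ, herm_smul_left, herm_smul_right, hu, mul_zero, mul_zero, map_zero]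
  have hst : ∀ u (a : K), ∀ v ∈ W u, a • v ∈ W u := by
    intro u a v hv
    obtain ⟨b, rfl⟩ := (hW u v).1 hv
    exact (hW u _).2 ⟨a * b, mul_smul a b _⟩
  have hform : ∀ x : K, x * x ^ Q = -1 → hermForm 2 K Q ![1, x] ![1, x] = 0 := by
    intro x hx
    rw [herm_def, Fin.sum_univ_two]
    simp only [Matrix.cons_val_zero, Matrix.cons_val_one, one_pow, mul_one]
    rw [hx, add_neg_cancel]
  have hμζ : μ * ζ * (μ * ζ) ^ Q = -1 := by
    rw [mul_pow]
    calc μ * ζ * (μ ^ Q * ζ ^ Q) = (μ * μ ^ Q) * (ζ * ζ ^ Q) := by ring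
      _ = -1 := by rw [hμ, hζn, mul_one]
  have hne : μ * (ζ - 1) ≠ 0 := mul_ne_zero hμ0 (sub_ne_zero.2 hζ1)
  refine ⟨W ![1, μ], W ![1, μ * ζ], hTS _ (hform _ hμ), hTS _ (hform _ hμζ), ⟨?_, ?_⟩, fun a => ⟨hst _ a, hst _ a⟩⟩
  · rw [Submodule.disjoint_def]
    intro v h1 h2
    obtain ⟨a, ha⟩ := (hW _ v).1 h1
    obtain ⟨b, hb⟩ := (hW _ v).1 h2
    have h3 : a • (![1, μ] : Fin 2 → K) = b • ![1, μ * ζ] := by
      apply ψ.injective
      rw [map_smul, map_smul, ha, hb]
    have h4 := congrFun h3 0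
    have h5 := congrFun h3 1
    simp only [Pi.smul_apply, Matrix.cons_val_zero, Matrix.cons_val_one, smul_eq_mul, mul_one] at h4 h5
    have h6 : a * (μ * (ζ - 1)) = 0 := by
      rw [← h4] at h5
      linear_combination -h5
    rw [← ha, (mul_eq_zero.1 h6).resolve_right hne, zero_smul]
  · rw [codisjoint_iff, eq_top_iff]
    intro v _
    obtain ⟨w, rfl⟩ := ψ.surjective v
    rw [Submodule.mem_sup]
    obtain ⟨b, hb⟩ : ∃ b : K, b * (μ * (ζ - 1)) = w 1 - μ * w 0 := ⟨(w 1 - μ * w 0) / (μ * (ζ - 1)), div_mul_cancel₀ _ hne⟩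
    refine ⟨(w 0 - b) • ψ ![1, μ], (hW _ _).2 ⟨_, rfl⟩, b • ψ ![1, μ * ζ], (hW _ _).2 ⟨_, rfl⟩, ?_⟩
    rw [← map_smul, ← map_smul, ← map_add]
    congr 1
    funext i
    fin_cases i
    · simp
    · simp only [Pi.add_apply, Pi.smul_apply, smul_eq_mul, Fin.mk_one, Matrix.cons_val_one, Fin.isValue,
        Matrix.cons_val_fin_one]
      linear_combination hb

end plane

section field

/-- subalgebras of a finite field are fields -/
theorem isField_of_le {R R' : Subalgebra F (Module.End F (Fin n → F))} (h : IsField R) (hle : R' ≤ R) : IsField R' := by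
  have : Finite (Module.End F (Fin n → F)) := Module.finite_of_finite F
  have : Finite R' := Subtype.finite
  let j : R' → R := fun a => ⟨a.1, hle a.2⟩
  have hj : ∀ a b, j a = j b → a = b := fun a b hab => Subtype.ext (congrArg (fun x : R => x.1) hab)
  refine ⟨⟨0, 1, ?_⟩, fun x y => hj _ _ (h.mul_comm (j x) (j y)), fun {x} hx => ?_⟩
  · intro h0
    obtain ⟨a, b, hab⟩ := h.exists_pair_ne
    apply hab
    have h1 : (0 : Module.End F (Fin n → F)) = 1 := congrArg Subtype.val h0
    apply Subtype.ext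
    rw [← mul_one a.1, ← h1, mul_zero, ← mul_one b.1, ← h1, mul_zero]
  · have hx' : j x ≠ 0 := fun h0 => hx (hj _ _ (by rw [h0]; rfl))
    obtain ⟨y, hy⟩ := h.mul_inv_cancel hx'
    have hinj : Function.Injective fun z : R' => x * z := by
      intro z z' hzz
      have h1 : x.1 * z.1 = x.1 * z'.1 := congrArg Subtype.val hzz
      have h2 : y.1 * x.1 = 1 := by
        have h3 := (h.mul_comm y (j x)).trans hy
        exact congrArg Subtype.val h3
      apply Subtype.ext
      rw [← one_mul z.1, ← h2, mul_assoc, h1, ← mul_assoc, h2, one_mul]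
    obtain ⟨z, hz⟩ := (Finite.injective_iff_surjective.1 hinj) 1
    exact ⟨z, hz⟩

theorem FldAlg.le {R R' : Subalgebra F (Module.End F (Fin n → F))} (h : FldAlg q R) (hle : R' ≤ R)
    (hadj : ∀ a ∈ R', ∃ b ∈ R', Adj q a b) : FldAlg q R' := ⟨isField_of_le h.fld hle, hadj⟩

/-- (S4) of `StrStmt` -/
def SFour (q : ℕ) {ι : Type} (f : ι → (Fin n → F) → (Fin n → F)) : Prop :=
  ∃ (K : Type) (_ : Field K) (_ : Fintype K) (_ : Algebra F K) (_ : Module K (Fin n → F))
      (_ : IsScalarTower F K (Fin n → F)),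
      (∀ a : K, ∃ b : K, ∀ v w : Fin n → F, hermForm n F q (a • v) w = hermForm n F q v (b • w)) ∧
      (∀ (i : ι) (a : K) (v : Fin n → F), f i (a • v) = a • f i v) ∧ 1 < Module.finrank F K ∧
      3 ≤ Module.finrank K (Fin n → F)

theorem fld_split (hF : Fintype.card F = q ^ 2) (hn : 3 ≤ n) {ι : Type} {f : ι → Module.End F (Fin n → F)}
    (hS : ∀ i j, f i * f j = f j * f i) (hG : ∀ i v w, hermForm n F q (f i v) (f i w) = hermForm n F q v w)
    {N : ℕ} (hN : 0 < N) (hGN : ∀ i, f i ^ N = 1) (hR : FldAlg q (Algebra.adjoin F (Set.range f))) :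
    (∃ e : Fin n → F, e ≠ 0 ∧ hermForm n F q e e = 0 ∧ ∀ i, ∃ c : F, f i e = c • e) ∨
    (∃ W W' : Submodule F (Fin n → F), TS q W ∧ TS q W' ∧ IsCompl W W' ∧ ∀ i, Stab (f i) W ∧ Stab (f i) W') ∨
    SFour q (fun i => (f i : (Fin n → F) → (Fin n → F))) ∨
    (Odd n ∧ ∀ i, ScalOn (f i) ⊤ ∨ ∀ A : Submodule F (Fin n → F), Stab (f i) A → A = ⊥ ∨ A = ⊤) := by
  classical
  have hq2 := two_le hF
  have hfin : Finite (Module.End F (Fin n → F)) := Module.finite_of_finite F
  have hS' : ∀ a ∈ Set.range f, ∀ b ∈ Set.range f, a * b = b * a := by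
    rintro _ ⟨i, rfl⟩ _ ⟨j, rfl⟩
    exact hS i j
  have hmem : ∀ i, f i ∈ Algebra.adjoin F (Set.range f) := fun i => Algebra.subset_adjoin ⟨i, rfl⟩
  -- a field algebra of `F`-dimension one consists of scalars
  have hscal : ∀ {R : Subalgebra F (Module.End F (Fin n → F))}, Nat.card R = (q ^ 1) ^ 2 → ∀ a ∈ R,
      ∃ c : F, ∀ v, a v = c • v := by
    intro R hR a ha
    have : Finite R := Subtype.finite
    have hinj : Function.Injective (algebraMap F R) := by
      intro x y hxy
      have : Nontrivial (Fin n → F) := by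
        have : Nonempty (Fin n) := ⟨⟨0, by omega⟩⟩
        infer_instance
      have h2 : algebraMap F (Module.End F (Fin n → F)) x = algebraMap F (Module.End F (Fin n → F)) y :=
        congrArg Subtype.val hxy
      exact (algebraMap F (Module.End F (Fin n → F))).injective h2
    have hbij : Function.Bijective (algebraMap F R) := by
      rw [Nat.bijective_iff_injective_and_card]
      refine ⟨hinj, ?_⟩
      rw [hR, Nat.card_eq_fintype_card, hF, pow_one]
    obtain ⟨c, hc⟩ := hbij.2 ⟨a, ha⟩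
    refine ⟨c, fun v => ?_⟩
    have h3 : algebraMap F (Module.End F (Fin n → F)) c = a := congrArg Subtype.val hc
    rw [← h3, Module.algebraMap_end_apply]
  obtain ⟨K, _, _, _, _, _, φ, l, m, hφ, hφm, hadj, hnm, hodd, hcK, hcR, hl, hm, ψ, hψ⟩ := hR.dims hF (by omega)
  by_cases hl1 : l = 1
  · left
    subst hl1
    obtain ⟨e, he0, he⟩ := exists_sing hF (by omega : 2 ≤ n)
    refine ⟨e, he0, he, fun i => ?_⟩
    obtain ⟨c, hc⟩ := hscal hcR (f i) (hmem i)
    exact ⟨c, hc e⟩
  have hl3 : 3 ≤ l := by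
    obtain ⟨k, hk⟩ := hodd
    omega
  have hcomK : ∀ (i : ι) (a : K) (v : Fin n → F), f i (a • v) = a • f i v := by
    intro i a v
    rw [hφ, hφ]
    exact LinearMap.congr_fun (set_comm_mem hS' (hmem i) (φ a).2) v
  by_cases hm3 : 3 ≤ m
  · right; right; left
    exact ⟨K, inferInstance, inferInstance, inferInstance, inferInstance, inferInstance, hadj, hcomK,
      by omega, by omega⟩
  have hm0 : m ≠ 0 := by
    rintro rfl
    omega
  by_cases hm2 : m = 2
  · right; left
    subst hm2
    obtain ⟨W, W', h1, h2, h3, h4⟩ := plane_halves hcK ψ hψ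
    refine ⟨W, W', h1, h2, h3, fun i => ?_⟩
    obtain ⟨a, ha⟩ := φ.surjective ⟨f i, hmem i⟩
    have h5 : ∀ v, a • v = f i v := by
      intro v
      rw [hφ, ha]
    constructor
    · intro v hv
      rw [← h5]
      exact (h4 a).1 v hv
    · intro v hv
      rw [← h5]
      exact (h4 a).2 v hv
  have hm1 : m = 1 := by omega
  subst hm1
  rw [one_mul] at hnm
  subst hnm
  right; right
  by_cases hall : ∀ i, Algebra.adjoin F {f i} = Algebra.adjoin F (Set.range f) ∨ ScalOn (f i) ⊤
  · right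
    refine ⟨hodd, fun i => ?_⟩
    rcases hall i with h | h
    · right
      intro A hA
      by_cases h0 : A = ⊥
      · exact Or.inl h0
      · right
        obtain ⟨v, hv, hv0⟩ := A.ne_bot_iff.1 h0
        rw [eq_top_iff]
        intro w _
        obtain ⟨c, hc⟩ := (finrank_eq_one_iff_of_nonzero' v hv0).1 hm w
        have h1 : ∀ a ∈ Algebra.adjoin F {f i}, ∀ v ∈ A, a v ∈ A := by
          intro a ha
          induction ha using Algebra.adjoin_induction with
          | mem x hx =>
            rw [Set.mem_singleton_iff] at hx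
            rw [hx]
            exact hA
          | algebraMap r =>
            intro v hv
            rw [Module.algebraMap_end_apply]
            exact A.smul_mem r hv
          | add x y _ _ hx hy => intro v hv; exact A.add_mem (hx v hv) (hy v hv)
          | mul x y _ _ hx hy => intro v hv; exact hx _ (hy v hv)
        rw [← hc, hφ]
        exact h1 _ (by rw [h]; exact (φ c).2) v hv
    · exact Or.inl h
  · left
    push Not at hall
    obtain ⟨i, hi, hns⟩ := hall
    have hle : Algebra.adjoin F {f i} ≤ Algebra.adjoin F (Set.range f) :=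
      Algebra.adjoin_mono (by rintro _ rfl; exact ⟨i, rfl⟩)
    have hRi : FldAlg q (Algebra.adjoin F {f i}) := by
      refine hR.le hle fun a ha => set_exists_adj hF ?_ hN ?_ ha
      · rintro _ rfl
        exact hG i
      · rintro _ rfl
        exact hGN i
    obtain ⟨K', _, _, _, _, _, φ', l', m', hφ', -, hadj', hnm', hodd', hcK', hcR', hl', hm', -⟩ := hRi.dims hF (by omega)
    refine ⟨K', inferInstance, inferInstance, inferInstance, inferInstance, inferInstance, hadj', ?_, ?_, ?_⟩
    · intro j a v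
      change f j (a • v) = a • f j v
      rw [hφ', hφ']
      exact LinearMap.congr_fun (set_comm_mem hS' (hmem j) (hle (φ' a).2)) v
    · rw [hl']
      have h1 : l' ≠ 1 := by
        rintro rfl
        apply hns
        obtain ⟨c, hc⟩ := hscal hcR' (f i) (Algebra.subset_adjoin rfl)
        exact ⟨c, fun v _ => hc v⟩
      obtain ⟨k, hk⟩ := hodd'
      omega
    · rw [hm']
      have h1 : m' ≠ 1 := by
        rintro rfl
        apply hi
        rw [one_mul] at hnm'
        have : Finite (Algebra.adjoin F (Set.range f)) := Subtype.finite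
        have h2 : Nat.card (Algebra.adjoin F (Set.range f)) ≤ Nat.card (Algebra.adjoin F {f i}) := by
          rw [hcR, hcR', hnm']
        exact SetLike.coe_injective (Set.eq_of_subset_of_ncard_le hle h2 (Set.toFinite _))
      have h2 : m' ≠ 2 := by
        rintro rfl
        obtain ⟨k, hk⟩ := hodd
        omega
      have h3 : m' ≠ 0 := by
        rintro rfl
        omega
      omega

end field

end Cfsg.Agent.H398.RC
end

-- part: H743/RC/Red
section
/-!
# S3510, family E, box E8: the reducible case (helper743)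

An invariant nondegenerate subspace `A ≠ 0, V` gives (S1), (S2), (S5) or (S6).
-/

set_option autoImplicit false

namespace Cfsg.Agent.H743.RC

open Module Cfsg Cfsg.Agent.H380.RC Cfsg.Agent.LieClassical.HermBasic Cfsg.Agent.ClassicalGeometry.HermOrtho

variable {F : Type*} [Field F] [Fintype F] {n q : ℕ} {A : Submodule F (Fin n → F)}

local notation "h" => hermForm n F q

/-- a common singular eigenvector -/
def SOne (q : ℕ) {ι : Type*} (f : ι → (Fin n → F) → (Fin n → F)) : Prop :=
  ∃ e : Fin n → F, e ≠ 0 ∧ hermForm n F q e e = 0 ∧ ∀ i, ∃ c : F, f i e = c • e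

/-- a large invariant nondegenerate subspace -/
def STwo (q : ℕ) {ι : Type*} (f : ι → (Fin n → F) → (Fin n → F)) : Prop :=
  ∃ A : Submodule F (Fin n → F), NDeg q A ∧ A ≠ ⊤ ∧ 3 ≤ Module.finrank F A ∧
      ¬ (Module.finrank F A = 3 ∧ q = 2) ∧ ∀ i, Stab (f i) A

/-- an orthonormal frame of common eigenvectors -/
def SFive (q : ℕ) {ι : Type*} (f : ι → (Fin n → F) → (Fin n → F)) : Prop :=
  n = 3 ∧ ∃ w : Fin 3 → (Fin n → F), (∀ i j, hermForm n F q (w i) (w j) = if i = j then 1 else 0) ∧
      ∀ i j, ∃ c : F, f i (w j) = c • w j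

/-- orders dividing nine -/
def SSix (q : ℕ) {ι : Type*} (f : ι → (Fin n → F) → (Fin n → F)) : Prop := q = 2 ∧ ∀ i v, (f i)^[9] v = v

/-- a line: a unit vector which is an eigenvector -/
theorem line (hF : Fintype.card F = q ^ 2) (hA : NDeg q A) (h1 : finrank F A = 1)
    {ι : Type*} {f : ι → (Fin n → F) → (Fin n → F)} (hs : ∀ i, Stab (f i) A) :
    ∃ w ∈ A, h w w = 1 ∧ (∀ v ∈ A, v = h v w • w) ∧ ∀ i, ∃ c : F, f i w = c • w := by
  obtain ⟨u, huA, hu⟩ := exists_orthonormal hF A hA h1
  have hexp : ∀ v ∈ A, v = h v (u 0) • u 0 := by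
    intro v hv
    conv_lhs => rw [eq_sum_of_orthonormal A (by simpa using h1) huA hu hv]
    rw [Fin.sum_univ_one]
  refine ⟨u 0, huA 0, by rw [hu]; rfl, hexp, fun i => ⟨_, hexp _ (hs i _ (huA 0))⟩⟩

section Iter

variable {g : (Fin n → F) → (Fin n → F)}

theorem iter_add (ha : ∀ v w, g (v + w) = g v + g w) (j : ℕ) (v w : Fin n → F) :
    g^[j] (v + w) = g^[j] v + g^[j] w := by
  induction j generalizing v w with
  | zero => rfl
  | succ j ih => rw [Function.iterate_succ_apply, ha, ih, Function.iterate_succ_apply, Function.iterate_succ_apply]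

theorem iter_smul (hl : Lin g) (j : ℕ) (c : F) (v : Fin n → F) : g^[j] (c • v) = c • g^[j] v := by
  induction j generalizing v with
  | zero => rfl
  | succ j ih => rw [Function.iterate_succ_apply, hl, ih, Function.iterate_succ_apply]

theorem nine_of_three {v : Fin n → F} (h3 : g^[3] v = v) : g^[9] v = v := by
  rw [show (9 : ℕ) = 3 + (3 + 3) from rfl, Function.iterate_add_apply, Function.iterate_add_apply, h3, h3, h3]

/-- the orthogonal complement is invariant -/
theorem stab_perp (hF : Fintype.card F = q ^ 2) (hi : ∀ v w, h (g v) (g w) = h v w) (hs : Stab g A)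
    {m : ℕ} (hm : m.Coprime q) (hgm : ∀ v, g^[m] v = v) : Stab g (hermPerp q (A : Set (Fin n → F))) := by
  intro v hv w hw
  have hgA : ∀ (j : ℕ) v, v ∈ A → g^[j] v ∈ A := by
    intro j
    induction j with
    | zero => exact fun v hv => hv
    | succ j ih => exact fun v hv => by rw [Function.iterate_succ_apply]; exact ih _ (hs v hv)
  have hm0 : m ≠ 0 := by
    rintro rfl
    have h2 := two_le hF
    rw [Nat.coprime_zero_left] at hm
    omega
  obtain ⟨k, rfl⟩ := Nat.exists_eq_succ_of_ne_zero hm0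
  have h1 : w = g (g^[k] w) := by rw [← Function.iterate_succ_apply' g]; exact (hgm w).symm
  rw [h1, hi]
  exact hv _ (hgA k w hw)

end Iter

variable {ι : Type*} {f : ι → (Fin n → F) → (Fin n → F)}

/-- `q = 2`: on an invariant nondegenerate subspace of dimension at most three -/
theorem small_two (hF : Fintype.card F = q ^ 2) (hq : q = 2) (hl : ∀ i, Lin (f i))
    (ha : ∀ i v w, f i (v + w) = f i v + f i w) (hi : ∀ i v w, h (f i v) (f i w) = h v w)
    (hc : ∀ i j v, f i (f j v) = f j (f i v)) (hm : ∀ i, ∃ m : ℕ, m.Coprime q ∧ ∀ v, (f i)^[m] v = v)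
    (hA : NDeg q A) (h3 : finrank F A ≤ 3) (hs : ∀ i, Stab (f i) A) :
    SOne q f ∨ ∀ i, ∀ v ∈ A, (f i)^[9] v = v := by
  obtain h0 | h1 | h2 | h3 : finrank F A = 0 ∨ finrank F A = 1 ∨ finrank F A = 2 ∨ finrank F A = 3 := by omega
  · right
    intro i v hv
    rw [Submodule.finrank_eq_zero.1 h0, Submodule.mem_bot] at hv
    have h1 := iter_smul (hl i) 9 (0 : F) (0 : Fin n → F)
    rw [zero_smul, zero_smul] at h1
    rw [hv, h1]
  · right
    obtain ⟨w, hwA, hww, hexp, hcw⟩ := line hF hA h1 hs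
    intro i v hv
    obtain ⟨c, hc⟩ := hcw i
    have hw0 : h w w ≠ 0 := by rw [hww]; exact one_ne_zero
    have h4 := nine_of_three (line_three hq (hl i) (hi i) hw0 hc)
    rw [hexp v hv, iter_smul (hl i), h4]
  · rcases plane hF hl ha hi hc hA h2 hs with ⟨e, -, he0, hee, hce⟩ | ⟨w₁, -, w₂, -, h11, h22, -, -, hexp, hcw⟩
    · exact Or.inl ⟨e, he0, hee, hce⟩
    · right
      intro i v hv
      obtain ⟨⟨c₁, hc₁⟩, c₂, hc₂⟩ := hcw i
      have h4 := nine_of_three (line_three hq (hl i) (hi i) (by rw [h11]; exact one_ne_zero) hc₁)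
      have h5 := nine_of_three (line_three hq (hl i) (hi i) (by rw [h22]; exact one_ne_zero) hc₂)
      rw [hexp v hv, iter_add (ha i), iter_smul (hl i), iter_smul (hl i), h4, h5]
  · right
    intro i v hv
    obtain ⟨m, hmq, hmv⟩ := hm i
    exact nine hF hq hA h3 (hl i) (ha i) (hi i) (hs i) hmq (fun v _ => hmv v) v hv

/-- the reducible case, `dim A ≥ dim A^⊥` -/
theorem reducible_aux (hF : Fintype.card F = q ^ 2) (hn : 3 ≤ n) (hl : ∀ i, Lin (f i))
    (ha : ∀ i v w, f i (v + w) = f i v + f i w) (hi : ∀ i v w, h (f i v) (f i w) = h v w)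
    (hc : ∀ i j v, f i (f j v) = f j (f i v)) (hm : ∀ i, ∃ m : ℕ, m.Coprime q ∧ ∀ v, (f i)^[m] v = v)
    (hA : NDeg q A) (hs : ∀ i, Stab (f i) A) (h0 : A ≠ ⊥) (ht : A ≠ ⊤)
    (hle : finrank F (hermPerp q (A : Set (Fin n → F)) : Submodule F (Fin n → F)) ≤ finrank F A) :
    SOne q f ∨ STwo q f ∨ SFive q f ∨ SSix q f := by
  set B : Submodule F (Fin n → F) := hermPerp q (A : Set (Fin n → F)) with hB
  have hBn : NDeg q B := hermPerp_nondeg hF A hA
  have hsum : finrank F A + finrank F B = n := finrank_hermPerp_of_nondeg hF A hA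
  have hcompl : IsCompl A B := isCompl_hermPerp hF A hA
  have hsB : ∀ i, Stab (f i) B := by
    intro i
    obtain ⟨m, hmq, hmv⟩ := hm i
    exact stab_perp hF (hi i) (hs i) hmq hmv
  have hB0 : finrank F B ≠ 0 := by
    intro h1
    rw [Submodule.finrank_eq_zero] at h1
    rw [h1] at hcompl
    exact ht (by simpa only [_root_.bot_le, _root_.sup_of_le_left] using hcompl.sup_eq_top)
  have hdec : ∀ v : Fin n → F, ∃ a ∈ A, ∃ b ∈ B, v = a + b := fun v => exists_add_perp hF A hA v
  by_cases hlarge : 3 ≤ finrank F A ∧ ¬ (finrank F A = 3 ∧ q = 2)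
  · exact Or.inr (Or.inl ⟨A, hA, ht, hlarge.1, hlarge.2, hs⟩)
  by_cases hq : q = 2
  · -- `q = 2`
    have hA3 : finrank F A ≤ 3 := by
      by_contra hcon
      exact hlarge ⟨by omega, fun h1 => by omega⟩
    rcases small_two hF hq hl ha hi hc hm hA hA3 hs with h1 | h1
    · exact Or.inl h1
    · rcases small_two hF hq hl ha hi hc hm hBn (hle.trans hA3) hsB with h2 | h2
      · exact Or.inl h2
      · refine Or.inr (Or.inr (Or.inr ⟨hq, fun i v => ?_⟩))
        obtain ⟨a, haA, b, hbB, rfl⟩ := hdec v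
        rw [iter_add (ha i), h1 i a haA, h2 i b hbB]
  · have hA2 : finrank F A = 2 := by
      have h3 : ¬ 3 ≤ finrank F A := fun h1 => hlarge ⟨h1, fun h2 => hq h2.2⟩
      omega
    rcases plane hF hl ha hi hc hA hA2 hs with ⟨e, -, he0, hee, hce⟩ |
      ⟨w₁, hw1, w₂, hw2, h11, h22, h12, h21, hexp, hcw⟩
    · exact Or.inl ⟨e, he0, hee, hce⟩
    obtain hB1 | hB2 : finrank F B = 1 ∨ finrank F B = 2 := by omega
    · -- `n = 3`
      obtain ⟨w, hwB, hww, hexpB, hcB⟩ := line hF hBn hB1 hsB
      have e1 : h w w₁ = 0 := hwB w₁ hw1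
      have e2 : h w w₂ = 0 := hwB w₂ hw2
      have e3 : h w₁ w = 0 := herm_eq_zero_swap hF e1
      have e4 : h w₂ w = 0 := herm_eq_zero_swap hF e2
      refine Or.inr (Or.inr (Or.inl ⟨by omega, ![w₁, w₂, w], fun i j => ?_, fun i j => ?_⟩))
      · (revert i j; simp only [Fin.zero_eta, Fin.mk_one, Fin.reduceFinMk, Matrix.cons_val_zero, Matrix.cons_val_one, Matrix.cons_val, h11, h22, h12, h21, hww, e1, e2, e3, e4, _root_.Fin.forall_fin_succ, Fin.isValue, _root_.Matrix.cons_val_succ, _root_.Fin.succ_zero_eq_one, _root_.Matrix.cons_val_fin_one, _root_.Fin.succ_one_eq_two, _root_.IsEmpty.forall_iff, _root_.and_true, ↓reduceIte, _root_.zero_ne_one, Fin.reduceEq, _root_.and_self, _root_.Fin.succ_ne_zero, _root_.right_eq_ite_iff, _root_.imp_false, _root_.left_eq_ite_iff, _root_.one_ne_zero, _root_.Decidable.not_not, _root_.true_and, _root_.not_false_eq_true]) <;> (repeat' with_reducible apply And.intro) <;> rfl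
      · fin_cases j
        · exact (hcw i).1
        · exact (hcw i).2
        · exact hcB i
    · -- `n = 4`: split off an eigenvector
      rcases plane hF hl ha hi hc hBn hB2 hsB with ⟨e, -, he0, hee, hce⟩ |
        ⟨w₃, hw3, w₄, hw4, h33, h44, h34, h43, hexpB, hcwB⟩
      · exact Or.inl ⟨e, he0, hee, hce⟩
      · -- the orthogonal complement of `w₁`
        have hw10 : w₁ ≠ 0 := by
          rintro rfl
          rw [herm_zero_left] at h11
          exact zero_ne_one h11
        let L : Submodule F (Fin n → F) := F ∙ w₁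
        have hL : NDeg q L := by
          intro v hv hv2
          obtain ⟨c, rfl⟩ := Submodule.mem_span_singleton.1 hv
          have h5 := hv2 w₁ (Submodule.mem_span_singleton_self w₁)
          rw [herm_smul_left, h11, mul_one] at h5
          rw [h5, zero_smul]
        have hLs : ∀ i, Stab (f i) L := by
          intro i v hv
          obtain ⟨c, rfl⟩ := Submodule.mem_span_singleton.1 hv
          obtain ⟨d, hd⟩ := (hcw i).1
          rw [hl i, hd]
          exact L.smul_mem _ (L.smul_mem _ (Submodule.mem_span_singleton_self w₁))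
        have hL1 : finrank F L = 1 := finrank_span_singleton hw10
        have hsumL : finrank F L + finrank F (hermPerp q (L : Set (Fin n → F)) : Submodule F (Fin n → F)) = n :=
          finrank_hermPerp_of_nondeg hF L hL
        refine Or.inr (Or.inl ⟨hermPerp q (L : Set (Fin n → F)), hermPerp_nondeg hF L hL, ?_, by omega,
          fun h5 => hq h5.2, fun i => ?_⟩)
        · intro h5
          rw [h5, finrank_top, finrank_fin_fun] at hsumL
          omega
        · obtain ⟨m, hmq, hmv⟩ := hm i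
          exact stab_perp hF (hi i) (hLs i) hmq hmv

/-- the reducible case -/
theorem reducible (hF : Fintype.card F = q ^ 2) (hn : 3 ≤ n) (hl : ∀ i, Lin (f i))
    (ha : ∀ i v w, f i (v + w) = f i v + f i w) (hi : ∀ i v w, h (f i v) (f i w) = h v w)
    (hc : ∀ i j v, f i (f j v) = f j (f i v)) (hm : ∀ i, ∃ m : ℕ, m.Coprime q ∧ ∀ v, (f i)^[m] v = v)
    (hA : NDeg q A) (hs : ∀ i, Stab (f i) A) (h0 : A ≠ ⊥) (ht : A ≠ ⊤) :
    SOne q f ∨ STwo q f ∨ SFive q f ∨ SSix q f := by
  rcases le_total (finrank F (hermPerp q (A : Set (Fin n → F)) : Submodule F (Fin n → F))) (finrank F A) with hle | hle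
  · exact reducible_aux hF hn hl ha hi hc hm hA hs h0 ht hle
  · set B : Submodule F (Fin n → F) := hermPerp q (A : Set (Fin n → F)) with hB
    have hBn : NDeg q B := hermPerp_nondeg hF A hA
    have hsum : finrank F A + finrank F B = n := finrank_hermPerp_of_nondeg hF A hA
    have hsum2 : finrank F B + finrank F (hermPerp q (B : Set (Fin n → F)) : Submodule F (Fin n → F)) = n :=
      finrank_hermPerp_of_nondeg hF B hBn
    have hsB : ∀ i, Stab (f i) B := by
      intro i
      obtain ⟨m, hmq, hmv⟩ := hm i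
      exact stab_perp hF (hi i) (hs i) hmq hmv
    have hA0 : finrank F A ≠ 0 := fun h1 => h0 (Submodule.finrank_eq_zero.1 h1)
    have hAn : finrank F A ≠ n := by
      intro h1
      apply ht
      apply Submodule.eq_top_of_finrank_eq
      rw [h1, finrank_fin_fun]
    refine reducible_aux hF hn hl ha hi hc hm hBn hsB ?_ ?_ (by omega)
    · intro h1
      rw [h1, finrank_bot] at hsum
      omega
    · intro h1
      rw [h1, finrank_top, finrank_fin_fun] at hsum
      omega

end Cfsg.Agent.H743.RC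
end

-- part: H398/RC/StrMain
section
/-!
# S3510, family E, box E8: `StrStmt` (helper398; the reducible case is by helper743)
-/

set_option autoImplicit false

namespace Cfsg.Agent.H398.RC

open Module Cfsg Cfsg.Agent.LieClassical.HermBasic Cfsg.Agent.H380.RC

/-- **Box E8.** -/
theorem str_main : StrStmt := by
  intro F _ _ n q hF hn ι _ f hl ha hi hc hm
  classical
  have := Fintype.ofFinite ι
  have hq2 := two_le hF
  let g : ι → Module.End F (Fin n → F) := fun i =>
    { toFun := f i, map_add' := ha i, map_smul' := fun c v => hl i c v }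
  have hgk : ∀ (i : ι) (k : ℕ) v, (g i ^ k) v = (f i)^[k] v := by
    intro i k
    induction k with
    | zero => intro v; rfl
    | succ k ih =>
      intro v
      rw [pow_succ, Module.End.mul_apply, ih, Function.iterate_succ_apply]
      rfl
  have hm' := hm
  choose m hmq hmv using hm'
  have hNq : (∏ i, m i).Coprime q := Nat.Coprime.prod_left fun i _ => hmq i
  have hN : 0 < ∏ i, m i := by
    rcases Nat.eq_zero_or_pos (∏ i, m i) with h | h
    · rw [h, Nat.coprime_zero_left] at hNq
      omega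
    · exact h
  have hgN : ∀ i, g i ^ (∏ i, m i) = 1 := by
    intro i
    obtain ⟨t, ht⟩ := Finset.dvd_prod_of_mem m (Finset.mem_univ i)
    have h1 : g i ^ m i = 1 := by
      apply LinearMap.ext
      intro v
      rw [hgk, hmv]
      rfl
    rw [ht, pow_mul, h1, one_pow]
  have hcomm : ∀ i j, g i * g j = g j * g i := fun i j => LinearMap.ext fun v => hc i j v
  have hS : ∀ a ∈ Set.range g, ∀ b ∈ Set.range g, a * b = b * a := by
    rintro _ ⟨i, rfl⟩ _ ⟨j, rfl⟩
    exact hcomm i j
  have hG : ∀ G ∈ Set.range g, ∀ v w, hermForm n F q (G v) (G w) = hermForm n F q v w := by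
    rintro _ ⟨i, rfl⟩
    exact hi i
  have hGN : ∀ G ∈ Set.range g, G ^ (∏ i, m i) = 1 := by
    rintro _ ⟨i, rfl⟩
    exact hgN i
  rcases set_split hF (by omega) hS hG hNq hGN with ⟨A, h1, h2, h3, h4⟩ | ⟨W, W', h1, h2, h3, h4⟩ | hR
  · rcases Cfsg.Agent.H743.RC.reducible hF hn hl ha hi hc hm h1 (fun i => h4 (g i) ⟨i, rfl⟩) h2 h3 with h | h | h | h
    · exact Or.inl h
    · exact Or.inr (Or.inl h)
    · exact Or.inr (Or.inr (Or.inr (Or.inr (Or.inr (Or.inl h)))))
    · exact Or.inr (Or.inr (Or.inr (Or.inr (Or.inr (Or.inr h)))))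
  · exact Or.inr (Or.inr (Or.inl ⟨W, W', h1, h2, h3, fun i => h4 (g i) ⟨i, rfl⟩⟩))
  · rcases fld_split hF hn hcomm hi hN hgN hR with h | h | h | h
    · exact Or.inl h
    · exact Or.inr (Or.inr (Or.inl h))
    · exact Or.inr (Or.inr (Or.inr (Or.inl h)))
    · exact Or.inr (Or.inr (Or.inr (Or.inr (Or.inl h))))

end Cfsg.Agent.H398.RC
end

-- part: H412/RC/CaseField
section
/-!
# S3510, family E: case III.1 (a field automorphism of odd prime order), `(n, q₀) ≠ (3, 2)` (helper412)

* `exists_std` : after changing `U` by a linear isometry, `x i₀` is the standard field automorphism `ρ`;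
* `Std` : the situation obtained; `Std.grp` : the group `M = SU_n(q₀)` inside `G`;
* `caseField_of` : the case `(n, q₀) ≠ (3, 2)`.
-/

set_option autoImplicit false

namespace Cfsg.Agent.H412.RC

open Matrix Cfsg Cfsg.Agent.LieClassical.HermBasic Cfsg.Agent.LieClassical.HermSiegel
  Cfsg.Agent.LieClassical.HermGen Cfsg.Agent.LieClassical.SUBasic Cfsg.Agent.ClassicalGeometry.PSUAutBasic
  Cfsg.Agent.ClassicalGeometry.PSUAutCount Cfsg.Agent.LieClassical.FieldTransfer Cfsg.Agent.ClassicalGeometry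
  Cfsg.Agent.H380.RC Cfsg.Agent.H106.RC Cfsg.Agent.CpAutU.Fld Cfsg.Agent.CpAutU.Fixed
open Cfsg.Agent.CpAut.Psl (fixf mem_fixf)

/-! ### change of the identification -/

section change

variable {G Ω : Type*} [Group G] [MulAction G Ω] {N : Subgroup G} {F : Type*} [Field F] [Fintype F] {n q : ℕ}

/-- change of the identification by an automorphism -/
def chg (U : UEnv G Ω N F n q) (β : MulAut (PSU n F q)) : UEnv G Ω N F n q :=
  { U with e := U.e.trans β }

theorem chg_aut (U : UEnv G Ω N F n q) (β : MulAut (PSU n F q)) (x : G) :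
    (chg U β).aut x = β * U.aut x * β⁻¹ := by
  have hN := U.env.norm
  apply MulEquiv.ext
  intro t
  obtain ⟨s, rfl⟩ := (chg U β).e.surjective t
  have h1 := (chg U β).aut_e x s (hN.conj_mem _ s.2 x)
  have h2 := U.aut_e x s (hN.conj_mem _ s.2 x)
  have h3 : ∀ s, (chg U β).e s = β (U.e s) := fun s => rfl
  rw [h1, h3, h3, MulAut.mul_apply, MulAut.mul_apply, MulAut.inv_apply_self, h2]

variable {f b b' : (Fin n → F) → (Fin n → F)}

theorem chg_lft (U : UEnv G Ω N F n q) {β : MulAut (PSU n F q)} (hb : Ind b β) (hb' : Ind b' β⁻¹) {x : G}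
    (h : U.Lft x f) : (chg U β).Lft x (fun v => b (f (b' v))) := by
  show Ind _ _
  rw [chg_aut]
  exact (hb.comp h).comp hb'

omit [Field F] [Fintype F] in
theorem iter_conj (h2 : ∀ v, b' (b v) = v) (h1 : ∀ v, b (b' v) = v) (k : ℕ) (v : Fin n → F) :
    (fun v => b (f (b' v)))^[k] v = b (f^[k] (b' v)) := by
  induction k with
  | zero => exact (h1 v).symm
  | succ k ih => rw [Function.iterate_succ_apply', ih, h2, Function.iterate_succ_apply']

theorem chg_fam (U : UEnv G Ω N F n q) {β : MulAut (PSU n F q)} (hb : Ind b β) (hb' : Ind b' β⁻¹)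
    (h2 : ∀ v, b' (b v) = v) (h1 : ∀ v, b (b' v) = v) {ι : Type*} {x : ι → G} {f : ι → (Fin n → F) → (Fin n → F)}
    {r : ι → ℕ} (h : UFam U x f r) : UFam (chg U β) x (fun i v => b (f i (b' v))) r where
  pf := h.pf
  lft i := chg_lft U hb hb' (h.lft i)
  comm i j v := by
    show b (f i (b' (b (f j (b' v))))) = b (f j (b' (b (f i (b' v)))))
    rw [h2, h2, h.comm]
  ord i := by
    obtain ⟨k, hk⟩ := h.ord i
    exact ⟨k, fun v => by rw [iter_conj h2 h1, hk, h1]⟩

end change

/-- `x i₀` is the standard field automorphism `ρ` of odd prime order, `q = s ^ r i₀` -/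
structure Std {G Ω : Type*} [Group G] [MulAction G Ω] {N : Subgroup G} {F : Type*} [Field F] [Fintype F] {n q : ℕ}
    (U : UEnv G Ω N F n q) {ι : Type*} (x : ι → G) (f : ι → (Fin n → F) → (Fin n → F)) (r : ι → ℕ) (i₀ : ι)
    (ρ : F ≃+* F) (s : ℕ) : Prop where
  fam : UFam U x f r
  std : U.Lft (x i₀) (fun v i => ρ (v i))
  ord : orderOf ρ = r i₀
  odd : r i₀ ≠ 2
  card : Nat.card ↥(fixf ρ) = s ^ 2
  qs : q = s ^ r i₀

/-- **Normal form**: after a change of the identification `x i₀` is a field automorphism. -/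
theorem exists_std {G Ω : Type*} [Group G] [MulAction G Ω] {N : Subgroup G} {F : Type*} [Field F] [Fintype F] {n q : ℕ}
    (U : UEnv G Ω N F n q) {ι : Type*} {x : ι → G} {f : ι → (Fin n → F) → (Fin n → F)} {r : ι → ℕ} (h : UFam U x f r)
    {i₀ : ι} (h1 : ¬ Lin (f i₀)) (h2 : r i₀ ≠ 2) :
    ∃ (U' : UEnv G Ω N F n q) (f' : ι → (Fin n → F) → (Fin n → F)) (ρ : F ≃+* F) (s : ℕ), Std U' x f' r i₀ ρ s := by
  obtain ⟨A, ρ, hA, hA'⟩ := h.lft i₀
  have hpow : toAut A ρ ^ r i₀ = 1 := by rw [← hA', ← map_pow, h.pf.pow, map_one]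
  have hρ : ρ ≠ 1 := by
    rintro rfl
    apply h1
    intro c v
    rw [hA, sl_smul]
    rfl
  obtain ⟨hord, M, hM⟩ := Cfsg.Agent.CpAutU.Desc.exists_conj U.hF U.hn (h.pf.prime i₀) h2 hpow hρ
  have hb' : Ind (sl M 1) (toAut M 1 : MulAut (PSU n F q)) := ⟨M, 1, rfl, rfl⟩
  obtain ⟨b, hb, h3, h4⟩ := hb'.bij
  obtain ⟨s, hs2, hs, hq⟩ := exists_s' U.hF hord ((h.pf.prime i₀).odd_of_ne_two h2)
  refine ⟨chg U (toAut M 1)⁻¹, _, ρ, s, chg_fam U hb (by rw [inv_inv]; exact hb') h3 h4 h, ?_, hord, h2, hs, hq⟩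
  show Ind _ _
  rw [chg_aut, hA', hM]
  have h5 : (toAut M 1)⁻¹ * (toAut M 1 * toAut 1 ρ * (toAut M 1)⁻¹) * (toAut M 1)⁻¹⁻¹ = toAut 1 ρ := by group
  rw [h5]
  refine ⟨1, ρ, ?_, rfl⟩
  funext v
  rw [sl_def, gm_one, one_mulVec]

/-! ### the group `M = SU_n(q₀)` -/

namespace Std

open scoped commutatorElement

variable {G Ω : Type*} [Group G] [MulAction G Ω] {N : Subgroup G} {F : Type*} [Field F] [Fintype F] {n q : ℕ}
  {U : UEnv G Ω N F n q} {ι : Type*} {x : ι → G} {f : ι → (Fin n → F) → (Fin n → F)} {r : ι → ℕ} {i₀ : ι}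
  {ρ : F ≃+* F} {s : ℕ}

theorem isOdd (h : Std U x f r i₀ ρ s) : Odd (r i₀) := (h.fam.pf.prime i₀).odd_of_ne_two h.odd

theorem hpow (h : Std U x f r i₀ ρ s) : ∀ a ∈ fixf ρ, a ^ q = a ^ s := fun _ ha => pow_q h.isOdd h.card h.qs ha

/-- the conjugate under `x i₀` -/
theorem conj_el (h : Std U x f r i₀ ρ s) (g : SU n F q) : x i₀ * U.el g * (x i₀)⁻¹ = U.el (semiConj 1 ρ g) := by
  refine UEnv.Lft.conj_el h.std fun v => ?_
  have h1 := act_semiConj (1 : GU n F q) ρ g v
  rw [gm_one, one_mulVec, one_mulVec] at h1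
  exact h1.symm

/-- `SU_n(q₀) → G` -/
def hom (h : Std U x f r i₀ ρ s) : SU n ↥(fixf ρ) s →* G := U.el.comp (embSU U.hF h.hpow)

theorem hom_apply (h : Std U x f r i₀ ρ s) (g : SU n ↥(fixf ρ) s) : h.hom g = U.el (embSU U.hF h.hpow g) := rfl

/-- the group `M` -/
def grp (h : Std U x f r i₀ ρ s) : Subgroup G := h.hom.range

theorem mem_grp (h : Std U x f r i₀ ρ s) {g : SU n F q} (hg : semiConj 1 ρ g = g) : U.el g ∈ h.grp := by
  obtain ⟨a, rfl⟩ := exists_embSU U.hF h.hpow hg
  exact ⟨a, rfl⟩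

theorem exists_of_mem (h : Std U x f r i₀ ρ s) {m : G} (hm : m ∈ h.grp) :
    ∃ g : SU n F q, semiConj 1 ρ g = g ∧ U.el g = m := by
  obtain ⟨a, rfl⟩ := hm
  exact ⟨embSU U.hF h.hpow a, semiConj_embSU U.hF h.hpow a, rfl⟩

omit [MulAction G Ω] in
theorem mem_inf_cent {c y : G} : c ∈ N ⊓ Subgroup.centralizer {y} ↔ c ∈ N ∧ c * y = y * c := by
  rw [Subgroup.mem_inf, Subgroup.mem_centralizer_singleton_iff]

theorem le (h : Std U x f r i₀ ρ s) : h.grp ≤ N ⊓ Subgroup.centralizer {x i₀} := by
  intro m hm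
  obtain ⟨g, hg, rfl⟩ := h.exists_of_mem hm
  refine mem_inf_cent.2 ⟨U.el_mem g, ?_⟩
  have h1 := h.conj_el g
  rw [hg, mul_inv_eq_iff_eq_mul] at h1
  exact h1.symm

theorem comm_le (h : Std U x f r i₀ ρ s) :
    ⁅N ⊓ Subgroup.centralizer {x i₀}, N ⊓ Subgroup.centralizer {x i₀}⁆ ≤ h.grp := by
  have key : ∀ c ∈ N ⊓ Subgroup.centralizer {x i₀}, ∃ a z : SU n F q, U.el a = c ∧ semiConj 1 ρ a = a * z ∧
      z ∈ Subgroup.center (SU n F q) := by
    intro c hc
    obtain ⟨hc, hc'⟩ := mem_inf_cent.1 hc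
    obtain ⟨a, rfl⟩ := U.exists_el hc
    refine ⟨a, a⁻¹ * semiConj 1 ρ a, rfl, by group, ?_⟩
    rw [← U.el_eq_one, map_mul, map_inv, ← h.conj_el]
    rw [← hc']
    group
  rw [Subgroup.commutator_le]
  intro c hc d hd
  obtain ⟨a, z, rfl, ha', hz⟩ := key c hc
  obtain ⟨b, w, rfl, hb', hw⟩ := key d hd
  have h1 : semiConj 1 ρ ⁅a, b⁆ = ⁅a, b⁆ := by
    rw [map_commutatorElement, ha', hb', commutatorElement_def, commutatorElement_def]
    have hz' := Subgroup.mem_center_iff.1 hz
    have hw' := Subgroup.mem_center_iff.1 hw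
    calc a * z * (b * w) * (a * z)⁻¹ * (b * w)⁻¹
        = a * (z * b) * (w * z⁻¹) * a⁻¹ * w⁻¹ * b⁻¹ := by group
      _ = a * (b * z) * (w * z⁻¹) * a⁻¹ * w⁻¹ * b⁻¹ := by rw [hz' b]
      _ = a * b * (z * w) * z⁻¹ * a⁻¹ * w⁻¹ * b⁻¹ := by group
      _ = a * b * (w * z) * z⁻¹ * a⁻¹ * w⁻¹ * b⁻¹ := by rw [hw' z]
      _ = a * b * (w * a⁻¹) * w⁻¹ * b⁻¹ := by group
      _ = a * b * (a⁻¹ * w) * w⁻¹ * b⁻¹ := by rw [hw' a⁻¹]
      _ = a * b * a⁻¹ * b⁻¹ := by group
  have h2 := h.mem_grp h1
  rwa [map_commutatorElement] at h2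

theorem perfect (h : Std U x f r i₀ ρ s) (h32 : ¬ (n = 3 ∧ s = 2)) : ⁅h.grp, h.grp⁆ = h.grp := by
  classical
  let _ : Fintype ↥(fixf ρ) := Fintype.ofFinite _
  have hF₀ : Fintype.card ↥(fixf ρ) = s ^ 2 := by rw [← Nat.card_eq_fintype_card, h.card]
  have h1 := Cfsg.Agent.LieClassical.HermPerfect.commutator_SU_eq_top hF₀ U.hn h32
  have h3 := congrArg (Subgroup.map h.hom) h1
  rw [commutator_def, Subgroup.map_commutator, ← MonoidHom.range_eq_map] at h3
  exact h3

theorem grp_eq (h : Std U x f r i₀ ρ s) (h32 : ¬ (n = 3 ∧ s = 2)) :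
    h.grp = ⁅N ⊓ Subgroup.centralizer {x i₀}, N ⊓ Subgroup.centralizer {x i₀}⁆ := by
  refine le_antisymm ?_ h.comm_le
  conv_lhs => rw [← h.perfect h32]
  exact Subgroup.commutator_mono h.le h.le

theorem mem_norm (h : Std U x f r i₀ ρ s) (h32 : ¬ (n = 3 ∧ s = 2)) (j : ι) :
    x j ∈ Subgroup.normalizer (h.grp : Set G) := by
  have hN := U.env.norm
  set C := N ⊓ Subgroup.centralizer {x i₀} with hC
  have h1 : ∀ g : G, g * x i₀ = x i₀ * g → C.map (MulAut.conj g).toMonoidHom ≤ C := by
    intro g hg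
    rintro _ ⟨c, hc, rfl⟩
    obtain ⟨hc1, hc2⟩ := mem_inf_cent.1 hc
    refine mem_inf_cent.2 ⟨hN.conj_mem _ hc1 g, ?_⟩
    change g * c * g⁻¹ * x i₀ = x i₀ * (g * c * g⁻¹)
    have hg' : g⁻¹ * x i₀ = x i₀ * g⁻¹ := by
      rw [inv_mul_eq_iff_eq_mul, ← mul_assoc, eq_mul_inv_iff_mul_eq, hg]
    calc g * c * g⁻¹ * x i₀ = g * c * (g⁻¹ * x i₀) := by group
      _ = g * (c * x i₀) * g⁻¹ := by rw [hg']; group
      _ = (g * x i₀) * c * g⁻¹ := by rw [hc2]; group
      _ = _ := by rw [hg]; group
  have h2 : ∀ g : G, g * x i₀ = x i₀ * g → h.grp.map (MulAut.conj g).toMonoidHom ≤ h.grp := by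
    intro g hg
    conv_lhs => rw [h.grp_eq h32, Subgroup.map_commutator]
    conv_rhs => rw [h.grp_eq h32]
    exact Subgroup.commutator_mono (h1 g hg) (h1 g hg)
  have h3 := h.fam.pf.comm j i₀
  have h4 : (x j)⁻¹ * x i₀ = x i₀ * (x j)⁻¹ := by
    rw [inv_mul_eq_iff_eq_mul, ← mul_assoc, eq_mul_inv_iff_mul_eq, h3]
  rw [Subgroup.mem_normalizer_iff]
  intro m
  constructor
  · intro hm
    exact h2 _ h3 ⟨m, hm, rfl⟩
  · intro hm
    have h5 := h2 _ h4 ⟨_, hm, rfl⟩
    have h6 : (MulAut.conj (x j)⁻¹).toMonoidHom (x j * m * (x j)⁻¹) = m := by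
      change (x j)⁻¹ * (x j * m * (x j)⁻¹) * (x j)⁻¹⁻¹ = m
      group
    rwa [h6] at h5

/-- `M` is isomorphic to `PSU_n(q₀)` -/
theorem exists_equiv (h : Std U x f r i₀ ρ s) : Nonempty (PSU n ↥(fixf ρ) s ≃* h.grp) := by
  classical
  let _ : Fintype ↥(fixf ρ) := Fintype.ofFinite _
  have hF₀ : Fintype.card ↥(fixf ρ) = s ^ 2 := by rw [← Nat.card_eq_fintype_card, h.card]
  have hS := sett (n := n) U.hF U.hn hF₀ h.hpow
  have hk : Subgroup.center (SU n ↥(fixf ρ) s) = h.hom.ker := by
    ext g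
    rw [MonoidHom.mem_ker, h.hom_apply, U.el_eq_one, ← hS.cen g]
    exact pr_eq_one_iff
  exact ⟨(QuotientGroup.quotientMulEquivOfEq hk).trans (QuotientGroup.quotientKerEquivRange h.hom)⟩

/-! ### Siegel transformations with centre in `V₀` -/

theorem siegel_rho (_h : Std U x f r i₀ ρ s) {u w : Fin n → F} {μ : F} (hs : IsSiegel q u w μ)
    (hu : ∀ i, ρ (u i) = u i) : IsSiegel q u (fun i => ρ (w i)) (ρ μ) := by
  have hu' : (fun i => ρ (u i)) = u := funext hu
  refine ⟨hs.iso, ?_, ?_⟩
  · have h1 := herm_map (n := n) (q := q) ρ w u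
    rw [hu', hs.orth, map_zero] at h1
    exact h1
  · rw [herm_map, ← map_pow, ← map_add, ← map_add, hs.tr, map_zero]

theorem act_siegel_rho (h : Std U x f r i₀ ρ s) {u w : Fin n → F} {μ : F} (hs : IsSiegel q u w μ)
    (hu : ∀ i, ρ (u i) = u i) (v : Fin n → F) :
    (fun i => ρ (act (siegel U.hF u w μ hs) v i)) =
      act (siegel U.hF u (fun i => ρ (w i)) (ρ μ) (h.siegel_rho hs hu)) (fun i => ρ (v i)) := by
  have hu' : (fun i => ρ (u i)) = u := funext hu
  have h1 := herm_map (n := n) (q := q) ρ v u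
  rw [hu'] at h1
  have h2 := herm_map (n := n) (q := q) ρ v w
  rw [act_siegel, act_siegel, h1, h2]
  funext i
  simp only [Pi.add_apply, Pi.smul_apply, smul_eq_mul, map_add, map_mul, map_sub, hu]

theorem conj_siegel (h : Std U x f r i₀ ρ s) {u w : Fin n → F} {μ : F} (hs : IsSiegel q u w μ)
    (hu : ∀ i, ρ (u i) = u i) : x i₀ * U.el (siegel U.hF u w μ hs) * (x i₀)⁻¹ =
      U.el (siegel U.hF u (fun i => ρ (w i)) (ρ μ) (h.siegel_rho hs hu)) :=
  UEnv.Lft.conj_el h.std fun v => h.act_siegel_rho hs hu v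

/-- transvections over the fixed field are in `M` -/
theorem transv_mem (h : Std U x f r i₀ ρ s) {u : Fin n → F} {μ : F} (hs : IsSiegel q u 0 μ)
    (hu : ∀ i, ρ (u i) = u i) (hμ : ρ μ = μ) : U.el (siegel U.hF u 0 μ hs) ∈ h.grp := by
  apply h.mem_grp
  apply ext_act
  intro v
  obtain ⟨w, rfl⟩ : ∃ w : Fin n → F, (fun i => ρ (w i)) = v :=
    ⟨fun i => ρ.symm (v i), funext fun i => ρ.apply_symm_apply _⟩
  have h1 := act_semiConj (1 : GU n F q) ρ (siegel U.hF u 0 μ hs) w
  rw [gm_one, one_mulVec, one_mulVec] at h1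
  rw [h1, h.act_siegel_rho hs hu]
  congr 1
  refine siegel_congr U.hF _ _ rfl ?_ hμ
  funext i
  exact map_zero ρ

/-- an element of `F₀` which is not fixed by `a ↦ a ^ q` -/
theorem exists_kappa (h : Std U x f r i₀ ρ s) : ∃ κ : F, ρ κ = κ ∧ κ ^ q ≠ κ := by
  classical
  let _ : Fintype ↥(fixf ρ) := Fintype.ofFinite _
  have hF₀ : Fintype.card ↥(fixf ρ) = s ^ 2 := by rw [← Nat.card_eq_fintype_card, h.card]
  obtain ⟨κ, hκ⟩ := exists_not_fixed hF₀
  refine ⟨κ, κ.2, fun h1 => hκ (Subtype.ext ?_)⟩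
  rw [h.hpow _ κ.2] at h1
  exact h1

/-- norms of elements of `F₀` -/
theorem exists_norm (h : Std U x f r i₀ ρ s) {c : F} (hc : ρ c = c) (hc' : c ^ q = c) :
    ∃ a : F, ρ a = a ∧ a * a ^ q = c := by
  classical
  let _ : Fintype ↥(fixf ρ) := Fintype.ofFinite _
  have hF₀ : Fintype.card ↥(fixf ρ) = s ^ 2 := by rw [← Nat.card_eq_fintype_card, h.card]
  have h1 : (⟨c, hc⟩ : ↥(fixf ρ)) ^ s = ⟨c, hc⟩ := by
    apply Subtype.ext
    change c ^ s = c
    rw [← h.hpow c hc, hc']
  obtain ⟨a, ha⟩ := _root_.Cfsg.Agent.LieClassical.HermBasic.exists_norm_eq hF₀ h1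
  refine ⟨a, a.2, ?_⟩
  have h2 := congrArg Subtype.val ha
  rw [h.hpow _ a.2]
  exact h2

/-- **Elements centralising `M`**: singular vectors over `F₀` are eigenvectors of the lifts. -/
theorem lft_iso (h : Std U x f r i₀ ρ s) {y : G} {g : (Fin n → F) → (Fin n → F)} (hg : U.Lft y g)
    (hy : ∀ m ∈ h.grp, y * m = m * y) {e : Fin n → F} (he : ∀ i, ρ (e i) = e i)
    (hee : hermForm n F q e e = 0) (he0 : e ≠ 0) : ∃ c : F, g e = c • e := by
  obtain ⟨κ, hκ, hκ'⟩ := h.exists_kappa
  obtain ⟨μ, rfl⟩ : ∃ μ, μ = κ - κ ^ q := ⟨_, rfl⟩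
  have hμρ : ρ (κ - κ ^ q) = κ - κ ^ q := by rw [map_sub, map_pow, hκ]
  have hμ : (κ - κ ^ q) + (κ - κ ^ q) ^ q = 0 := by
    rw [sub_pow_q U.hF, pow_q_pow_q U.hF]
    ring
  have hμ0 : κ - κ ^ q ≠ 0 := sub_ne_zero.2 (Ne.symm hκ')
  generalize κ - κ ^ q = μ at hμρ hμ hμ0
  have hs : IsSiegel q e 0 μ := isSiegel_zero hee hμ
  set t := siegel U.hF e 0 μ hs with ht
  have hact : ∀ v, act t v = v + (μ * hermForm n F q v e) • e := fun v => act_transv U.hF hee hμ v
  have htM := hy _ (h.transv_mem hs he hμρ)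
  obtain ⟨s', hs'⟩ := hg.exists_conj t
  have h1 := hg.conj_el hs'
  rw [htM, mul_inv_cancel_right] at h1
  have h2 : U.el (t⁻¹ * s') = 1 := by rw [map_mul, map_inv, ← h1, inv_mul_cancel]
  obtain ⟨z, hz0, -, hz⟩ := exists_scalar_of_mem_center U.hF U.hn (U.el_eq_one.1 h2)
  have h3 : ∀ v, act s' v = z • act t v := by
    intro v
    have h4 := congrArg (act t) (hz v)
    rwa [← act_mul, mul_inv_cancel_left, act_smul] at h4
  obtain ⟨σ, hσ1, hσ2⟩ := hg.ind.exists_rho
  -- `z = 1`
  have hz1 : z = 1 := by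
    obtain ⟨v, hv⟩ := hg.ind.surjective e
    have hte : act t e = e := by rw [hact, hee, mul_zero, zero_smul, add_zero]
    have h4 : g (act t v) = z • e := by rw [hs', h3, hv, hte]
    have h5 : act t v = σ.symm z • v := by
      apply hg.ind.injective
      rw [h4, hσ1, hv, RingEquiv.apply_symm_apply]
    rw [hact] at h5
    have h6 := congrArg (fun w => hermForm n F q w e) h5
    simp only [herm_add_left, herm_smul_left, hee, mul_zero, add_zero] at h6
    by_contra hz2
    have h7 : σ.symm z ≠ 1 := fun h8 => hz2 (by rw [← σ.apply_symm_apply z, h8, map_one])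
    have h8 : hermForm n F q v e = 0 := by
      have h9 : (σ.symm z - 1) * hermForm n F q v e = 0 := by linear_combination -h6
      exact (mul_eq_zero.1 h9).resolve_left (sub_ne_zero.2 h7)
    rw [h8, mul_zero, zero_smul, add_zero] at h5
    have h9 : (σ.symm z - 1) • v = 0 := by rw [sub_smul, one_smul, ← h5, sub_self]
    have h10 := (smul_eq_zero.1 h9).resolve_left (sub_ne_zero.2 h7)
    rw [h10, hg.ind.map_zero] at hv
    exact he0 hv.symm
  obtain ⟨v, hv⟩ := exists_herm_ne_zero U.hF he0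
  have hv' : hermForm n F q v e ≠ 0 := fun h4 => hv (herm_eq_zero_swap U.hF h4)
  -- `v` with `μ h(v, e) = 1`
  have h4 := hs' ((μ * hermForm n F q v e)⁻¹ • v)
  rw [h3, hz1, one_smul, hact, hact, herm_smul_left, hg.ind.map_add] at h4
  have h5 : μ * ((μ * hermForm n F q v e)⁻¹ * hermForm n F q v e) = 1 := by
    field_simp
  rw [h5, one_smul] at h4
  exact ⟨_, add_left_cancel h4⟩

omit [Fintype F] in
/-- the vector `e_i + y e_j + z e_k` -/
theorem herm_three {i j k : Fin n} (hij : i ≠ j) (hik : i ≠ k) (hjk : j ≠ k) (y z : F) :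
    hermForm n F q (Pi.single i 1 + y • Pi.single j 1 + z • Pi.single k 1)
      (Pi.single i 1 + y • Pi.single j 1 + z • Pi.single k 1) = 1 + y * y ^ q + z * z ^ q := by
  rw [herm_add_left, herm_add_left, herm_smul_left, herm_smul_left, herm_single_left, herm_single_left,
    herm_single_left]
  simp only [Pi.add_apply, Pi.smul_apply, Pi.single_eq_same, Pi.single_eq_of_ne hij, Pi.single_eq_of_ne hik,
    Pi.single_eq_of_ne hjk, Pi.single_eq_of_ne hij.symm, Pi.single_eq_of_ne hik.symm, Pi.single_eq_of_ne hjk.symm,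
    smul_eq_mul, mul_zero, mul_one, add_zero, zero_add, one_pow, one_mul]

/-- **The centraliser of `M`**: lifts are scalars on `V₀`, their field automorphism is trivial on `F₀`. -/
theorem lft_scalar (h : Std U x f r i₀ ρ s) {g : (Fin n → F) → (Fin n → F)} {σ : F ≃+* F}
    (hadd : ∀ v w, g (v + w) = g v + g w) (hsm : ∀ (c : F) v, g (c • v) = σ c • g v) (hinj : Function.Injective g)
    (hiso : ∀ e : Fin n → F, (∀ i, ρ (e i) = e i) → hermForm n F q e e = 0 → e ≠ 0 → ∃ c : F, g e = c • e) :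
    (∀ a, ρ a = a → σ a = a) ∧ ∃ c : F, ∀ i : Fin n, g (Pi.single i 1) = c • Pi.single i 1 := by
  classical
  have hF := U.hF
  have hn := U.hn
  have hex : ∀ i j : Fin n, ∃ k : Fin n, k ≠ i ∧ k ≠ j := by
    intro i j
    by_contra hcon
    push Not at hcon
    have h1 : (Finset.univ : Finset (Fin n)) ⊆ {i, j} := by
      intro k _
      rw [Finset.mem_insert, Finset.mem_singleton]
      by_contra h2
      push Not at h2
      exact h2.2 (hcon k h2.1)
    have h2 := Finset.card_le_card h1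
    have h3 : ({i, j} : Finset (Fin n)).card ≤ 2 := Finset.card_le_two
    rw [Finset.card_univ, Fintype.card_fin] at h2
    omega
  -- the vectors
  have key : ∀ i j k : Fin n, i ≠ j → i ≠ k → j ≠ k → ∀ y z : F, ρ y = y → ρ z = z → 1 + y * y ^ q + z * z ^ q = 0 →
      ∃ c : F, g (Pi.single i 1) + σ y • g (Pi.single j 1) + σ z • g (Pi.single k 1) =
        c • (Pi.single i 1 + y • Pi.single j 1 + z • Pi.single k 1 : Fin n → F) := by
    intro i j k hij hik hjk y z hy hz h1
    obtain ⟨c, hc⟩ := hiso (Pi.single i 1 + y • Pi.single j 1 + z • Pi.single k 1) (by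
      intro l
      have h2 : ∀ m : Fin n, ρ ((Pi.single m 1 : Fin n → F) l) = (Pi.single m 1 : Fin n → F) l := by
        intro m
        rcases eq_or_ne l m with rfl | hl
        · rw [Pi.single_eq_same, map_one]
        · rw [Pi.single_eq_of_ne hl, map_zero]
      simp only [Pi.add_apply, Pi.smul_apply, smul_eq_mul, map_add, map_mul, h2, hy, hz])
      (by rw [herm_three hij hik hjk, h1]) (by
      intro h0
      have h2 := congrFun h0 i
      simp only [Pi.add_apply, Pi.smul_apply, Pi.single_eq_same, Pi.single_eq_of_ne hij, Pi.single_eq_of_ne hik,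
        smul_eq_mul, mul_zero, add_zero, Pi.zero_apply] at h2
      exact one_ne_zero h2)
    refine ⟨c, ?_⟩
    rw [← hc, hadd, hadd, hsm, hsm]
  -- two elements of norm `-1`
  obtain ⟨b, hb, hb1⟩ := h.exists_norm (c := -1) (by rw [map_neg, map_one]) (by rw [neg_pow_q hF, one_pow])
  obtain ⟨κ, hκ, hκq⟩ := h.exists_kappa
  have hκ0 : κ ≠ 0 := by
    rintro rfl
    exact hκq (zero_pow_q hF)
  have hb0 : b ≠ 0 := by
    rintro rfl
    rw [zero_mul] at hb1
    exact one_ne_zero (neg_eq_zero.1 hb1.symm)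
  obtain ⟨b', hb'⟩ : ∃ b', b' = b * (κ ^ q / κ) := ⟨_, rfl⟩
  have hb'ρ : ρ b' = b' := by rw [hb', map_mul, map_div₀, map_pow, hb, hκ]
  have hb'1 : b' * b' ^ q = -1 := by
    have h1 : κ ^ q ≠ 0 := pow_ne_zero _ hκ0
    rw [hb', mul_pow, div_pow, pow_q_pow_q hF, ← hb1]
    field_simp
  have hbb : b ≠ b' := by
    intro h1
    rw [hb'] at h1
    have h2 : κ ^ q / κ = 1 := mul_left_cancel₀ hb0 (by rw [← h1, mul_one])
    rw [div_eq_one_iff_eq hκ0] at h2
    exact hκq h2
  have hσbb : σ b - σ b' ≠ 0 := sub_ne_zero.2 fun h1 => hbb (σ.injective h1)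
  -- off-diagonal entries
  have hoff : ∀ j k : Fin n, j ≠ k → g (Pi.single j 1) k = 0 := by
    intro j k hjk
    obtain ⟨i, hij, hik⟩ := hex j k
    have h1 : ∀ t : F, ρ t = t → t * t ^ q = -1 → g (Pi.single i 1) k + σ t * g (Pi.single j 1) k = 0 := by
      intro t ht ht'
      obtain ⟨c, hc⟩ := key i j k hij hik hjk t 0 ht (map_zero ρ) (by rw [ht']; ring)
      have h2 := congrFun hc k
      simp only [Pi.add_apply, Pi.smul_apply, map_zero, Pi.single_eq_of_ne hik.symm,
        Pi.single_eq_of_ne hjk.symm, smul_eq_mul, mul_zero, add_zero, zero_mul] at h2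
      exact h2
    have h2 : (σ b - σ b') * g (Pi.single j 1) k = 0 := by
      linear_combination h1 b hb hb1 - h1 b' hb'ρ hb'1
    exact (mul_eq_zero.1 h2).resolve_left hσbb
  have hdiag : ∀ i j : Fin n, i ≠ j → ∀ y : F, ρ y = y →
      σ y * g (Pi.single j 1) j = g (Pi.single i 1) i * y := by
    intro i j hij y hy
    obtain ⟨k, hki, hkj⟩ := hex i j
    obtain ⟨z, hz, hz1⟩ := h.exists_norm (c := -1 - y * y ^ q)
      (by rw [map_sub, map_neg, map_one, map_mul, map_pow, hy])
      (by rw [sub_pow_q hF, neg_pow_q hF, one_pow, norm_pow_q hF])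
    obtain ⟨c, hc⟩ := key i j k hij hki.symm hkj.symm y z hy hz (by rw [hz1]; ring)
    have h2 := congrFun hc i
    have h3 := congrFun hc j
    simp only [Pi.add_apply, Pi.smul_apply, Pi.single_eq_same, Pi.single_eq_of_ne hij, Pi.single_eq_of_ne hij.symm,
      Pi.single_eq_of_ne hki.symm, Pi.single_eq_of_ne hkj.symm, smul_eq_mul, mul_zero, add_zero, mul_one, zero_add,
      hoff j i hij.symm, hoff k i hki, hoff i j hij, hoff k j hkj] at h2 h3
    rw [h3, h2]
  have hdd : ∀ i j : Fin n, g (Pi.single i 1) i = g (Pi.single j 1) j := by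
    intro i j
    rcases eq_or_ne i j with rfl | hij
    · rfl
    · have h1 := hdiag i j hij 1 (map_one ρ)
      rw [map_one, one_mul, mul_one] at h1
      exact h1.symm
  let i₁ : Fin n := ⟨0, by omega⟩
  let j₁ : Fin n := ⟨1, by omega⟩
  have hij : i₁ ≠ j₁ := fun h1 => by
    have h2 := congrArg Fin.val h1
    exact zero_ne_one h2
  have hsing : ∀ i : Fin n, g (Pi.single i 1) = (g (Pi.single i₁ 1) i₁) • (Pi.single i 1 : Fin n → F) := by
    intro i
    funext l
    rw [Pi.smul_apply, smul_eq_mul]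
    rcases eq_or_ne l i with rfl | hl
    · rw [Pi.single_eq_same, mul_one, hdd i₁ l]
    · rw [Pi.single_eq_of_ne hl, mul_zero, hoff i l hl.symm]
  refine ⟨fun a ha => ?_, _, hsing⟩
  have h1 := hdiag i₁ j₁ hij a ha
  rw [hdd j₁ i₁, mul_comm] at h1
  refine mul_left_cancel₀ (fun h2 => ?_) h1
  have h3 := hsing i₁
  rw [h2, zero_smul] at h3
  have h4 : g 0 = 0 := by
    have h5 := hadd 0 0
    rw [add_zero] at h5
    simpa using h5
  have h5 := congrFun (hinj (h3.trans h4.symm)) i₁
  rw [Pi.single_eq_same] at h5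
  exact one_ne_zero h5

/-- a field automorphism trivial on `F₀`, of order dividing a prime different from `r i₀`, is trivial -/
theorem eq_one_of_fix (h : Std U x f r i₀ ρ s) {σ : F ≃+* F} {ℓ : ℕ} (hℓ : ℓ.Prime) (hσ : σ ^ ℓ = 1)
    (hfix : ∀ a, ρ a = a → σ a = a) (hne : ℓ ≠ r i₀) : σ = 1 := by
  classical
  by_contra h1
  have hord : orderOf σ = ℓ := by
    have : Fact ℓ.Prime := ⟨hℓ⟩
    exact orderOf_eq_prime hσ h1
  have hle : fixf ρ ≤ fixf σ := fun a ha => hfix a ha
  let _ : Algebra ↥(fixf ρ) ↥(fixf σ) := (Subfield.inclusion hle).toAlgebra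
  have h2 : Nat.card ↥(fixf σ) = Nat.card ↥(fixf ρ) ^ Module.finrank ↥(fixf ρ) ↥(fixf σ) :=
    Module.natCard_eq_pow_finrank
  have h3 := card_fixf hord
  rw [card_fixf h.ord, h2, ← pow_mul] at h3
  have h4 : r i₀ = Module.finrank ↥(fixf ρ) ↥(fixf σ) * ℓ := Nat.pow_right_injective (_root_.Cfsg.Agent.CpAutU.Fld.two_le_card ρ) h3
  have h5 : ℓ ∣ r i₀ := ⟨_, by rw [h4, mul_comm]⟩
  exact hne ((Nat.prime_dvd_prime_iff_eq hℓ (h.fam.pf.prime i₀)).1 h5)

/-- **Only `x i₀` centralises `M`.** -/
theorem eq_of_centr (h : Std U x f r i₀ ρ s) {j : ι} (hj : ∀ m ∈ h.grp, x j * m = m * x j) : j = i₀ := by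
  classical
  by_contra hne
  have hg := h.fam.lft j
  have hn := U.hn
  generalize hfj : f j = g at hg
  obtain ⟨σ, hσ1, -⟩ := hg.ind.exists_rho
  obtain ⟨h1, c, hc⟩ := h.lft_scalar (fun v w => hg.ind.map_add v w) hσ1 hg.ind.injective
    (fun e he hee he0 => h.lft_iso hg hj he hee he0)
  -- `σ ^ r j = 1`
  have hit : ∀ (k : ℕ) (a : F) (v : Fin n → F), g^[k] (a • v) = (σ ^ k) a • g^[k] v := by
    intro k
    induction k with
    | zero => intro a v; rfl
    | succ k ih =>
      intro a v
      rw [Function.iterate_succ_apply', ih, hσ1, Function.iterate_succ_apply', pow_succ']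
      rfl
  have hpj := hg.pow (r j)
  rw [h.fam.pf.pow] at hpj
  obtain ⟨d, hd⟩ := hpj.eq_one_iff.1 rfl
  let i₁ : Fin n := ⟨0, by omega⟩
  have hσ : σ ^ r j = 1 := by
    ext a
    have h2 := hit (r j) a (Pi.single i₁ 1)
    rw [hd, hd] at h2
    have h3 := hpj.ind.injective.ne (a₁ := (Pi.single i₁ 1 : Fin n → F)) (a₂ := 0) (by
      intro h4
      have h5 := congrFun h4 i₁
      rw [Pi.single_eq_same] at h5
      exact one_ne_zero h5)
    rw [hpj.ind.map_zero, hd] at h3
    have h4 : (a - (σ ^ r j) a) • (d • (Pi.single i₁ 1 : Fin n → F)) = 0 := by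
      rw [sub_smul, ← h2, smul_comm, sub_self]
    exact (sub_eq_zero.1 ((smul_eq_zero.1 h4).resolve_right h3)).symm
  have hσ' := h.eq_one_of_fix (h.fam.pf.prime j) hσ h1 (fun h2 => hne (h.fam.pf.inj h2))
  subst hσ'
  apply h.fam.pf.ne j
  rw [hg.eq_one_iff]
  refine ⟨c, fun v => ?_⟩
  have hsum : ∀ (t : Finset (Fin n)) (w : Fin n → (Fin n → F)), g (∑ i ∈ t, w i) = ∑ i ∈ t, g (w i) := by
    intro t w
    induction t using Finset.induction_on with
    | empty => rw [Finset.sum_empty, Finset.sum_empty, hg.ind.map_zero]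
    | insert a t ha ih => rw [Finset.sum_insert ha, Finset.sum_insert ha, hg.ind.map_add, ih]
  have hv : v = ∑ i, v i • (Pi.single i 1 : Fin n → F) := by
    funext l
    simp only [Finset.sum_apply, Pi.single_apply, _root_.Pi.smul_apply, _root_.smul_eq_mul, _root_.mul_ite, _root_.mul_one, _root_.MulZeroClass.mul_zero, _root_.Finset.sum_ite_eq, _root_.Finset.mem_univ, ↓ _root_.reduceIte]
  conv_lhs => rw [hv]
  conv_rhs => rw [hv]
  rw [hsum, Finset.smul_sum]
  refine Finset.sum_congr rfl fun i _ => ?_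
  rw [hσ1, hc, smul_comm]
  rfl

/-- **The final step**: `x i₀` and a transvection of `M` do not cover. -/
theorem not_cov_two (h : Std U x f r i₀ ρ s) [Nonempty Ω]
    (hcov : ∀ ω : Ω, (∀ m ∈ h.grp, m • ω = ω) ∨ x i₀ • ω = ω) : False := by
  classical
  have hF := U.hF
  have hn := U.hn
  let i : Fin n := ⟨0, by omega⟩
  let j : Fin n := ⟨1, by omega⟩
  let k : Fin n := ⟨2, by omega⟩
  have hij : i ≠ j := fun h1 => by have h2 := congrArg Fin.val h1; change 0 = 1 at h2; omega
  have hik : i ≠ k := fun h1 => by have h2 := congrArg Fin.val h1; change 0 = 2 at h2; omega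
  have hjk : j ≠ k := fun h1 => by have h2 := congrArg Fin.val h1; change 1 = 2 at h2; omega
  obtain ⟨b, hb, hb1⟩ := h.exists_norm (c := -1) (by rw [map_neg, map_one]) (by rw [neg_pow_q hF, one_pow])
  obtain ⟨κ, hκ, hκq⟩ := h.exists_kappa
  obtain ⟨e, he⟩ : ∃ e : Fin n → F, e = Pi.single i 1 + b • Pi.single j 1 + (0 : F) • Pi.single k 1 := ⟨_, rfl⟩
  have hee : hermForm n F q e e = 0 := by
    rw [he, herm_three hij hik hjk, hb1]
    ring
  have he0 : e ≠ 0 := by
    intro h0
    have h2 := congrFun h0 i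
    rw [he] at h2
    simp only [Pi.add_apply, Pi.smul_apply, Pi.single_eq_same, Pi.single_eq_of_ne hij, Pi.single_eq_of_ne hik,
      smul_eq_mul, mul_zero, add_zero, Pi.zero_apply] at h2
    exact one_ne_zero h2
  have hs1 : ∀ m l : Fin n, ρ ((Pi.single m 1 : Fin n → F) l) = (Pi.single m 1 : Fin n → F) l := by
    intro m l
    rcases eq_or_ne l m with rfl | hl
    · rw [Pi.single_eq_same, map_one]
    · rw [Pi.single_eq_of_ne hl, map_zero]
  have heρ : ∀ l, ρ (e l) = e l := by
    intro l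
    rw [he]
    simp only [Pi.add_apply, Pi.smul_apply, smul_eq_mul, map_add, map_mul, hs1, hb, map_zero]
  have hek : ∀ a : F, hermForm n F q (a • Pi.single k 1) e = 0 := by
    intro a
    rw [herm_smul_left, herm_single_left, he]
    simp only [Pi.add_apply, Pi.smul_apply, Pi.single_eq_same, Pi.single_eq_of_ne hjk.symm,
      Pi.single_eq_of_ne hik.symm, smul_eq_mul, mul_zero, add_zero, mul_one, zero_pow_q hF]
  have hkk : ∀ a c : F, hermForm n F q (a • Pi.single k 1) (c • Pi.single k 1) = a * c ^ q := by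
    intro a c
    rw [herm_smul_left, herm_smul_right, herm_single_left, Pi.single_eq_same, one_pow, mul_one, mul_one]
  -- Siegel transformations
  have hex : ∀ a : F, ∃ μ, IsSiegel q e (a • Pi.single k 1) μ := by
    intro a
    obtain ⟨μ, hμ⟩ := exists_trace_eq hF (c := -(a * a ^ q)) (by rw [neg_pow_q hF, norm_pow_q hF])
    exact ⟨μ, hee, hek a, by rw [hμ, hkk]; ring⟩
  obtain ⟨t, ht⟩ : ∃ t : F, ρ t ≠ t := by
    by_contra hcon
    push Not at hcon
    have h1 : ρ = 1 := RingEquiv.ext hcon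
    have h2 := h.ord
    rw [h1, orderOf_one] at h2
    exact (h.fam.pf.prime i₀).ne_one h2.symm
  have htt : (t - ρ t) ^ q ≠ 0 := pow_ne_zero _ (sub_ne_zero.2 (Ne.symm ht))
  obtain ⟨μ₁, hμ₁⟩ := hex t
  obtain ⟨μ₂, hμ₂⟩ := hex (κ / (t - ρ t) ^ q)
  let Q : Subgroup G := (siegG hF e hee).map U.el
  have hQ : ∀ {w : Fin n → F} {μ : F} (hs : IsSiegel q e w μ), U.el (siegel hF e w μ hs) ∈ Q :=
    fun hs => ⟨_, ⟨_, _, hs, rfl⟩, rfl⟩
  -- the first commutator
  have hρt : (fun l => ρ ((t • (Pi.single k 1 : Fin n → F)) l)) = ρ t • (Pi.single k 1 : Fin n → F) := by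
    funext l
    simp only [Pi.smul_apply, smul_eq_mul, map_mul, hs1]
  have hμ₁' : IsSiegel q e (ρ t • Pi.single k 1) (ρ μ₁) := by
    have h1 := h.siegel_rho hμ₁ heρ
    rwa [hρt] at h1
  have hc1 := mem_cmm (x := x i₀) (hQ hμ₁)
  have hc2 : U.el (siegel hF e _ _ hμ₁) * x i₀ * (U.el (siegel hF e _ _ hμ₁))⁻¹ * (x i₀)⁻¹ =
      U.el (siegel hF e _ _ (hμ₁.mul hF (hμ₁'.inv hF))) := by
    rw [← siegel_mul hF hμ₁ (hμ₁'.inv hF), ← siegel_inv hF hμ₁', map_mul, map_inv]
    have h1 := h.conj_siegel hμ₁ heρ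
    have h2 : siegel hF e _ _ (h.siegel_rho hμ₁ heρ) = siegel hF e _ _ hμ₁' := siegel_congr hF _ _ rfl hρt rfl
    rw [h2] at h1
    rw [← h1]
    group
  rw [hc2] at hc1
  have hc3 := cmm_comm (hQ hμ₂) hc1
  rw [← map_inv, ← map_inv, ← map_mul, ← map_mul, ← map_mul, ← commutatorElement_def,
    LieClassical.HermSimple.commutator_siegel hF hμ₂ (hμ₁.mul hF (hμ₁'.inv hF))] at hc3
  have hw : t • (Pi.single k 1 : Fin n → F) + -(ρ t • (Pi.single k 1 : Fin n → F)) =
      (t - ρ t) • (Pi.single k 1 : Fin n → F) := by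
    rw [sub_smul, sub_eq_add_neg]
  have hval : hermForm n F q ((κ / (t - ρ t) ^ q) • Pi.single k 1)
      (t • (Pi.single k 1 : Fin n → F) + -(ρ t • (Pi.single k 1 : Fin n → F))) -
      hermForm n F q (t • (Pi.single k 1 : Fin n → F) + -(ρ t • (Pi.single k 1 : Fin n → F)))
        ((κ / (t - ρ t) ^ q) • Pi.single k 1) = κ - κ ^ q := by
    rw [hw, herm_swap hF ((κ / (t - ρ t) ^ q) • Pi.single k 1), hkk, div_mul_cancel₀ _ htt]
  have hsy : IsSiegel q e 0 (κ - κ ^ q) := by
    refine isSiegel_zero hee ?_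
    rw [sub_pow_q hF, pow_q_pow_q hF]
    ring
  rw [siegel_congr hF _ hsy rfl rfl hval] at hc3
  have hyM : U.el (siegel hF e 0 (κ - κ ^ q) hsy) ∈ h.grp :=
    h.transv_mem hsy heρ (by rw [map_sub, map_pow, hκ])
  refine not_cov_one U.env (x := x i₀) (y := U.el (siegel hF e 0 (κ - κ ^ q) hsy)) (U := Q) (fun ω => ?_) ?_ ?_ hc3
  · rcases hcov ω with h1 | h1
    · exact Or.inl (h1 _ hyM)
    · exact Or.inr h1
  · rintro _ ⟨_, ⟨w, μ, hs, rfl⟩, rfl⟩
    rw [← map_mul, LieClassical.HermSimple.siegel_central hF hs hsy, map_mul]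
  · rw [Ne, U.el_eq_one]
    intro h1
    obtain ⟨z, -, -, hz⟩ := exists_scalar_of_mem_center hF hn h1
    have h2 : ∀ v, v + ((κ - κ ^ q) * hermForm n F q v e) • e = z • v := by
      intro v
      rw [← hz]
      exact (act_transv hF hee (by
        have := hsy.tr
        rwa [herm_zero_left, add_zero] at this) v).symm
    have h3 := h2 e
    rw [hee, mul_zero, zero_smul, add_zero] at h3
    have h4 : (1 - z) • e = 0 := by rw [sub_smul, one_smul, ← h3, sub_self]
    have h5 : z = 1 := (sub_eq_zero.1 ((smul_eq_zero.1 h4).resolve_right he0)).symm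
    obtain ⟨v, hv⟩ := exists_herm_ne_zero hF he0
    have hv' : hermForm n F q v e ≠ 0 := fun h4 => hv (herm_eq_zero_swap hF h4)
    have h6 := h2 v
    rw [h5, one_smul, add_eq_left] at h6
    rcases smul_eq_zero.1 h6 with h7 | h7
    · rcases mul_eq_zero.1 h7 with h8 | h8
      · exact hκq (sub_eq_zero.1 h8).symm
      · exact hv' h8
    · exact he0 h7

/-- **The case `(n, q₀) ≠ (3, 2)`.** -/
theorem not_cov (h : Std U x f r i₀ ρ s) [Finite ι] [Nonempty Ω] (h32 : ¬ (n = 3 ∧ s = 2))
    (hRC : RC (PSU n ↥(fixf ρ) s)) (hcov : _root_.Cfsg.Agent.H106.RC.Cov Ω x) : False := by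
  classical
  let _ : Fintype ↥(fixf ρ) := Fintype.ofFinite _
  have hF₀ : Fintype.card ↥(fixf ρ) = s ^ 2 := by rw [← Nat.card_eq_fintype_card, h.card]
  have hS : IsSimpleGroup (PSU n ↥(fixf ρ) s) := Cfsg.Agent.LieClassical.HermSimple.isSimpleGroup_of_perfect hF₀ U.hn
    (Cfsg.Agent.LieClassical.HermPerfect.commutator_SU_eq_top hF₀ U.hn h32)
  have hSn : ¬ IsMulCommutative (PSU n ↥(fixf ρ) s) := by
    have : IsSimpleGroup (SU n ↥(fixf ρ) s ⧸ Subgroup.center (SU n ↥(fixf ρ) s)) := hS
    exact Cfsg.Agent.CpAut.Fix.not_comm_quot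
  obtain ⟨e⟩ := h.exists_equiv
  refine h.not_cov_two fun ω => ?_
  have h1 := mrule_RC hS hSn x r h.fam.pf.prime h.fam.pf.inj h.fam.pf.pow h.fam.pf.comm h.grp (h.perfect h32)
    e.symm.toMonoidHom e.symm.surjective (by
      intro m hm
      have h2 : e.symm m = 1 := hm
      have h3 : m = 1 := by rw [← e.apply_symm_apply m, h2, map_one]
      rw [h3]
      exact Subgroup.one_mem _) (h.mem_norm h32) hRC ω (fun m _ => hcov _)
  rcases h1 with h1 | ⟨j, h1, h2⟩
  · exact Or.inl fun m hm => h1 hm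
  · rw [h.eq_of_centr h1] at h2
    exact Or.inr h2

end Std

/-- **E11a**: `CaseField` for `(n, q₀) ≠ (3, 2)`. -/
theorem caseField_of (hsmall : SmallStmt) : NoC fun {_ _ _ _ _ F _ _ n q} _ {ι} _ f r =>
    (∃ i : ι, ¬ Lin (f i) ∧ r i ≠ 2 ∧ ¬ (n = 3 ∧ q = 2 ^ r i)) ∧ H106.RC.IH (Nat.card (PSU n F q)) := by
  classical
  intro G Ω _ _ _ _ _ N F _ _ n q U ι _ x f r hfam hcov hP
  obtain ⟨⟨i₀, h1, h2, h3⟩, hIH⟩ := hP
  obtain ⟨U', f', ρ, s, h⟩ := exists_std U hfam h1 h2
  let _ : Fintype ↥(fixf ρ) := Fintype.ofFinite _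
  have hF₀ : Fintype.card ↥(fixf ρ) = s ^ 2 := by rw [← Nat.card_eq_fintype_card, h.card]
  have h32 : ¬ (n = 3 ∧ s = 2) := by
    rintro ⟨h4, h5⟩
    exact h3 ⟨h4, by rw [h.qs, h5]⟩
  obtain ⟨-, -, -, -, h4, -⟩ := hsmall U.hF U.hn U.h32 hIH
  exact h.not_cov h32 (h4 _ s (r i₀) h.qs (h.fam.pf.prime i₀).one_lt hF₀ h32) hcov

end Cfsg.Agent.H412.RC
end

-- part: H433/RC/GraphAlt
section
/-!
# S3510, family E (unitary groups), boxes E12a (`gForm`), E12b (`graphAlt`) (helper433)

* `gForm` : the normal form of a graph involution;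
* `graphAlt` : the form on the fixed points of `T` is alternating;

* `TA` : `T` semilinear involution, `h (T u) (T v) = - h u v ^ q`, `h v v = 0` if `T v = v`;
* `K0`, `V0` : the fixed field and the fixed points; `bf` : the alternating form; `exists_dec`, `finrank_V0`;
* `mrule_hom` : the M-rule for a homomorphism `j : X →* G`;
-/

set_option autoImplicit false
set_option linter.unusedSectionVars false

namespace Cfsg.Agent.H433.RC

open Matrix Cfsg Cfsg.Agent.LieClassical.HermBasic Cfsg.Agent.LieClassical.HermSiegel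
  Cfsg.Agent.LieClassical.HermGen Cfsg.Agent.LieClassical.SUBasic
  Cfsg.Agent.ClassicalGeometry.PSUAutBasic
  Cfsg.Agent.ClassicalGeometry.PSUAutCount Cfsg.Agent.LieClassical.FieldTransfer Cfsg.Agent.H380.RC

section field

variable {F : Type*} [Field F] [Fintype F] {q : ℕ}

/-- an involutory field automorphism is `c ↦ c ^ q` -/
theorem eq_pow_q (hF : Fintype.card F = q ^ 2) {ρ : F ≃+* F} (h2 : ∀ c, ρ (ρ c) = c) (h1 : ∃ c, ρ c ≠ c) (c : F) :
    ρ c = c ^ q := by
  classical
  have hc : IsCyclic (F ≃+* F) := LieRecognition.FieldSemilinear.isCyclic_ringAut F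
  have hfin : Finite (F ≃+* F) := Finite.of_injective (fun f : F ≃+* F => (f : F → F)) DFunLike.coe_injective
  have := Fintype.ofFinite (F ≃+* F)
  obtain ⟨a, ha⟩ := exists_not_fixed hF
  by_contra hne
  have h3 : ({1, conj hF, ρ} : Finset (F ≃+* F)) ⊆ Finset.univ.filter fun σ : F ≃+* F => σ ^ 2 = 1 := by
    intro σ hσ
    rw [Finset.mem_filter]
    refine ⟨Finset.mem_univ _, ?_⟩
    rw [Finset.mem_insert, Finset.mem_insert, Finset.mem_singleton] at hσ
    rcases hσ with rfl | rfl | rfl
    · exact one_pow 2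
    · ext x
      exact pow_q_pow_q hF x
    · ext x
      exact h2 x
  have h4 := Finset.card_le_card h3
  have h5 := IsCyclic.card_pow_eq_one_le (α := F ≃+* F) (n := 2) (by norm_num)
  have h6 : ({1, conj hF, ρ} : Finset (F ≃+* F)).card = 3 := by
    rw [Finset.card_insert_of_notMem, Finset.card_insert_of_notMem, Finset.card_singleton]
    · rw [Finset.mem_singleton]
      intro h
      exact hne (by rw [← h]; rfl)
    · rw [Finset.mem_insert, Finset.mem_singleton, not_or]
      constructor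
      · intro h
        exact ha (by
          have := congrArg (fun σ : F ≃+* F => σ a) h
          exact this.symm)
      · rintro rfl
        obtain ⟨c, hc⟩ := h1
        exact hc rfl
  omega

end field

/-- **E12a** -/
theorem gForm : GFormStmt := by
  intro G Ω _ _ _ N F _ _ n q U ι _ x f r h i₀ hnl hr hlin
  have hF := U.hF
  have hL := h.lft i₀
  obtain ⟨ρ, hs, hh⟩ := Ind.exists_rho hL
  have hadd := Ind.map_add hL
  -- the square
  have h2 : U.Lft 1 (f i₀)^[2] := by
    have h3 := hL.pow 2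
    have h4 := h.pf.pow i₀
    rw [hr] at h4
    rwa [h4] at h3
  obtain ⟨μ, hμ, hμ2⟩ := U.lft_one.unique h2
  have hff : ∀ v, f i₀ (f i₀ v) = μ • v := hμ2
  have hn := U.hn
  obtain ⟨v₀, w₀, hvw⟩ : ∃ v w : Fin n → F, hermForm n F q v w = 1 := by
    refine ⟨Pi.single ⟨0, by omega⟩ 1, Pi.single ⟨0, by omega⟩ 1, ?_⟩
    rw [herm_single_left, Pi.single_eq_same, one_pow, one_mul]
  have hv0 : v₀ ≠ 0 := by
    rintro rfl
    rw [herm_zero_left] at hvw
    exact zero_ne_one hvw
  have hμ0 : μ ≠ 0 := by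
    rintro rfl
    rw [zero_mul] at hμ
    exact zero_ne_one hμ
  -- the field automorphism
  have hρ2 : ∀ c, ρ (ρ c) = c := by
    intro c
    have h3 := hff (c • v₀)
    rw [hs, hs, hff, smul_smul, smul_smul] at h3
    have h4 : (ρ (ρ c) * μ - μ * c) • v₀ = 0 := by rw [sub_smul, h3, sub_self]
    rcases smul_eq_zero.1 h4 with h5 | h5
    · have h6 : μ * (ρ (ρ c) - c) = 0 := by linear_combination h5
      exact sub_eq_zero.1 ((mul_eq_zero.1 h6).resolve_left hμ0)
    · exact absurd h5 hv0
  have hρ1 : ∃ c, ρ c ≠ c := by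
    by_contra hcon
    push Not at hcon
    exact hnl fun c v => by rw [hs, hcon]
  have hρ : ∀ c, ρ c = c ^ q := eq_pow_q hF hρ2 hρ1
  have hfv : f i₀ v₀ ≠ 0 := by
    intro h0
    have h3 := hh v₀ w₀
    rw [h0, herm_zero_left, hvw, map_one] at h3
    exact zero_ne_one h3
  -- `μ ^ q = μ`
  have hμq : μ ^ q = μ := by
    have h3 : f i₀ (f i₀ (f i₀ v₀)) = μ ^ q • f i₀ v₀ := by rw [hff v₀, hs, hρ]
    rw [hff (f i₀ v₀)] at h3
    have h4 : (μ ^ q - μ) • f i₀ v₀ = 0 := by rw [sub_smul, ← h3, sub_self]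
    exact sub_eq_zero.1 ((smul_eq_zero.1 h4).resolve_right hfv)
  have hμ1 : μ * μ = 1 := by rwa [hμq] at hμ
  have hμc : μ = 1 ∨ μ = -1 := mul_self_eq_one_iff.1 hμ1
  obtain ⟨b, hb0, hb⟩ := exists_norm_eq_ne hF hμq hμ0
  have hT : ∀ u v, hermForm n F q (b • f i₀ u) (b • f i₀ v) = μ * (hermForm n F q u v) ^ q := by
    intro u v
    rw [herm_smul_left, herm_smul_right, hh, hρ, ← hb]
    ring
  refine ⟨fun v => b • f i₀ v, ⟨h, hr, hnl, hlin, ⟨b, hb0, fun v => rfl⟩, ?_, ?_, ?_, ⟨μ, hμc, hT⟩, ?_⟩⟩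
  · intro v
    show b • f i₀ (b • f i₀ v) = v
    rw [hs, hff, hρ, smul_smul, smul_smul, hb, hμ1, one_smul]
  · intro v w
    show b • f i₀ (v + w) = b • f i₀ v + b • f i₀ w
    rw [hadd, smul_add]
  · intro c v
    show b • f i₀ (c • v) = c ^ q • b • f i₀ v
    rw [hs, hρ, smul_comm]
  · intro j hj v
    show f j (b • f i₀ v) = b • f i₀ (f j v)
    rw [hlin j hj, h.comm]

section V0

variable {F : Type*} [Field F] [Fintype F] {n q : ℕ}

/-- the fixed field -/
def K0 (hF : Fintype.card F = q ^ 2) : Subfield F := ((conj hF : F ≃+* F) : F →+* F).eqLocusField (RingHom.id F)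

theorem mem_K0 {hF : Fintype.card F = q ^ 2} {c : F} : c ∈ K0 hF ↔ c ^ q = c := Iff.rfl

theorem card_K0 (hF : Fintype.card F = q ^ 2) : Nat.card (K0 hF) = q := card_fixed hF

/-- a semilinear involution whose fixed points are totally isotropic vectors -/
structure TA (n q : ℕ) (T : (Fin n → F) → (Fin n → F)) : Prop where
  TT : ∀ v, T (T v) = v
  add : ∀ v w, T (v + w) = T v + T w
  smul : ∀ (c : F) v, T (c • v) = c ^ q • T v
  herm : ∀ u v, hermForm n F q (T u) (T v) = -(hermForm n F q u v) ^ q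
  alt : ∀ v, T v = v → hermForm n F q v v = 0

variable {T : (Fin n → F) → (Fin n → F)}

/-- decomposition `V = V₀ + θ V₀` -/
theorem exists_dec (hF : Fintype.card F = q ^ 2) (hTT : ∀ v, T (T v) = v) (hsub : ∀ v w, T (v - w) = T v - T w)
    (hsmul : ∀ (c : F) v, T (c • v) = c ^ q • T v) {θ : F} (hθ : θ ^ q ≠ θ) (v : Fin n → F) :
    ∃ a b : Fin n → F, T a = a ∧ T b = b ∧ v = a + θ • b := by
  have h0 : θ - θ ^ q ≠ 0 := sub_ne_zero.2 (Ne.symm hθ)
  set b : Fin n → F := (θ - θ ^ q)⁻¹ • (v - T v) with hb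
  have h1 : T b = b := by
    rw [hb, hsmul, hsub, hTT, inv_pow, sub_pow_q hF, pow_q_pow_q hF]
    have h2 : (θ ^ q - θ)⁻¹ = -(θ - θ ^ q)⁻¹ := by rw [← inv_neg, neg_sub]
    rw [h2, neg_smul, ← smul_neg, neg_sub]
  have h3 : (θ - θ ^ q) • b = v - T v := by rw [hb, smul_smul, mul_inv_cancel₀ h0, one_smul]
  refine ⟨v - θ • b, b, ?_, h1, by rw [sub_add_cancel]⟩
  rw [hsub, hsmul, h1]
  have h4 : v - T v = θ • b - θ ^ q • b := by rw [← h3, sub_smul]
  have h5 : T v = v - (θ • b - θ ^ q • b) := by rw [← h4, sub_sub_cancel]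
  rw [h5]
  abel

namespace TA

theorem zero (h : TA n q T) : T 0 = 0 := by
  have := h.add 0 0
  rw [add_zero] at this
  simpa using this

theorem neg (h : TA n q T) (v : Fin n → F) : T (-v) = -T v := by
  rw [eq_neg_iff_add_eq_zero, ← h.add, neg_add_cancel, h.zero]

theorem sub (h : TA n q T) (v w : Fin n → F) : T (v - w) = T v - T w := by
  rw [sub_eq_add_neg, h.add, h.neg, ← sub_eq_add_neg]

/-- the fixed points -/
def V0 (h : TA n q T) (hF : Fintype.card F = q ^ 2) : Submodule (K0 hF) (Fin n → F) where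
  carrier := {v | T v = v}
  add_mem' {a b} ha hb := by
    show T (a + b) = a + b
    rw [h.add, show T a = a from ha, show T b = b from hb]
  zero_mem' := h.zero
  smul_mem' c v hv := by
    show T ((c : F) • v) = (c : F) • v
    rw [h.smul, show T v = v from hv, mem_K0.1 c.2]

variable {hF : Fintype.card F = q ^ 2}

/-- decomposition `V = V₀ + θ V₀` -/
theorem dec (h : TA n q T) (hF : Fintype.card F = q ^ 2) {θ : F} (hθ : θ ^ q ≠ θ) (v : Fin n → F) :
    ∃ a b : Fin n → F, T a = a ∧ T b = b ∧ v = a + θ • b := exists_dec hF h.TT h.sub h.smul hθ v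

/-- uniqueness of the decomposition -/
theorem dec_unique (h : TA n q T) {θ : F} (hθ : θ ^ q ≠ θ) {a b a' b' : Fin n → F} (ha : T a = a) (hb : T b = b)
    (ha' : T a' = a') (hb' : T b' = b') (he : a + θ • b = a' + θ • b') : a = a' ∧ b = b' := by
  have h0 : θ - θ ^ q ≠ 0 := sub_ne_zero.2 (Ne.symm hθ)
  have h1 : (a - a') + θ • (b - b') = 0 := by
    rw [smul_sub]
    have : a - a' + (θ • b - θ • b') = (a + θ • b) - (a' + θ • b') := by abel
    rw [this, he, sub_self]
  have h2 := congrArg T h1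
  rw [h.zero, h.add, h.smul, h.sub, h.sub, ha, hb, ha', hb'] at h2
  have h3 : (θ - θ ^ q) • (b - b') = 0 := by
    rw [sub_smul]
    have : θ • (b - b') - θ ^ q • (b - b') = ((a - a') + θ • (b - b')) - ((a - a') + θ ^ q • (b - b')) := by abel
    rw [this, h1, h2, sub_self]
  have h4 : b - b' = 0 := (smul_eq_zero.1 h3).resolve_left h0
  refine ⟨?_, sub_eq_zero.1 h4⟩
  rw [h4, smul_zero, add_zero] at h1
  exact sub_eq_zero.1 h1

/-- the dimension -/
theorem finrank_V0 (h : TA n q T) : Module.finrank (K0 hF) (h.V0 hF) = n := by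
  obtain ⟨θ, hθ⟩ := exists_not_fixed hF
  have hb : (Function.Bijective fun p : h.V0 hF × h.V0 hF => (p.1 : Fin n → F) + θ • (p.2 : Fin n → F) :) := by
    constructor
    · rintro ⟨a, b⟩ ⟨a', b'⟩ he
      obtain ⟨h1, h2⟩ := h.dec_unique hθ a.2 b.2 a'.2 b'.2 he
      exact Prod.ext (Subtype.ext h1) (Subtype.ext h2)
    · intro v
      obtain ⟨a, b, ha, hb, e⟩ := h.dec hF hθ v
      exact ⟨(⟨a, ha⟩, ⟨b, hb⟩), e.symm⟩
  have h1 := Nat.card_congr (Equiv.ofBijective _ hb)
  rw [Nat.card_prod] at h1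
  have h2 : Nat.card (Fin n → F) = (q ^ n) * (q ^ n) := by
    rw [Nat.card_fun, Nat.card_fin, Nat.card_eq_fintype_card, hF, ← pow_mul, ← pow_add]
    congr 1
    ring
  rw [h2] at h1
  have h3 : Nat.card (h.V0 hF) = q ^ n := Nat.mul_self_inj.1 h1
  have h4 := Module.natCard_eq_pow_finrank (K := K0 hF) (V := h.V0 hF)
  rw [h3, card_K0] at h4
  exact (Nat.pow_right_injective (two_le hF) h4).symm


theorem eq_on (h : TA n q T) (hF : Fintype.card F = q ^ 2) {φ ψ : (Fin n → F) → (Fin n → F)}
    (h1 : ∀ v w, φ (v + w) = φ v + φ w) (h2 : ∀ (c : F) v, φ (c • v) = c • φ v)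
    (h3 : ∀ v w, ψ (v + w) = ψ v + ψ w) (h4 : ∀ (c : F) v, ψ (c • v) = c • ψ v) (h0 : ∀ v, T v = v → φ v = ψ v)
    (v : Fin n → F) : φ v = ψ v := by
  obtain ⟨θ, hθ⟩ := exists_not_fixed hF
  obtain ⟨a, b, ha, hb, rfl⟩ := h.dec hF hθ v
  rw [h1, h2, h3, h4, h0 a ha, h0 b hb]

/-- `h u v ^ q = - h u v` on `V₀` -/
theorem herm_V0 (h : TA n q T) {u v : Fin n → F} (hu : T u = u) (hv : T v = v) :
    (hermForm n F q u v) ^ q = -hermForm n F q u v := by
  have h1 := h.herm u v
  rw [hu, hv] at h1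
  linear_combination h1

/-- the alternating form `κ h` on `V₀` -/
def bf (h : TA n q T) (hF : Fintype.card F = q ^ 2) {κ : F} (hκ : κ + κ ^ q = 0) :
    LinearMap.BilinForm (K0 hF) (h.V0 hF) :=
  LinearMap.mk₂ (K0 hF) (fun u v => ⟨κ * hermForm n F q u v, by
      rw [mem_K0, mul_pow, h.herm_V0 u.2 v.2]
      linear_combination (-hermForm n F q u v) * hκ⟩)
    (fun u u' v => Subtype.ext (by
      show κ * hermForm n F q ((u : Fin n → F) + u') v = κ * hermForm n F q u v + κ * hermForm n F q u' v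
      rw [herm_add_left, mul_add]))
    (fun c u v => Subtype.ext (by
      show κ * hermForm n F q ((c : F) • (u : Fin n → F)) v = c * (κ * hermForm n F q u v)
      rw [herm_smul_left]; ring))
    (fun u v v' => Subtype.ext (by
      show κ * hermForm n F q u ((v : Fin n → F) + v') = κ * hermForm n F q u v + κ * hermForm n F q u v'
      rw [herm_add_right hF, mul_add]))
    (fun c u v => Subtype.ext (by
      show κ * hermForm n F q u ((c : F) • (v : Fin n → F)) = c * (κ * hermForm n F q u v)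
      rw [herm_smul_right, mem_K0.1 c.2]; ring))

theorem coe_bf (h : TA n q T) (hF : Fintype.card F = q ^ 2) {κ : F} (hκ : κ + κ ^ q = 0) (u v : h.V0 hF) :
    ((h.bf hF hκ u v : K0 hF) : F) = κ * hermForm n F q u v := rfl

/-- the form is alternating and nondegenerate -/
theorem nalt (h : TA n q T) (hF : Fintype.card F = q ^ 2) {κ : F} (hκ : κ + κ ^ q = 0) (hκ0 : κ ≠ 0) :
    H520.RC.NAlt (h.bf hF hκ) where
  alt u := Subtype.ext (by
    rw [coe_bf, h.alt u u.2, mul_zero]
    rfl)
  nd u hu := by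
    apply Subtype.ext
    refine herm_nondeg hF fun v => ?_
    obtain ⟨θ, hθ⟩ := exists_not_fixed hF
    obtain ⟨a, b, ha, hb, rfl⟩ := h.dec hF hθ v
    have key : ∀ w, T w = w → hermForm n F q u w = 0 := by
      intro w hw
      have h1 := congrArg (fun c : K0 hF => (c : F)) (hu ⟨w, hw⟩)
      have h2 : κ * hermForm n F q u w = 0 := h1
      exact (mul_eq_zero.1 h2).resolve_left hκ0
    rw [herm_add_right hF, herm_smul_right, key a ha, key b hb, mul_zero, add_zero]

/-- the centralizer of `T` in `SU` -/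
def C (T : (Fin n → F) → (Fin n → F)) : Subgroup (SU n F q) where
  carrier := {s | ∀ v, act s (T v) = T (act s v)}
  one_mem' v := by rw [act_one, act_one]
  mul_mem' {s t} hs ht v := by
    rw [act_mul, ht v, hs, act_mul]
  inv_mem' {s} hs v := by
    apply act_injective s
    rw [act_act_inv, hs, act_act_inv]

theorem mem_C {s : SU n F q} : s ∈ C T ↔ ∀ v, act s (T v) = T (act s v) := Iff.rfl

/-- the restriction to `V₀` -/
def res (h : TA n q T) (hF : Fintype.card F = q ^ 2) {κ : F} (hκ : κ + κ ^ q = 0) :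
    C (F := F) (n := n) (q := q) T →* H520.RC.Sp (h.bf hF hκ) where
  toFun s := ⟨
    { toFun := fun v => ⟨(act s.1 v :), by
        show T (act s.1 v) = act s.1 v
        rw [← mem_C.1 s.2, v.2]⟩
      invFun := fun v => ⟨act s.1⁻¹ v, by
        show T (act s.1⁻¹ v) = act s.1⁻¹ v
        rw [← mem_C.1 (Subgroup.inv_mem _ s.2), v.2]⟩
      left_inv := fun v => Subtype.ext (act_inv_act _ _)
      right_inv := fun v => Subtype.ext (act_act_inv _ _)
      map_add' := fun v w => Subtype.ext (act_add _ _ _)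
      map_smul' := fun c v => Subtype.ext (act_smul _ (c : F) _) }, fun u v => Subtype.ext (by
        show κ * hermForm n F q (act s.1 u) (act s.1 v) = κ * hermForm n F q u v
        rw [herm_act])⟩
  map_one' := by
    apply Subtype.ext
    apply LinearEquiv.ext
    intro v
    exact Subtype.ext (act_one _)
  map_mul' s t := by
    apply Subtype.ext
    apply LinearEquiv.ext
    intro v
    exact Subtype.ext (act_mul _ _ _)

theorem coe_res (h : TA n q T) (hF : Fintype.card F = q ^ 2) {κ : F} (hκ : κ + κ ^ q = 0)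
    (s : C (F := F) (n := n) (q := q) T) (v : h.V0 hF) :
    (((h.res hF hκ s).1 v : h.V0 hF) : Fin n → F) = act s.1 v := rfl

theorem res_injective (h : TA n q T) (hF : Fintype.card F = q ^ 2) {κ : F} (hκ : κ + κ ^ q = 0) :
    Function.Injective (h.res hF hκ) := by
  intro s t hst
  apply Subtype.ext
  apply ext_act
  refine h.eq_on hF (act_add _) (act_smul _) (act_add _) (act_smul _) fun v hv => ?_
  have h1 := congrArg (fun r : H520.RC.Sp (h.bf hF hκ) => ((r.1 ⟨v, hv⟩ : h.V0 hF) : Fin n → F)) hst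
  exact h1

/-- transvections with centre in `V₀` -/
theorem transv_mem_C (h : TA n q T) (hF : Fintype.card F = q ^ 2) {e : Fin n → F} (he : T e = e) {μ : F}
    (hμ : μ + μ ^ q = 0) : transv hF e (h.alt e he) μ hμ ∈ C (F := F) (n := n) (q := q) T := by
  intro v
  rw [act_transv, act_transv, h.add, h.smul, he]
  have h1 := h.herm v e
  rw [he] at h1
  rw [h1, mul_pow]
  congr 2
  linear_combination (-(hermForm n F q v e) ^ q) * hμ

theorem res_surjective (h : TA n q T) (hF : Fintype.card F = q ^ 2) {κ : F} (hκ : κ + κ ^ q = 0) (hκ0 : κ ≠ 0) :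
    Function.Surjective (h.res hF hκ) := by
  rw [← MonoidHom.range_eq_top]
  refine H520.RC.gen_tv (h.nalt hF hκ hκ0) _ fun e c => ?_
  have hc : (c * κ : F) + (c * κ) ^ q = 0 := by
    rw [mul_pow, mem_K0.1 c.2]
    linear_combination (c : F) * hκ
  refine ⟨⟨(transv hF (e : Fin n → F) (h.alt e e.2) (c * κ) hc :), h.transv_mem_C hF e.2 hc⟩, ?_⟩
  apply Subtype.ext
  apply LinearEquiv.ext
  intro v
  apply Subtype.ext
  rw [coe_res, act_transv, H520.RC.tv_apply]
  show (v : Fin n → F) + (c * κ * hermForm n F q v e) • (e : Fin n → F) =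
    (v : Fin n → F) + ((c : F) * (κ * hermForm n F q v e)) • (e : Fin n → F)
  rw [mul_assoc]

end TA

end V0

section mrule

open MulAction Cfsg.Agent.H106.RC

/-- **The M-rule for a homomorphism.** -/
theorem mrule_hom {G S X Ω ι : Type} [Group G] [Finite G] [Group S] [Finite S] [Group X] [Finite X] [MulAction G Ω]
    [Finite ι] (hIH : IH (Nat.card S)) {N : Subgroup G} (e : N ≃* S) (f : X →* G) (hN : f.range ≤ N)
    (hne : f.range ≠ N) (hker : ∀ s, f s = 1 → s ∈ Subgroup.center X) (hperf : commutator X = ⊤)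
    (h1 : IsSimpleGroup (X ⧸ Subgroup.center X)) (h2 : ¬ IsMulCommutative (X ⧸ Subgroup.center X))
    (h3 : Cl (X ⧸ Subgroup.center X)) (h4 : ¬ Exc (X ⧸ Subgroup.center X))
    {x : ι → G} {r : ι → ℕ} (hx : PF x r) (hcov : _root_.Cfsg.Agent.H106.RC.Cov Ω x) (hnorm : ∀ i s, ∃ s', x i * f s * (x i)⁻¹ = f s') (ω : Ω) :
    (∀ s, f s • ω = ω) ∨ ∃ i, (∀ s, x i * f s = f s * x i) ∧ x i • ω = ω := by
  set K : Subgroup G := f.range with hK
  have hKperf : ⁅K, K⁆ = K := by
    have h3 := Subgroup.map_commutator (⊤ : Subgroup X) ⊤ f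
    rw [← commutator_def, hperf, ← MonoidHom.range_eq_map] at h3
    exact h3.symm
  have hlift : ∀ m : K, ∃ s, f s = m := fun m => m.2
  let π : K →* X ⧸ Subgroup.center X :=
    { toFun := fun m => QuotientGroup.mk (hlift m).choose
      map_one' := by
        rw [QuotientGroup.eq_one_iff]
        exact hker _ (hlift 1).choose_spec
      map_mul' := fun m n => by
        rw [← QuotientGroup.mk_mul, QuotientGroup.eq]
        apply hker
        rw [map_mul, map_inv, map_mul, (hlift _).choose_spec, (hlift _).choose_spec, (hlift _).choose_spec]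
        rw [Subgroup.coe_mul]
        group }
  have hπ : ∀ s, π ⟨f s, s, rfl⟩ = QuotientGroup.mk s := by
    intro s
    show QuotientGroup.mk (hlift ⟨f s, s, rfl⟩).choose = _
    rw [QuotientGroup.eq]
    apply hker
    rw [map_mul, map_inv, (hlift _).choose_spec, inv_mul_cancel]
  have hπs : Function.Surjective π := by
    intro y
    obtain ⟨s, rfl⟩ := QuotientGroup.mk_surjective y
    exact ⟨_, hπ s⟩
  have hπk : π.ker ≤ Subgroup.center K := by
    rintro ⟨_, s, rfl⟩ hs
    rw [MonoidHom.mem_ker] at hs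
    rw [hπ, QuotientGroup.eq_one_iff] at hs
    rw [Subgroup.mem_center_iff]
    rintro ⟨_, t, rfl⟩
    apply Subtype.ext
    show f t * f s = f s * f t
    rw [← map_mul, ← map_mul, Subgroup.mem_center_iff.1 hs]
  have hnK : ∀ i, x i ∈ Subgroup.normalizer (K : Set G) := by
    intro i
    have h3 : ∀ m ∈ K, x i * m * (x i)⁻¹ ∈ K := by
      rintro _ ⟨s, rfl⟩
      obtain ⟨s', hs'⟩ := hnorm i s
      exact ⟨s', hs'.symm⟩
    rw [Subgroup.mem_normalizer_iff]
    intro m
    refine ⟨fun hm => h3 m hm, fun hm => ?_⟩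
    have h4 : ∀ n : ℕ, x i ^ n * (x i * m * (x i)⁻¹) * (x i ^ n)⁻¹ ∈ K := by
      intro n
      induction n with
      | zero => simpa only [_root_.pow_zero, _root_.one_mul, _root_.inv_one, _root_.mul_one] using hm
      | succ n ih =>
        have h5 := h3 _ ih
        have h6 : x i * (x i ^ n * (x i * m * (x i)⁻¹) * (x i ^ n)⁻¹) * (x i)⁻¹ =
            x i ^ (n + 1) * (x i * m * (x i)⁻¹) * (x i ^ (n + 1))⁻¹ := by
          rw [pow_succ']
          group
        rwa [h6] at h5
    obtain ⟨n, hn⟩ : ∃ n, r i = n + 1 := ⟨r i - 1, by have := (hx.prime i).pos; omega⟩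
    have h4 := h4 n
    have h5 : x i ^ n = (x i)⁻¹ := by
      rw [eq_inv_iff_mul_eq_one, ← pow_succ, ← hn]
      exact hx.pow i
    rw [h5] at h4
    have h6 : (x i)⁻¹ * (x i * m * (x i)⁻¹) * ((x i)⁻¹)⁻¹ = m := by group
    rwa [h6] at h4
  rcases mrule_IH hIH e hN hne hKperf π hπs hπk h1 h2 h3 h4 hx hcov hnK ω with h5 | ⟨i, h5, h6⟩
  · exact Or.inl fun s => h5 ⟨s, rfl⟩
  · exact Or.inr ⟨i, fun s => h5 _ ⟨s, rfl⟩, h6⟩

end mrule

section final

open MulAction Cfsg.Agent.H106.RC

/-- the sign is `-1` -/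
theorem tA_of_gForm {G Ω : Type*} [Group G] [MulAction G Ω] {N : Subgroup G} {F : Type*} [Field F] [Fintype F] {n q : ℕ}
    {U : UEnv G Ω N F n q} {ι : Type*} {x : ι → G} {f : ι → (Fin n → F) → (Fin n → F)} {r : ι → ℕ} {i₀ : ι}
    {T : (Fin n → F) → (Fin n → F)} (hG : GForm U x f r i₀ T) (halt : ∀ v, T v = v → hermForm n F q v v = 0) :
    TA n q T := by
  have hF := U.hF
  have hn := U.hn
  refine ⟨hG.TT, hG.add, hG.smul, ?_, halt⟩
  obtain ⟨ε, h1 | h1, h2⟩ := hG.herm
  · -- `2 = 0`
    have h0 : T 0 = 0 := by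
      have := hG.add 0 0
      rw [add_zero] at this
      simpa using this
    have hneg : ∀ v, T (-v) = -T v := by
      intro v
      rw [eq_neg_iff_add_eq_zero, ← hG.add, neg_add_cancel, h0]
    have hsub : ∀ v w, T (v - w) = T v - T w := by
      intro v w
      rw [sub_eq_add_neg, hG.add, hneg, ← sub_eq_add_neg]
    have key : ∀ u v, T u = u → T v = v → 2 * hermForm n F q u v = 0 := by
      intro u v hu hv
      have h3 := halt (u + v) (by rw [hG.add, hu, hv])
      rw [herm_add_left, herm_add_right hF, herm_add_right hF, halt u hu, halt v hv, zero_add, add_zero,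
        herm_swap hF u v] at h3
      have h4 := h2 u v
      rw [hu, hv, h1, one_mul] at h4
      linear_combination h3 + h4
    have h20 : (2 : F) = 0 := by
      by_contra h2n
      obtain ⟨θ, hθ⟩ := exists_not_fixed hF
      have key' : ∀ u v, T u = u → T v = v → hermForm n F q u v = 0 := fun u v hu hv =>
        (mul_eq_zero.1 (key u v hu hv)).resolve_left h2n
      have hall : ∀ u v, hermForm n F q u v = 0 := by
        intro u v
        obtain ⟨a, b, ha, hb, rfl⟩ := exists_dec hF hG.TT hsub hG.smul hθ u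
        obtain ⟨a', b', ha', hb', rfl⟩ := exists_dec hF hG.TT hsub hG.smul hθ v
        rw [herm_add_left, herm_add_right hF, herm_add_right hF, herm_smul_left, herm_smul_left, herm_smul_right,
          herm_smul_right, key' _ _ ha ha', key' _ _ ha hb', key' _ _ hb ha', key' _ _ hb hb']
        ring
      have h5 := hall (Pi.single ⟨0, by omega⟩ 1) (Pi.single ⟨0, by omega⟩ 1)
      rw [herm_single_left, Pi.single_eq_same, one_pow, one_mul] at h5
      exact one_ne_zero h5
    intro u v
    rw [h2, h1]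
    linear_combination (hermForm n F q u v) ^ q * h20
  · intro u v
    rw [h2, h1]
    ring

/-- **E12b** -/
theorem graphAlt : GraphAlt := by
  intro G Ω _ _ _ _ _ N F _ _ n q U ι _ x f r hU hcov ⟨h42, hIH, i₀, T, hG, halt⟩
  have hF := U.hF
  have hn := U.hn
  have h := tA_of_gForm hG halt
  obtain ⟨κ, hκ0, hκ⟩ := exists_trace_zero_ne hF
  have hB := h.nalt hF hκ hκ0
  have hfd : Module.Finite (K0 hF) (h.V0 hF) := Module.Finite.of_finite
  have hdim := h.finrank_V0 (hF := hF)
  obtain ⟨m, hm⟩ := H520.RC.exists_dim hB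
  have hcond : 6 ≤ Module.finrank (K0 hF) (h.V0 hF) ∨ (Module.finrank (K0 hF) (h.V0 hF) = 4 ∧ 3 ≤ Nat.card (K0 hF)) := by
    have h2 := two_le hF
    rw [card_K0]
    by_cases h4 : n = 4
    · right
      refine ⟨by omega, ?_⟩
      by_contra h3
      exact h42 ⟨h4, by omega⟩
    · left
      omega
  have hcond' : 6 ≤ Module.finrank (K0 hF) (h.V0 hF) ∨ (Module.finrank (K0 hF) (h.V0 hF) = 4 ∧ 3 ≤ Nat.card (K0 hF)) ∨
      (Module.finrank (K0 hF) (h.V0 hF) ≠ 0 ∧ 4 ≤ Nat.card (K0 hF)) := by (clear * - hcond; itauto)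
  -- the homomorphism
  let e0 : TA.C (F := F) (n := n) (q := q) T ≃* H520.RC.Sp (h.bf hF hκ) :=
    MulEquiv.ofBijective (h.res hF hκ) ⟨h.res_injective hF hκ, h.res_surjective hF hκ hκ0⟩
  have hfinSp : Finite (H520.RC.Sp (h.bf hF hκ)) := Finite.of_equiv _ e0.toEquiv
  let j : H520.RC.Sp (h.bf hF hκ) →* G := (U.el.comp (TA.C T).subtype).comp e0.symm.toMonoidHom
  have hj : ∀ s : TA.C (F := F) (n := n) (q := q) T, j (e0 s) = U.el s := by
    intro s
    show U.el ((e0.symm (e0 s) : TA.C T) : SU n F q) = U.el s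
    rw [e0.symm_apply_apply]
  have hj' : ∀ t, ∃ s : TA.C (F := F) (n := n) (q := q) T, e0 s = t := e0.surjective
  -- `f i₀`
  obtain ⟨b, hb0, hb⟩ := hG.eq
  have hfT : ∀ v, f i₀ v = b⁻¹ • T v := by
    intro v
    rw [hb, smul_smul, inv_mul_cancel₀ hb0, one_smul]
  have hcent0 : ∀ s : TA.C (F := F) (n := n) (q := q) T, x i₀ * U.el s * (x i₀)⁻¹ = U.el s := by
    intro s
    refine (hU.lft i₀).conj_el fun v => ?_
    rw [hfT, hfT, act_smul, TA.mem_C.1 s.2]
  -- the M-rule
  have hM : ∀ ω : Ω, (∀ t, j t • ω = ω) ∨ ∃ i, (∀ t, x i * j t = j t * x i) ∧ x i • ω = ω := by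
    intro ω
    refine mrule_hom hIH U.e j ?_ ?_ ?_ (H520.RC.perfect_Sp hB (by (clear * - hcond'; itauto))) (H520.RC.simple_Sp hB hcond')
      (H520.RC.ncomm_Sp hB hcond') (H520.RC.cl_Sp hB hcond') (H520.RC.not_exc_Sp hB hcond) hU.pf hcov ?_ ω
    · rintro _ ⟨t, rfl⟩
      exact U.el_mem _
    · intro hN
      apply hU.pf.ne i₀
      have h1 : x i₀ ∈ Subgroup.centralizer (N : Set G) := by
        rw [Subgroup.mem_centralizer_iff]
        intro y hy
        rw [← hN] at hy
        obtain ⟨t, rfl⟩ := hy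
        have hob_ := hj' t
        obtain ⟨s, rfl⟩ := hob_
        rw [hj]
        have h2 := hcent0 s
        rw [mul_inv_eq_iff_eq_mul] at h2
        exact h2.symm
      rw [U.env.cent] at h1
      exact Subgroup.mem_bot.1 h1
    · intro t ht
      have hob_ := hj' t
      obtain ⟨s, rfl⟩ := hob_
      rw [hj, U.el_eq_one] at ht
      rw [Subgroup.mem_center_iff]
      intro t'
      have hob_ := hj' t'
      obtain ⟨s', rfl⟩ := hob_
      simp only [← map_mul, ← map_mul]
      congr 1
      exact Subtype.ext (Subgroup.mem_center_iff.1 ht s')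
    · intro i t
      have hob_ := hj' t
      obtain ⟨s, rfl⟩ := hob_
      simp only [hj]
      by_cases hi : i = i₀
      · subst hi
        exact ⟨e0 s, by rw [hj, hcent0]⟩
      · have hob_ := (hU.lft i).exists_conj (s : SU n F q)
        obtain ⟨s', hs'⟩ := hob_
        have hs'C : s' ∈ TA.C (F := F) (n := n) (q := q) T := by
          intro w
          obtain ⟨v, rfl⟩ := Ind.surjective (hU.lft i) w
          rw [← hG.comm i hi, ← hs', ← hs', TA.mem_C.1 s.2, hG.comm i hi]
        exact ⟨e0 ⟨s', hs'C⟩, by rw [hj]; exact (hU.lft i).conj_el hs'⟩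
  -- the centralizer of `M`
  have hcen : ∀ i, i ≠ i₀ → ¬ ∀ t, x i * j t = j t * x i := by
    intro i hi hc
    have hlin := hG.lin i hi
    have hadd := Ind.map_add (hU.lft i)
    obtain ⟨ρ, hs, hh⟩ := Ind.exists_rho (hU.lft i)
    have hρ : ∀ c, ρ c = c := by
      intro c
      have h1 := hs c (Pi.single ⟨0, by omega⟩ 1)
      rw [hlin c] at h1
      have h2 : f i (Pi.single ⟨0, by omega⟩ 1) ≠ 0 := by
        intro h0
        have h3 := hh (Pi.single ⟨0, by omega⟩ 1) (Pi.single ⟨0, by omega⟩ 1)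
        rw [h0, herm_zero_left, herm_single_left, Pi.single_eq_same, one_pow, one_mul, map_one] at h3
        exact zero_ne_one h3
      have h3 : (c - ρ c) • f i (Pi.single ⟨0, by omega⟩ 1) = 0 := by rw [sub_smul, ← h1, sub_self]
      exact (sub_eq_zero.1 ((smul_eq_zero.1 h3).resolve_right h2)).symm
    have hh' : ∀ u v, hermForm n F q (f i u) (f i v) = hermForm n F q u v := fun u v => by rw [hh, hρ]
    have hline : ∀ e : Fin n → F, T e = e → e ≠ 0 → ∃ c : F, f i e = c • e := by
      intro e he he0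
      set s : SU n F q := transv hF e (h.alt e he) κ hκ with hsdef
      have hsC : s ∈ TA.C (F := F) (n := n) (q := q) T := h.transv_mem_C hF he hκ
      obtain ⟨s', hs'⟩ := (hU.lft i).exists_conj s
      have h1 := (hU.lft i).conj_el hs'
      have h2 := hc (e0 ⟨s, hsC⟩)
      rw [hj] at h2
      rw [show x i * U.el s = U.el s * x i from h2, mul_inv_cancel_right] at h1
      -- `act s' = c • act s`
      have h3 := U.lft_el s'
      rw [← h1] at h3
      obtain ⟨c, -, h4⟩ := (U.lft_el s).unique h3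
      have h5 : ∀ v, f i (act s v) = c • act s (f i v) := fun v => by rw [hs', h4]
      have h6 : ∀ v, f i v + (κ * hermForm n F q v e) • f i e =
          c • (f i v + (κ * hermForm n F q (f i v) e) • e) := by
        intro v
        have := h5 v
        rw [hsdef, act_transv, act_transv, hadd, hlin] at this
        exact this
      have h7 := h6 e
      rw [h.alt e he, mul_zero, zero_smul, add_zero, smul_add] at h7
      by_cases hc1 : c = 1
      · obtain ⟨v, hv⟩ := exists_herm_ne_zero hF he0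
        have hv' : hermForm n F q v e ≠ 0 := fun h0 => hv (herm_eq_zero_swap hF h0)
        have h8 := h6 v
        rw [hc1, one_smul, add_right_inj, mul_smul, mul_smul] at h8
        have h9 : hermForm n F q v e • f i e = hermForm n F q (f i v) e • e := by
          have := congrArg (fun w => κ⁻¹ • w) h8
          simpa only [smul_smul, inv_mul_cancel_left₀ hκ0] using this
        refine ⟨(hermForm n F q v e)⁻¹ * hermForm n F q (f i v) e, ?_⟩
        rw [mul_smul, ← h9, smul_smul, inv_mul_cancel₀ hv', one_smul]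
      · refine ⟨(1 - c)⁻¹ * (c * (κ * hermForm n F q (f i e) e)), ?_⟩
        have h8 : (1 - c) • f i e = (c * (κ * hermForm n F q (f i e) e)) • e := by
          rw [sub_smul, one_smul, sub_eq_iff_eq_add, add_comm, mul_smul]
          exact h7
        rw [mul_smul, ← h8, smul_smul, inv_mul_cancel₀ (sub_ne_zero.2 (Ne.symm hc1)), one_smul]
    -- `f i` is a scalar on `V₀`
    have hmem : ∀ v, T v = v → T (f i v) = f i v := fun v hv => by rw [← hG.comm i hi, hv]
    let φ : h.V0 hF →+ h.V0 hF :=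
      { toFun := fun v => ⟨(f i v :), hmem v v.2⟩
        map_zero' := Subtype.ext (Ind.map_zero (hU.lft i))
        map_add' := fun v w => Subtype.ext (hadd _ _) }
    obtain ⟨c, hc'⟩ := H520.RC.scal_of_lines (F := K0 hF) (by rw [hdim]; omega) φ (by
      intro v
      by_cases hv : v = 0
      · exact ⟨0, by simp only [hv, map_zero, smul_zero]⟩
      · have hv' : (v : Fin n → F) ≠ 0 := fun h0 => hv (Subtype.ext h0)
        obtain ⟨c, hc⟩ := hline v v.2 hv'
        have hcq : c ^ q = c := by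
          have h1 := hmem v v.2
          rw [hc, hG.smul, show T v = v from v.2] at h1
          have h2 : (c ^ q - c) • (v : Fin n → F) = 0 := by rw [sub_smul, h1, sub_self]
          exact sub_eq_zero.1 ((smul_eq_zero.1 h2).resolve_right hv')
        exact ⟨⟨c, hcq⟩, Subtype.ext hc⟩)
    apply hU.pf.ne i
    rw [(hU.lft i).eq_one_iff]
    refine ⟨c, h.eq_on hF hadd hlin (fun v w => smul_add _ _ _) (fun a v => smul_comm _ _ _) fun v hv => ?_⟩
    exact congrArg Subtype.val (hc' ⟨v, hv⟩)
  have hfin : ∀ ω : Ω, (∀ t, j t • ω = ω) ∨ x i₀ • ω = ω := by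
    intro ω
    have hob_ := hM ω
    rcases hob_ with h1 | ⟨i, h1, h2⟩
    · exact Or.inl h1
    · right
      by_cases hi : i = i₀
      · rw [← hi]; exact h2
      · exact absurd h1 (hcen i hi)
  -- a vector of `V₀`
  obtain ⟨e, he, he0⟩ : ∃ e : Fin n → F, T e = e ∧ e ≠ 0 := by
    have : 0 < Module.finrank (K0 hF) (h.V0 hF) := by omega
    have : Nontrivial (h.V0 hF) := Module.nontrivial_of_finrank_pos this
    obtain ⟨e, he⟩ := exists_ne (0 : h.V0 hF)
    exact ⟨e, e.2, fun h0 => he (Subtype.ext h0)⟩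
  refine U.root_one (hU.lft i₀) he0 (h.alt e he) (c := b⁻¹) (by rw [hfT, he]) hG.nlin hκ hκ0 fun ω => ?_
  rcases hfin ω with h1 | h1
  · left
    have h2 := h1 (e0 ⟨transv hF e (h.alt e he) κ hκ, h.transv_mem_C hF he hκ⟩)
    rwa [hj] at h2
  · exact Or.inr h1

end final

end Cfsg.Agent.H433.RC
end

-- part: H195/RC/EvenVec
section
/-!
# S3510, family E, box E14 (graph involutions, `q` even): vectors (helper195)

* `exists_fix` : a `T`-fixed vector can be averaged over the group generated by the `f j`, `j ≠ i₀`, without changing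
  `h(v, v)`;
* `perp w` : `w^⊥`, `nDeg_perp`, `finrank_perp`, `stab_perp`.
-/

set_option autoImplicit false

namespace Cfsg.Agent.H195.RC

open Matrix Cfsg Cfsg.Agent.LieClassical.HermBasic Cfsg.Agent.LieClassical.HermSiegel
  Cfsg.Agent.LieClassical.HermGen Cfsg.Agent.LieClassical.SUBasic Cfsg.Agent.ClassicalGeometry.PSUAutBasic
  Cfsg.Agent.ClassicalGeometry.PSUAutCount Cfsg.Agent.LieClassical.FieldTransfer Cfsg.Agent.ClassicalGeometry
open Cfsg.Agent.H380.RC

section field

variable {F : Type*} [Field F] [Fintype F] {q : ℕ}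

theorem char_two (hF : Fintype.card F = q ^ 2) (hq : Even q) : CharP F 2 := by
  obtain ⟨p, k, hp, hchar, hk, hk0⟩ := exists_prime_pow hF
  have h1 : 2 ∣ p ^ k := by rw [← hk]; exact hq.two_dvd
  have h2 : p = 2 := ((Nat.prime_dvd_prime_iff_eq Nat.prime_two hp).1 (Nat.prime_two.dvd_of_dvd_pow h1)).symm
  rwa [← h2]

theorem add_self (hF : Fintype.card F = q ^ 2) (hq : Even q) (a : F) : a + a = 0 := by
  have := char_two hF hq
  exact CharTwo.add_self_eq_zero a

theorem neg_eq (hF : Fintype.card F = q ^ 2) (hq : Even q) (a : F) : -a = a := by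
  have := char_two hF hq
  exact CharTwo.neg_eq a

/-- norm one and fixed by `c ↦ c ^ q` -/
theorem eq_one_of (hF : Fintype.card F = q ^ 2) (hq : Even q) {c : F} (h1 : c * c ^ q = 1) (h2 : c ^ q = c) : c = 1 := by
  rw [h2] at h1
  have h3 : (c + 1) * (c + 1) = 0 := by
    have : (c + 1) * (c + 1) = c * c + (c + c) + 1 := by ring
    rw [this, add_self hF hq, h1, add_zero, add_self hF hq]
  rcases mul_self_eq_zero.1 h3 with h4
  have h5 : c = -1 := eq_neg_of_add_eq_zero_left h4
  rw [h5, neg_eq hF hq]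

end field

section lin

variable {G Ω : Type*} [Group G] [MulAction G Ω] {N : Subgroup G} {F : Type*} [Field F] [Fintype F] {n q : ℕ}
  {U : UEnv G Ω N F n q}

/-- linear lifts are isometries -/
theorem lin_iso {x : G} {f : (Fin n → F) → (Fin n → F)} (h : U.Lft x f) (hl : Lin f) (u v : Fin n → F) :
    hermForm n F q (f u) (f v) = hermForm n F q u v := by
  obtain ⟨ρ, h1, h2⟩ := Ind.exists_rho h
  have hn := U.hn
  set e : Fin n → F := Pi.single ⟨0, by omega⟩ 1 with hedef
  have he : e ≠ 0 := by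
    intro h3
    have h4 := congrFun h3 ⟨0, by omega⟩
    rw [hedef, Pi.single_eq_same] at h4
    exact one_ne_zero h4
  have hfe : f e ≠ 0 := by
    intro h3
    rw [← Ind.map_zero h] at h3
    exact he (Ind.injective h h3)
  have hρ : ∀ c, ρ c = c := by
    intro c
    have h3 := hl c e
    rw [h1] at h3
    have h4 : (ρ c - c) • f e = 0 := by rw [sub_smul, h3, sub_self]
    exact sub_eq_zero.1 ((smul_eq_zero.1 h4).resolve_right hfe)
  rw [h2, hρ]

/-- a lift which is not linear is not a scalar on a nonzero subspace -/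
theorem not_scalOn {x : G} {f : (Fin n → F) → (Fin n → F)} (h : U.Lft x f) (hl : ¬ Lin f) {A : Submodule F (Fin n → F)}
    {v : Fin n → F} (hv : v ∈ A) (hv0 : v ≠ 0) : ¬ ScalOn f A := by
  rintro ⟨c, hc⟩
  obtain ⟨ρ, h1, -⟩ := Ind.exists_rho h
  apply hl
  have hfv : f v ≠ 0 := by
    intro h3
    rw [← Ind.map_zero h] at h3
    exact hv0 (Ind.injective h h3)
  have hρ : ∀ a, ρ a = a := by
    intro a
    have h3 := hc _ (A.smul_mem a hv)
    rw [h1, smul_comm c a v, ← hc v hv] at h3
    have h4 : (ρ a - a) • f v = 0 := by rw [sub_smul, h3, sub_self]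
    exact sub_eq_zero.1 ((smul_eq_zero.1 h4).resolve_right hfv)
  intro a w
  rw [h1, hρ]

end lin

section gform

variable {G Ω : Type} [Group G] [MulAction G Ω] {N : Subgroup G} {F : Type} [Field F] [Fintype F] {n q : ℕ}
  {U : UEnv G Ω N F n q} {ι : Type} {x : ι → G} {f : ι → (Fin n → F) → (Fin n → F)} {r : ι → ℕ} {i₀ : ι}
  {T : (Fin n → F) → (Fin n → F)}

theorem herm_T (hT : GForm U x f r i₀ T) (hq : Even q) (u v : Fin n → F) :
    hermForm n F q (T u) (T v) = (hermForm n F q u v) ^ q := by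
  obtain ⟨ε, h1, h2⟩ := hT.herm
  have h3 : ε = 1 := by
    rcases h1 with h1 | h1
    · exact h1
    · rw [h1, neg_eq U.hF hq]
  rw [h2, h3, one_mul]

theorem T_zero (hT : GForm U x f r i₀ T) : T 0 = 0 := by
  have h1 := hT.smul 0 0
  rwa [smul_zero, zero_pow_q U.hF, zero_smul] at h1

/-- on the fixed points of `T` the form is symmetric -/
theorem herm_fix (hT : GForm U x f r i₀ T) (hq : Even q) {u v : Fin n → F} (hu : T u = u) (hv : T v = v) :
    (hermForm n F q u v) ^ q = hermForm n F q u v := by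
  rw [← herm_T hT hq, hu, hv]

theorem herm_fix_add (hT : GForm U x f r i₀ T) (hq : Even q) {u v : Fin n → F} (hu : T u = u) (hv : T v = v) :
    hermForm n F q (u + v) (u + v) = hermForm n F q u u + hermForm n F q v v := by
  rw [herm_add_left, herm_add_right U.hF, herm_add_right U.hF, herm_swap U.hF u v, herm_fix hT hq hu hv]
  have h1 := add_self U.hF hq (hermForm n F q u v)
  linear_combination h1

theorem pow_comm {f g : (Fin n → F) → (Fin n → F)} (h : ∀ v, f (g v) = g (f v)) (k : ℕ) (v : Fin n → F) :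
    f^[k] (g v) = g (f^[k] v) := by
  induction k with
  | zero => rfl
  | succ k ih => rw [Function.iterate_succ_apply', ih, h, Function.iterate_succ_apply']

/-- averaging over one element -/
theorem exists_fix_one (hT : GForm U x f r i₀ T) (hq : Even q) {j : ι} (hj : j ≠ i₀) {w : Fin n → F} (hw : T w = w) :
    ∃ w', T w' = w' ∧ hermForm n F q w' w' = hermForm n F q w w ∧ f j w' = w' ∧
      (∀ k, f k w = w → f k w' = w') ∧ ∀ u, f j u = u → hermForm n F q w u = 0 → hermForm n F q w' u = 0 := by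
  obtain ⟨a, ha⟩ := hT.fam.ord j
  have hr : Odd (r j ^ a) := by
    apply Odd.pow
    refine (hT.fam.pf.prime j).odd_of_ne_two fun h => hj ?_
    exact hT.fam.pf.inj (h.trans hT.r2.symm)
  set m := r j ^ a with hm
  have hadd := fun v w => Ind.map_add (hT.fam.lft j) v w
  have hiso := lin_iso (hT.fam.lft j) (hT.lin j hj)
  have hTf : ∀ k, T ((f j)^[k] w) = (f j)^[k] w := by
    intro k
    rw [← pow_comm (f := f j) (g := T) (hT.comm j hj), hw]
  have hitiso : ∀ (k : ℕ) (u v : Fin n → F), hermForm n F q ((f j)^[k] u) ((f j)^[k] v) = hermForm n F q u v := by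
    intro k
    induction k with
    | zero => intro u v; rfl
    | succ k ih => intro u v; rw [Function.iterate_succ_apply', Function.iterate_succ_apply', hiso, ih]
  let s : ℕ → (Fin n → F) := fun k => ∑ i ∈ Finset.range k, (f j)^[i] w
  have hs1 : ∀ k, s (k + 1) = s k + (f j)^[k] w := fun k => Finset.sum_range_succ _ _
  have hs0 : s 0 = 0 := rfl
  have hTs : ∀ k, T (s k) = s k := by
    intro k
    induction k with
    | zero => rw [hs0, T_zero hT]
    | succ k ih => rw [hs1, hT.add, ih, hTf]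
  have hh : ∀ k, hermForm n F q (s k) (s k) = (k : F) * hermForm n F q w w := by
    intro k
    induction k with
    | zero => rw [hs0, herm_zero_left, Nat.cast_zero, zero_mul]
    | succ k ih =>
      rw [hs1, herm_fix_add hT hq (hTs k) (hTf k), ih, hitiso]
      push_cast
      ring
  have hfs : ∀ k, f j (s k) = s k + (f j)^[k] w - w := by
    intro k
    induction k with
    | zero =>
      rw [hs0, Ind.map_zero (hT.fam.lft j)]
      simp
    | succ k ih =>
      rw [hs1, hadd, ih, Function.iterate_succ_apply']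
      abel
  have hcast : (m : F) = 1 := by
    have := char_two U.hF hq
    obtain ⟨b, hb⟩ := hr
    rw [hb]
    push_cast
    rw [CharTwo.two_eq_zero, zero_mul, zero_add]
  refine ⟨s m, hTs m, by rw [hh, hcast, one_mul], by rw [hfs, ha]; abel, fun k hk => ?_, fun u hu hu0 => ?_⟩
  · have h1 : ∀ i, f k (s i) = s i := by
      intro i
      induction i with
      | zero => rw [hs0, Ind.map_zero (hT.fam.lft k)]
      | succ i ih =>
        rw [hs1, Ind.map_add (hT.fam.lft k), ih, ← pow_comm (f := f j) (g := f k) (fun v => hT.fam.comm j k v), hk]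
    exact h1 m
  · have h1 : ∀ i, (f j)^[i] u = u := fun i => Function.iterate_fixed hu i
    have h2 : ∀ i, hermForm n F q (s i) u = 0 := by
      intro i
      induction i with
      | zero => rw [hs0, herm_zero_left]
      | succ i ih =>
        rw [hs1, herm_add_left, ih, zero_add, ← hu0]
        conv_lhs => rw [← h1 i]
        exact hitiso i w u
    exact h2 m

/-- averaging over all the `f j`, `j ≠ i₀` -/
theorem exists_fix [Finite ι] (hT : GForm U x f r i₀ T) (hq : Even q) {w : Fin n → F} (hw : T w = w) :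
    ∃ w', T w' = w' ∧ hermForm n F q w' w' = hermForm n F q w w ∧ (∀ j, j ≠ i₀ → f j w' = w') ∧
      ∀ u, (∀ j, j ≠ i₀ → f j u = u) → hermForm n F q w u = 0 → hermForm n F q w' u = 0 := by
  classical
  have := Fintype.ofFinite ι
  have key : ∀ J : Finset ι, (∀ j ∈ J, j ≠ i₀) →
      ∃ w', T w' = w' ∧ hermForm n F q w' w' = hermForm n F q w w ∧ (∀ j ∈ J, f j w' = w') ∧
      ∀ u, (∀ j, j ≠ i₀ → f j u = u) → hermForm n F q w u = 0 → hermForm n F q w' u = 0 := by
    intro J
    induction J using Finset.induction_on with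
    | empty => exact fun _ => ⟨w, hw, rfl, fun j hj => absurd hj (Finset.notMem_empty j), fun u _ h => h⟩
    | insert j J hj ih =>
      intro hJ
      obtain ⟨w₁, h1, h2, h3, h4⟩ := ih fun k hk => hJ k (Finset.mem_insert_of_mem hk)
      obtain ⟨w₂, k1, k2, k3, k4, k5⟩ := exists_fix_one hT hq (hJ j (Finset.mem_insert_self j J)) h1
      refine ⟨w₂, k1, k2.trans h2, fun k hk => ?_, fun u hu hu0 => ?_⟩
      · rcases Finset.mem_insert.1 hk with rfl | hk
        · exact k3
        · exact k4 k (h3 k hk)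
      · exact k5 u (hu j (hJ j (Finset.mem_insert_self j J))) (h4 u hu hu0)
  obtain ⟨w', h1, h2, h3, h4⟩ := key (Finset.univ.erase i₀) (fun j hj => (Finset.mem_erase.1 hj).1)
  exact ⟨w', h1, h2, fun j hj => h3 j (Finset.mem_erase.2 ⟨hj, Finset.mem_univ j⟩), h4⟩

end gform

section perp

variable {F : Type*} [Field F] [Fintype F] {n q : ℕ}

/-- product with `w` as a linear functional -/
def hfun (q : ℕ) (w : Fin n → F) : (Fin n → F) →ₗ[F] F where
  toFun v := hermForm n F q v w
  map_add' v v' := herm_add_left v v' w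
  map_smul' c v := herm_smul_left c v w

/-- `w^⊥` -/
def perp (q : ℕ) (w : Fin n → F) : Submodule F (Fin n → F) := LinearMap.ker (hfun q w)

theorem mem_perp {w v : Fin n → F} : v ∈ perp q w ↔ hermForm n F q v w = 0 := LinearMap.mem_ker

theorem nDeg_perp (hF : Fintype.card F = q ^ 2) {w : Fin n → F} (hw : hermForm n F q w w ≠ 0) : NDeg q (perp q w) := by
  intro v hv h
  rw [mem_perp] at hv
  by_contra hv0
  obtain ⟨z, hz⟩ := exists_herm_ne_zero hF hv0
  apply hz
  have h1 : z - (hermForm n F q z w * (hermForm n F q w w)⁻¹) • w ∈ perp q w := by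
    rw [mem_perp, herm_sub_left, herm_smul_left, mul_assoc, inv_mul_cancel₀ hw, mul_one, sub_self]
  have h2 := h _ h1
  rwa [herm_sub_right hF, herm_smul_right, hv, mul_zero, sub_zero] at h2

theorem perp_ne_top {w : Fin n → F} (hw : hermForm n F q w w ≠ 0) : perp q w ≠ ⊤ := by
  intro h
  have h1 : w ∈ perp q w := by rw [h]; trivial
  exact hw (mem_perp.1 h1)

theorem finrank_perp {w : Fin n → F} (hw : hermForm n F q w w ≠ 0) : Module.finrank F (perp q w) + 1 = n := by
  have h1 := (hfun q w).finrank_range_add_finrank_ker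
  have h2 : LinearMap.range (hfun q w) = ⊤ := by
    rw [LinearMap.range_eq_top]
    intro a
    refine ⟨(a * (hermForm n F q w w)⁻¹) • w, ?_⟩
    change hermForm n F q _ w = a
    rw [herm_smul_left, mul_assoc, inv_mul_cancel₀ hw, mul_one]
  rw [h2, finrank_top, Module.finrank_self, Module.finrank_fin_fun] at h1
  rw [add_comm]
  exact h1

end perp

end Cfsg.Agent.H195.RC
end

-- part: H195/RC/EvenFrame
section
/-!
# S3510, family E, box E14 (graph involutions, `q` even): frames for `n = 3` (helper195)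

* `Frm q T w e e'` : a frame of `V_0 = Fix T`, `⟨e, e'⟩ ⟂ w` hyperbolic;
* `Frm.dec`, `exists_frm`;
* `Frm.quad` : `g (g v) = t • g v + v` on `w^⊥` for a linear isometry commuting with `T` fixing `w`;
* `Frm.four` : `q = 4`, such a `g` has order dividing 2, 3 or 5.
-/

set_option autoImplicit false
set_option linter.unusedSectionVars false

namespace Cfsg.Agent.H195.RC

open Matrix Cfsg Cfsg.Agent.LieClassical.HermBasic Cfsg.Agent.LieClassical.HermSiegel
  Cfsg.Agent.LieClassical.HermGen Cfsg.Agent.LieClassical.SUBasic Cfsg.Agent.ClassicalGeometry.PSUAutBasic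
  Cfsg.Agent.ClassicalGeometry.PSUAutCount Cfsg.Agent.LieClassical.FieldTransfer Cfsg.Agent.ClassicalGeometry
open Cfsg.Agent.H380.RC

section frm

variable {F : Type*} [Field F] [Fintype F] {n q : ℕ}

/-- a frame: `w` nonsingular, `e, e'` a hyperbolic pair in `w^⊥`, all fixed by `T` -/
structure Frm (q : ℕ) (T : (Fin n → F) → (Fin n → F)) (w e e' : Fin n → F) : Prop where
  Tw : T w = w
  Te : T e = e
  Te' : T e' = e'
  ww : hermForm n F q w w ≠ 0
  ee : hermForm n F q e e = 0
  ee' : hermForm n F q e e' = 1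
  e'e : hermForm n F q e' e = 1
  e'e' : hermForm n F q e' e' = 0
  ew : hermForm n F q e w = 0
  e'w : hermForm n F q e' w = 0
  we : hermForm n F q w e = 0
  we' : hermForm n F q w e' = 0

variable {T : (Fin n → F) → (Fin n → F)} {w e e' : Fin n → F}

theorem Frm.dec (h : Frm q T w e e') (hn : n = 3) (v : Fin n → F) :
    v = hermForm n F q v e' • e + hermForm n F q v e • e' + (hermForm n F q v w * (hermForm n F q w w)⁻¹) • w := by
  let L : (Fin n → F) →ₗ[F] (Fin 3 → F) := LinearMap.pi ![hfun q e', hfun q e, hfun q w]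
  have hL : ∀ u, L u = ![hermForm n F q u e', hermForm n F q u e, hermForm n F q u w] := by
    intro u
    funext i
    fin_cases i <;> rfl
  have hcomp : ∀ a b c : F, L (a • e + b • e' + c • w) = ![a, b, c * hermForm n F q w w] := by
    intro a b c
    rw [hL]
    simp only [herm_add_left, herm_smul_left, h.ee, h.ee', h.e'e, h.e'e', h.ew, h.e'w, h.we, h.we']
    simp
  have hsurj : Function.Surjective L := by
    intro c
    refine ⟨c 0 • e + c 1 • e' + (c 2 * (hermForm n F q w w)⁻¹) • w, ?_⟩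
    rw [hcomp, mul_assoc, inv_mul_cancel₀ h.ww, mul_one]
    funext i
    fin_cases i <;> rfl
  have hinj : Function.Injective L := by
    refine (LinearMap.injective_iff_surjective_of_finrank_eq_finrank ?_).2 hsurj
    rw [Module.finrank_fin_fun, Module.finrank_fin_fun, hn]
  apply hinj
  rw [hcomp, hL, mul_assoc, inv_mul_cancel₀ h.ww, mul_one]

/-- the vectors of `w^⊥` -/
theorem Frm.dec' (h : Frm q T w e e') (hn : n = 3) {v : Fin n → F} (hv : hermForm n F q v w = 0) :
    v = hermForm n F q v e' • e + hermForm n F q v e • e' := by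
  have h1 := h.dec hn v
  rwa [hv, zero_mul, zero_smul, add_zero] at h1

theorem Frm.e_ne (h : Frm q T w e e') : e ≠ 0 := by
  intro h0
  have h1 := h.ee'
  rw [h0, herm_zero_left] at h1
  exact zero_ne_one h1

section iso

variable (hF : Fintype.card F = q ^ 2) (hq : Even q) {g : (Fin n → F) → (Fin n → F)}
  (hadd : ∀ v v', g (v + v') = g v + g v') (hlin : Lin g)
  (hiso : ∀ v v', hermForm n F q (g v) (g v') = hermForm n F q v v') (hgw : g w = w)

include hF hadd hlin hiso hgw

/-- the matrix of `g` in a frame -/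
theorem Frm.coef (h : Frm q T w e e') (hn : n = 3) :
    g e = hermForm n F q (g e) e' • e + hermForm n F q (g e) e • e' ∧
    g e' = hermForm n F q (g e') e' • e + hermForm n F q (g e') e • e' := by
  constructor
  · apply h.dec' hn
    nth_rewrite 1 [← hgw]
    rw [hiso, h.ew]
  · apply h.dec' hn
    nth_rewrite 1 [← hgw]
    rw [hiso, h.e'w]

include hq

/-- `g (g v) = t g v + v` on `w^⊥` -/
theorem Frm.quad (h : Frm q T w e e') (hn : n = 3)
    (hfix : ∀ u v, T u = u → T v = v → (hermForm n F q u v) ^ q = hermForm n F q u v) (hgT : ∀ v, g (T v) = T (g v)) :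
    ∃ t : F, t ^ q = t ∧ ∀ v, hermForm n F q v w = 0 → g (g v) = t • g v + v := by
  obtain ⟨h1, h2⟩ := h.coef hF hadd hlin hiso hgw hn
  have hTe : T (g e) = g e := by rw [← hgT, h.Te]
  have hTe' : T (g e') = g e' := by rw [← hgT, h.Te']
  have a1 := hfix _ _ hTe h.Te'
  have a2 := hfix _ _ hTe h.Te
  have a3 := hfix _ _ hTe' h.Te'
  have a4 := hfix _ _ hTe' h.Te
  set α := hermForm n F q (g e) e' with hα
  set γ := hermForm n F q (g e) e with hγ
  set β := hermForm n F q (g e') e' with hβ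
  set δ := hermForm n F q (g e') e with hδ
  have h3 : α * δ + γ * β = 1 := by
    have h4 := hiso e e'
    rw [h1, h2, herm_add_left, herm_add_right hF, herm_add_right hF] at h4
    simp only [herm_smul_left, herm_smul_right, h.ee, h.ee', h.e'e, h.e'e'] at h4
    rw [a3, a4] at h4
    linear_combination h4
  have hc := add_self hF hq (1 : F)
  have ge : g (g e) = (α + δ) • g e + e := by
    have h4 : g (g e) = α • g e + γ • g e' := by
      conv_lhs => rw [h1]
      rw [hadd, hlin, hlin]
    have h5 : (α * α + γ * β) • e + (α * γ + γ * δ) • e' = ((α + δ) * α + 1) • e + ((α + δ) * γ) • e' := by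
      congr 1
      · congr 1
        linear_combination h3 - α * δ * hc
      · congr 1
        ring
    calc g (g e) = α • g e + γ • g e' := h4
      _ = (α * α + γ * β) • e + (α * γ + γ * δ) • e' := by rw [h1, h2]; module
      _ = ((α + δ) * α + 1) • e + ((α + δ) * γ) • e' := h5
      _ = (α + δ) • (α • e + γ • e') + e := by module
      _ = (α + δ) • g e + e := by rw [← h1]
  have ge' : g (g e') = (α + δ) • g e' + e' := by
    have h4 : g (g e') = β • g e + δ • g e' := by
      conv_lhs => rw [h2]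
      rw [hadd, hlin, hlin]
    have h5 : (β * α + δ * β) • e + (β * γ + δ * δ) • e' = ((α + δ) * β) • e + ((α + δ) * δ + 1) • e' := by
      congr 1
      · congr 1
        ring
      · congr 1
        linear_combination h3 - α * δ * hc
    calc g (g e') = β • g e + δ • g e' := h4
      _ = (β * α + δ * β) • e + (β * γ + δ * δ) • e' := by rw [h1, h2]; module
      _ = ((α + δ) * β) • e + ((α + δ) * δ + 1) • e' := h5
      _ = (α + δ) • (β • e + δ • e') + e' := by module
      _ = (α + δ) • g e' + e' := by rw [← h2]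
  refine ⟨α + δ, by rw [add_pow_q hF, a1, a4], fun v hv => ?_⟩
  have h6 := h.dec' hn hv
  set a := hermForm n F q v e' with ha
  set b := hermForm n F q v e with hb
  rw [h6, hadd, hadd, hlin, hlin, hlin, hlin, ge, ge']
  module

omit hq in
theorem Frm.iter (h : Frm q T w e e') (hn : n = 3) {m : ℕ} (hm : ∀ v, hermForm n F q v w = 0 → g^[m] v = v) (v : Fin n → F) :
    g^[m] v = v := by
  have h1 : ∀ (k : ℕ) (u : Fin n → F) (c : F), g^[k] (u + c • w) = g^[k] u + c • w := by
    intro k
    induction k with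
    | zero => intro u c; rfl
    | succ k ih => intro u c; rw [Function.iterate_succ_apply', ih, hadd, hlin, hgw, Function.iterate_succ_apply']
  rw [h.dec hn v, h1, hm]
  rw [herm_add_left, herm_smul_left, herm_smul_left, h.ew, h.e'w, mul_zero, mul_zero, add_zero]

/-- `q = 4` : the order of `g` divides 2, 3 or 5 -/
theorem Frm.four (h : Frm q T w e e') (hn : n = 3) (hq4 : q = 4)
    (hfix : ∀ u v, T u = u → T v = v → (hermForm n F q u v) ^ q = hermForm n F q u v) (hgT : ∀ v, g (T v) = T (g v)) :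
    ∃ m : ℕ, m.Prime ∧ ∀ v, g^[m] v = v := by
  obtain ⟨t, ht, hquad⟩ := h.quad hF hq hadd hlin hiso hgw hn hfix hgT
  have hc := add_self hF hq (1 : F)
  have h2 : ∀ v : Fin n → F, v + v = 0 := by
    intro v
    have : v + v = (1 + 1 : F) • v := by module
    rw [this, hc, zero_smul]
  by_cases h0 : t = 0
  · refine ⟨2, Nat.prime_two, h.iter hF hadd hlin hiso hgw hn fun v hv => ?_⟩
    change g (g v) = v
    rw [hquad v hv, h0, zero_smul, zero_add]
  by_cases h1 : t = 1
  · refine ⟨3, Nat.prime_three, h.iter hF hadd hlin hiso hgw hn fun v hv => ?_⟩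
    change g (g (g v)) = v
    rw [hquad v hv, h1, one_smul, hadd, hquad v hv, h1, one_smul]
    have h3 : g v + v + g v = (g v + g v) + v := by abel
    rw [h3, h2, zero_add]
  · refine ⟨5, Nat.prime_five, h.iter hF hadd hlin hiso hgw hn fun v hv => ?_⟩
    have h3 : t ^ 2 + t + 1 = 0 := by
      rw [hq4] at ht
      have h4 : t * (t - 1) * (t ^ 2 + t + 1) = 0 := by linear_combination ht
      rcases mul_eq_zero.1 h4 with h5 | h5
      · rcases mul_eq_zero.1 h5 with h6 | h6
        · exact absurd h6 h0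
        · exact absurd (sub_eq_zero.1 h6) h1
      · exact h5
    change g (g (g (g (g v)))) = v
    rw [hquad v hv]
    have hlin' : ∀ (c : F) (u : Fin n → F), g (c • u) = c • g u := hlin
    simp only [hadd, hlin', hquad v hv]
    have e1 : (t • (t • (t • (t • g v + v) + g v) + (t • g v + v)) + (t • (t • g v + v) + g v)) =
        (t ^ 4 + 3 * t ^ 2 + 1) • g v + (t ^ 3 + 2 * t) • v := by module
    rw [e1]
    have e2 : t ^ 4 + 3 * t ^ 2 + 1 = 0 := by
      linear_combination (t ^ 2 - t + 3) * h3 - (t + 1) * hc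
    have e3 : t ^ 3 + 2 * t = 1 := by
      linear_combination (t - 1) * h3 + t * hc
    rw [e2, e3, zero_smul, one_smul, zero_add]

end iso

end frm

section gform

variable {G Ω : Type} [Group G] [MulAction G Ω] {N : Subgroup G} {F : Type} [Field F] [Fintype F] {n q : ℕ}
  {U : UEnv G Ω N F n q} {ι : Type} {x : ι → G} {f : ι → (Fin n → F) → (Fin n → F)} {r : ι → ℕ} {i₀ : ι}
  {T : (Fin n → F) → (Fin n → F)}

/-- existence of a frame -/
theorem exists_frm (hT : GForm U x f r i₀ T) (hq : Even q) {w : Fin n → F} (hTw : T w = w)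
    (hww : hermForm n F q w w ≠ 0) (halt : ∀ v, T v = v → hermForm n F q v w = 0 → hermForm n F q v v = 0) :
    ∃ e e', Frm q T w e e' := by
  have hF := U.hF
  have hperpT : ∀ v, hermForm n F q v w = 0 → hermForm n F q (T v) w = 0 := by
    intro v hv
    nth_rewrite 1 [← hTw]
    rw [herm_T hT hq, hv, zero_pow_q hF]
  -- a nonzero `T`-fixed vector
  obtain ⟨e, he0, hTe, hew⟩ : ∃ e : Fin n → F, e ≠ 0 ∧ T e = e ∧ hermForm n F q e w = 0 := by
    obtain ⟨v, hv, hv0⟩ : ∃ v ∈ perp q w, v ≠ 0 := by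
      have h2 : perp q w ≠ ⊥ := by
        intro h
        have h1 := finrank_perp hww
        rw [h, finrank_bot] at h1
        have := U.hn
        omega
      exact (Submodule.ne_bot_iff _).1 h2
    rw [mem_perp] at hv
    by_cases h : T v = v
    · exact ⟨v, hv0, h, hv⟩
    · refine ⟨v + T v, fun h1 => h ?_, by rw [hT.add, hT.TT, add_comm], by rw [herm_add_left, hv, hperpT v hv, add_zero]⟩
      have h2 : T v = -v := eq_neg_of_add_eq_zero_right h1
      rw [h2]
      funext i
      exact neg_eq hF hq (v i)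
  obtain ⟨z₀, hz₀, hz₀e⟩ : ∃ z₀ ∈ perp q w, hermForm n F q e z₀ ≠ 0 := by
    by_contra hcon
    push Not at hcon
    exact he0 (nDeg_perp hF hww e (mem_perp.2 hew) hcon)
  rw [mem_perp] at hz₀
  have hz₀e' : hermForm n F q z₀ e ≠ 0 := fun h0 => hz₀e (herm_eq_zero_swap hF h0)
  obtain ⟨s, hs⟩ := exists_trace_eq hF (c := (1 : F)) (one_pow q)
  obtain ⟨z, hzw, hze⟩ : ∃ z : Fin n → F, hermForm n F q z w = 0 ∧ hermForm n F q z e = s :=
    ⟨(s * (hermForm n F q z₀ e)⁻¹) • z₀, by rw [herm_smul_left, hz₀, mul_zero],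
      by rw [herm_smul_left, mul_assoc, inv_mul_cancel₀ hz₀e', mul_one]⟩
  have hTe' : T (z + T z) = z + T z := by rw [hT.add, hT.TT, add_comm]
  have he'w : hermForm n F q (z + T z) w = 0 := by rw [herm_add_left, hzw, hperpT z hzw, add_zero]
  have he'e : hermForm n F q (z + T z) e = 1 := by
    rw [herm_add_left]
    nth_rewrite 2 [← hTe]
    rw [herm_T hT hq, hze, hs]
  refine ⟨e, z + T z, hTw, hTe, hTe', hww, halt e hTe hew, ?_, he'e, halt _ hTe' he'w, hew, he'w,
    herm_eq_zero_swap hF hew, herm_eq_zero_swap hF he'w⟩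
  rw [herm_swap hF (z + T z) e, he'e, one_pow]

end gform

end Cfsg.Agent.H195.RC
end

-- part: H195/RC/GraphEven
section
/-!
# S3510, family E, box E14 (graph involutions, `q` even) (helper195)

* `graph_even : SmallStmt → GraphEven`.
-/

set_option autoImplicit false
set_option linter.unusedSectionVars false

namespace Cfsg.Agent.H195.RC

open Matrix Cfsg Module Cfsg.Agent.LieClassical.HermBasic Cfsg.Agent.LieClassical.HermSiegel
  Cfsg.Agent.LieClassical.HermGen Cfsg.Agent.LieClassical.SUBasic Cfsg.Agent.ClassicalGeometry.PSUAutBasic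
  Cfsg.Agent.ClassicalGeometry.PSUAutCount Cfsg.Agent.LieClassical.FieldTransfer Cfsg.Agent.ClassicalGeometry
open Cfsg.Agent.H380.RC Cfsg.Agent.H452.RC
open Cfsg.Agent.H189.SN (ON phi Im Im_mulVec phi_Im phi_perp phi_injective pr_phi_injective herm_Im herm_Im_perp
  decomp Im_injective exists_perp)

section cen

variable {F : Type*} [Field F] [Fintype F] {n q : ℕ} {T : (Fin n → F) → (Fin n → F)} {w e e' : Fin n → F}

/-- `SU(w^⊥)` commutes with `T` -/
theorem Frm.cen (hF : Fintype.card F = q ^ 2) (hq : Even q) (h : Frm q T w e e') (hn : n = 3)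
    (hTadd : ∀ v v', T (v + v') = T v + T v') (hTsmul : ∀ (c : F) v, T (c • v) = c ^ q • T v)
    {b : Fin 2 → (Fin n → F)} (hb : ON q b) (hbA : ∀ c, hermForm n F q (Im b *ᵥ c) w = 0)
    (hAb : ∀ v, hermForm n F q v w = 0 → ∃ c, v = Im b *ᵥ c) (a : SU 2 F q) (v : Fin n → F) :
    T (act (phi hF hb a) v) = act (phi hF hb a) (T v) := by
  set g : (Fin n → F) → (Fin n → F) := act (phi hF hb a) with hg
  have hadd : ∀ v v', g (v + v') = g v + g v' := fun v v' => act_add _ v v'
  have hlin : ∀ (c : F) (v : Fin n → F), g (c • v) = c • g v := fun c v => act_smul _ c v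
  have hiso : ∀ v v', hermForm n F q (g v) (g v') = hermForm n F q v v' := fun v v' => herm_act _ v v'
  have hbi : ∀ i, hermForm n F q w (b i) = 0 := by
    intro i
    have h1 := hbA (Pi.single i 1)
    rw [Im_mulVec, Finset.sum_eq_single i, Pi.single_eq_same, one_smul] at h1
    · exact herm_eq_zero_swap hF h1
    · intro k _ hk
      rw [Pi.single_eq_of_ne hk, zero_smul]
    · intro h
      exact absurd (Finset.mem_univ i) h
  have hgw : g w = w := phi_perp hF hb a hbi
  obtain ⟨h1, h2⟩ := h.coef hF hadd hlin hiso hgw hn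
  obtain ⟨p, hp⟩ := hAb e h.ew
  obtain ⟨p', hp'⟩ := hAb e' h.e'w
  set α := hermForm n F q (g e) e' with hα
  set γ := hermForm n F q (g e) e with hγ
  set β := hermForm n F q (g e') e' with hβ
  set δ := hermForm n F q (g e') e with hδ
  have hc := add_self hF hq (1 : F)
  have k0 : hermForm n F q (α • e + γ • e') (α • e + γ • e') = 0 := by rw [← h1, hiso, h.ee]
  have k1 : hermForm n F q (α • e + γ • e') (β • e + δ • e') = 1 := by rw [← h1, ← h2, hiso, h.ee']
  have k2 : hermForm n F q (β • e + δ • e') (β • e + δ • e') = 0 := by rw [← h2, hiso, h.e'e']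
  have k3 : hermForm n F q (β • e + δ • e') (α • e + γ • e') = 1 := by rw [← h1, ← h2, hiso, h.e'e]
  rw [herm_add_left, herm_add_right hF, herm_add_right hF] at k0 k1 k2 k3
  simp only [herm_smul_left, herm_smul_right, h.ee, h.ee', h.e'e, h.e'e'] at k0 k1 k2 k3
  -- the determinant
  have hdet : α * δ + β * γ = 1 := by
    have e1 : act a p = α • p + γ • p' := by
      apply Im_injective hb
      change Im b *ᵥ act a p = Im b *ᵥ (α • p + γ • p')
      rw [← phi_Im hF hb, ← hp, mulVec_add, mulVec_smul, mulVec_smul, ← hp, ← hp']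
      exact h1
    have e2 : act a p' = β • p + δ • p' := by
      apply Im_injective hb
      change Im b *ᵥ act a p' = Im b *ᵥ (β • p + δ • p')
      rw [← phi_Im hF hb, ← hp', mulVec_add, mulVec_smul, mulVec_smul, ← hp, ← hp']
      exact h2
    have e3 : (act a p) 0 * (act a p') 1 - (act a p) 1 * (act a p') 0 = p 0 * p' 1 - p 1 * p' 0 := by
      have h3 : ∀ v : Fin 2 → F, act a v = mat a *ᵥ v := fun v => rfl
      have h4 : (mat a).det = 1 := det_mat a
      rw [Matrix.det_fin_two] at h4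
      rw [h3, h3]
      simp only [Matrix.mulVec, dotProduct, Fin.sum_univ_two]
      linear_combination (p 0 * p' 1 - p 1 * p' 0) * h4
    rw [e1, e2] at e3
    simp only [Pi.add_apply, Pi.smul_apply, smul_eq_mul] at e3
    have e4 : p 0 * p' 1 - p 1 * p' 0 ≠ 0 := by
      intro h0
      have h3 : p' 1 • p = p 1 • p' := by
        funext i
        fin_cases i
        · simp only [Pi.smul_apply, smul_eq_mul, Fin.zero_eta]
          linear_combination h0
        · simp only [Pi.smul_apply, smul_eq_mul, Fin.mk_one]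
          ring
      have h4 : p' 0 • p = p 0 • p' := by
        funext i
        fin_cases i
        · simp only [Pi.smul_apply, smul_eq_mul, Fin.zero_eta]
          ring
        · simp only [Pi.smul_apply, smul_eq_mul, Fin.mk_one]
          linear_combination -h0
      have h5 : ∀ c c' : F, c' • p = c • p' → c = 0 ∧ c' = 0 := by
        intro c c' hcc
        have h6 : c' • e = c • e' := by
          rw [hp, hp', ← mulVec_smul, ← mulVec_smul, hcc]
        have h7 := congrArg (fun u => hermForm n F q u e') h6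
        have h8 := congrArg (fun u => hermForm n F q u e) h6
        simp only [herm_smul_left, h.ee', h.e'e', h.ee, h.e'e, mul_one, mul_zero] at h7 h8
        exact ⟨h8.symm, h7⟩
      have h9 : p = 0 := by
        funext i
        fin_cases i
        · exact (h5 _ _ h4).1
        · exact (h5 _ _ h3).1
      apply h.e_ne
      rw [hp, h9, mulVec_zero]
    have e5 : (p 0 * p' 1 - p 1 * p' 0) * (α * δ + β * γ - 1) = 0 := by
      linear_combination e3 + (p 0 * p' 1 - p 1 * p' 0) * β * γ * hc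
    exact sub_eq_zero.1 ((mul_eq_zero.1 e5).resolve_left e4)
  have m1 : α ^ q = α := by
    linear_combination α * k3 + β * k0 - α ^ q * hdet - α * β * γ ^ q * hc
  have m2 : γ ^ q = γ := by
    linear_combination γ * k3 + δ * k0 - γ ^ q * hdet - γ * δ * α ^ q * hc
  have m3 : β ^ q = β := by
    linear_combination β * k1 + α * k2 - β ^ q * hdet - α * β * δ ^ q * hc
  have m4 : δ ^ q = δ := by
    linear_combination δ * k1 + γ * k2 - δ ^ q * hdet - γ * δ * β ^ q * hc
  have t1 : T (g e) = g e := by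
    rw [h1, hTadd, hTsmul, hTsmul, m1, m2, h.Te, h.Te']
  have t2 : T (g e') = g e' := by
    rw [h2, hTadd, hTsmul, hTsmul, m3, m4, h.Te, h.Te']
  rw [h.dec hn v]
  simp only [hadd, hlin, hTadd, hTsmul, hgw, t1, t2, h.Tw, h.Te, h.Te']

end cen

/-- the case `n = 3` -/
theorem graph_three (hsmall : SmallStmt) {G Ω : Type} [Group G] [Finite G] [Finite Ω] [Nonempty Ω] [MulAction G Ω]
    {N : Subgroup G} {F : Type} [Field F] [Fintype F] {n q : ℕ} (U : UEnv G Ω N F n q) {ι : Type} [Finite ι]
    (x : ι → G) (f : ι → (Fin n → F) → (Fin n → F)) (r : ι → ℕ) (hcov : H106.RC.Cov Ω x) (hq : Even q)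
    (hIH : H106.RC.IH (Nat.card (PSU n F q))) (i₀ : ι) (T : (Fin n → F) → (Fin n → F)) (hT : GForm U x f r i₀ T)
    {w : Fin n → F} (hTw : T w = w) (hww : hermForm n F q w w ≠ 0) (hfw : ∀ j, j ≠ i₀ → f j w = w)
    (hst : ∀ i, Stab (f i) (perp q w)) (hn : n = 3) : False := by
  classical
  have hF := U.hF
  have hfam := hT.fam
  obtain ⟨b₀, hb₀, hTf⟩ := hT.eq
  have hfT : ∀ v, f i₀ v = b₀⁻¹ • T v := by
    intro v
    rw [hTf, smul_smul, inv_mul_cancel₀ hb₀, one_smul]
  obtain ⟨j₁, hj₁⟩ := H106.RC.Cov.two U.env hcov hfam.pf.ne i₀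
  have hq4 : 4 ≤ q := by
    have h2 := two_le hF
    have h3 := U.h32
    obtain ⟨k, hk⟩ := hq
    have h4 : q ≠ 2 := fun h => h3 ⟨hn, h⟩
    omega
  have hiso : ∀ j, j ≠ i₀ → ∀ u v, hermForm n F q (f j u) (f j v) = hermForm n F q u v :=
    fun j hj => lin_iso (hfam.lft j) (hT.lin j hj)
  -- the form is alternating on `V_0 ∩ w^⊥`
  have halt : ∀ v, T v = v → hermForm n F q v w = 0 → hermForm n F q v v = 0 := by
    intro v hTv hvw
    by_contra hvv
    obtain ⟨w₁, hTw₁, hw₁, hfw₁, hw₁w⟩ := exists_fix hT hq hTv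
    have hw₁w := hw₁w w hfw hvw
    rw [← hw₁] at hvv
    apply hfam.pf.ne j₁
    rw [(hfam.lft j₁).eq_one_iff]
    refine ⟨1, fun z => ?_⟩
    rw [one_smul]
    -- the orthogonal of `w, w₁`
    have hfr : finrank F (perp q w ⊓ perp q w₁ : Submodule F (Fin n → F)) = 1 := by
      have h1 := finrank_perp hww
      have h2 := finrank_perp hvv
      have h3 := Submodule.finrank_sup_add_finrank_inf_eq (perp q w) (perp q w₁)
      have h4 := Submodule.finrank_le (perp q w ⊔ perp q w₁)
      rw [finrank_fin_fun] at h4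
      have h5 : finrank F (perp q w ⊓ perp q w₁ : Submodule F (Fin n → F)) < finrank F (perp q w₁) := by
        apply Submodule.finrank_lt_finrank_of_lt
        refine lt_of_le_of_ne inf_le_right fun h => ?_
        have h6 : w ∈ perp q w₁ := mem_perp.2 (herm_eq_zero_swap hF hw₁w)
        rw [← h] at h6
        exact hww (mem_perp.1 h6.1)
      omega
    obtain ⟨⟨y, hy⟩, hy0, hyall⟩ := finrank_eq_one_iff'.1 hfr
    have hy0' : y ≠ 0 := fun h => hy0 (Subtype.ext h)
    have hyall' : ∀ u : Fin n → F, hermForm n F q u w = 0 → hermForm n F q u w₁ = 0 → ∃ c : F, u = c • y := by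
      intro u h1 h2
      obtain ⟨c, hc⟩ := hyall ⟨u, mem_perp.2 h1, mem_perp.2 h2⟩
      exact ⟨c, (congrArg Subtype.val hc).symm⟩
    have hyw := mem_perp.1 hy.1
    have hyw₁ := mem_perp.1 hy.2
    have hdec : ∀ u : Fin n → F, ∃ a b c : F, u = a • w + b • w₁ + c • y := by
      intro u
      obtain ⟨c, hc⟩ := hyall' (u - (hermForm n F q u w * (hermForm n F q w w)⁻¹) • w -
        (hermForm n F q u w₁ * (hermForm n F q w₁ w₁)⁻¹) • w₁) (by
          rw [herm_sub_left, herm_sub_left, herm_smul_left, herm_smul_left, hw₁w, mul_assoc, inv_mul_cancel₀ hww]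
          ring) (by
          rw [herm_sub_left, herm_sub_left, herm_smul_left, herm_smul_left, herm_eq_zero_swap hF hw₁w, mul_assoc,
            mul_assoc, inv_mul_cancel₀ hvv]
          ring)
      exact ⟨_, _, c, by rw [← hc]; abel⟩
    have hyy : hermForm n F q y y ≠ 0 := by
      intro h0
      obtain ⟨u, hu⟩ := exists_herm_ne_zero hF hy0'
      apply hu
      obtain ⟨a, b, c, rfl⟩ := hdec u
      rw [herm_add_right hF, herm_add_right hF, herm_smul_right, herm_smul_right, herm_smul_right, hyw, hyw₁, h0]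
      ring
    obtain ⟨c, hc⟩ := hyall' (f j₁ y) (by
        nth_rewrite 1 [← hfw j₁ hj₁]
        rw [hiso j₁ hj₁, hyw]) (by
        nth_rewrite 1 [← hfw₁ j₁ hj₁]
        rw [hiso j₁ hj₁, hyw₁])
    obtain ⟨d, hd⟩ := hyall' (T y) (by
        nth_rewrite 1 [← hTw]
        rw [herm_T hT hq, hyw, zero_pow_q hF]) (by
        nth_rewrite 1 [← hTw₁]
        rw [herm_T hT hq, hyw₁, zero_pow_q hF])
    have hd0 : d ≠ 0 := by
      rintro rfl
      rw [zero_smul] at hd
      apply hy0'
      rw [← hT.TT y, hd, T_zero hT]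
    have hc1 : c = 1 := by
      apply eq_one_of hF hq
      · have h1 := hiso j₁ hj₁ y y
        rw [hc, herm_smul_left, herm_smul_right, ← mul_assoc] at h1
        exact mul_right_cancel₀ hyy (by rw [h1, one_mul])
      · have h1 := hT.comm j₁ hj₁ y
        rw [hd, hc, hT.smul, hd, hT.lin j₁ hj₁, hc, smul_smul, smul_smul] at h1
        have h2 : (c ^ q * d - d * c) • y = 0 := by rw [sub_smul, h1, sub_self]
        have h3 := (smul_eq_zero.1 h2).resolve_right hy0'
        exact mul_right_cancel₀ hd0 (by linear_combination h3)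
    obtain ⟨a', b', c', rfl⟩ := hdec z
    have hl : ∀ (a : F) (u : Fin n → F), f j₁ (a • u) = a • f j₁ u := hT.lin j₁ hj₁
    rw [Ind.map_add (hfam.lft j₁), Ind.map_add (hfam.lft j₁), hl, hl, hl, hfw j₁ hj₁, hfw₁ j₁ hj₁, hc, hc1, one_smul]
  obtain ⟨e, e', hfrm⟩ := exists_frm hT hq hTw hww halt
  -- the plane
  have hA := nDeg_perp hF hww
  have hfr : finrank F (perp q w) = 2 := by
    have := finrank_perp hww
    omega
  obtain ⟨b, hb, hbA, hAb⟩ := exists_basis hF hA hfr
  have hmn : 2 < n := by omega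
  have hbi : ∀ i, b i ∈ perp q w := by
    intro i
    have h1 := hbA (Pi.single i 1)
    rwa [Im_mulVec, Finset.sum_eq_single i, Pi.single_eq_same, one_smul] at h1
    · intro k _ hk
      rw [Pi.single_eq_of_ne hk, zero_smul]
    · intro h
      exact absurd (Finset.mem_univ i) h
  have hinv : ∀ i j, ∃ c, f i (b j) = Im b *ᵥ c := fun i j => hAb _ (hst i _ (hbi j))
  have hfix : ∀ u v, T u = u → T v = v → (hermForm n F q u v) ^ q = hermForm n F q u v :=
    fun u v hu hv => herm_fix hT hq hu hv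
  -- `x i₀` centralises `SU(A)`
  have hcen₀ : ∀ m ∈ MM U hb, x i₀ * m = m * x i₀ := by
    rintro _ ⟨a, rfl⟩
    have h1 := (hfam.lft i₀).conj_el (s := phi hF hb a) (s' := phi hF hb a) (fun v => by
      rw [hfT, hfT, hfrm.cen hF hq hn hT.add hT.smul hb (fun c => mem_perp.1 (hbA c))
        (fun v hv => hAb v (mem_perp.2 hv)), act_smul])
    exact mul_inv_eq_iff_eq_mul.1 h1
  -- the M-rule
  have hM : ∀ ω : Ω, MM U hb ≤ MulAction.stabilizer G ω ∨
      ∃ j, (∀ m ∈ MM U hb, x j * m = m * x j) ∧ x j • ω = ω := by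
    intro ω
    by_cases h4 : q = 4
    · have huniq : ∀ j, j ≠ i₀ → j = j₁ := by
        intro j hj
        by_contra hjj
        have hg := (hfam.lft j).mul (hfam.lft j₁)
        obtain ⟨m, hm, hgm⟩ := hfrm.four (g := fun v => f j (f j₁ v)) hF hq
          (fun v v' => by rw [Ind.map_add (hfam.lft j₁), Ind.map_add (hfam.lft j)])
          (fun c v => by
            change f j (f j₁ (c • v)) = c • f j (f j₁ v)
            rw [hT.lin j₁ hj₁, hT.lin j hj])
          (fun v v' => by rw [hiso j hj, hiso j₁ hj₁]) (by rw [hfw j₁ hj₁, hfw j hj]) hn h4 hfix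
          (fun v => by rw [hT.comm j₁ hj₁, hT.comm j hj])
        have h1 : (x j * x j₁) ^ m = 1 := by
          rw [(hg.pow m).eq_one_iff]
          exact ⟨1, fun v => by rw [hgm, one_smul]⟩
        have o1 : orderOf (x j) = r j := orderOf_eq_prime (hfam.pf.pow j) (hfam.pf.ne j) (hp := ⟨hfam.pf.prime j⟩)
        have o2 : orderOf (x j₁) = r j₁ :=
          orderOf_eq_prime (hfam.pf.pow j₁) (hfam.pf.ne j₁) (hp := ⟨hfam.pf.prime j₁⟩)
        have h2 : orderOf (x j * x j₁) = r j * r j₁ := by
          rw [← o1, ← o2]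
          apply Commute.orderOf_mul_eq_mul_orderOf_of_coprime (hfam.pf.comm j j₁)
          rw [o1, o2, Nat.coprime_primes (hfam.pf.prime j) (hfam.pf.prime j₁)]
          exact fun h => hjj (hfam.pf.inj h)
        have h3 : r j * r j₁ ∣ m := by
          rw [← h2]
          exact orderOf_dvd_of_pow_eq_one h1
        rcases (Nat.dvd_prime hm).1 h3 with h5 | h5
        · exact (hfam.pf.prime j).one_lt.ne' (Nat.eq_one_of_mul_eq_one_right h5)
        · exact Nat.not_prime_mul (hfam.pf.prime j).one_lt.ne' (hfam.pf.prime j₁).one_lt.ne' (h5 ▸ hm)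
      refine H106.RC.mrule_one (simple_two hF hq4) (nc_two hF hq4) x r hfam.pf.prime hfam.pf.inj hfam.pf.pow
        hfam.pf.comm (MM U hb) (MM_perf U hb (comm_two hF hq4)) (pi U hb hmn) (pi_surjective U hb hmn)
        (pi_ker U hb hmn) j₁ (mem_normalizer U hb (hfam.lft j₁) (hinv j₁)) (fun i hi => ?_) ω (fun m _ => hcov _)
      by_cases hi₀ : i = i₀
      · rw [hi₀]
        exact hcen₀
      · exact absurd (huniq i hi₀) hi
    · have hRC : H106.RC.RC (PSU 2 F q) := by
        apply rc_two hF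
        intro K _ _ hK
        obtain ⟨k, hk⟩ := hq
        exact (hsmall hF U.hn U.h32 hIH).2.2.2.2.2.1 K hK hq4 h4 (by omega) (by omega)
      exact H106.RC.mrule_RC (simple_two hF hq4) (nc_two hF hq4) x r hfam.pf.prime hfam.pf.inj hfam.pf.pow
        hfam.pf.comm (MM U hb) (MM_perf U hb (comm_two hF hq4)) (pi U hb hmn) (pi_surjective U hb hmn)
        (pi_ker U hb hmn) (fun i => mem_normalizer U hb (hfam.lft i) (hinv i)) hRC ω (fun m _ => hcov _)
  -- only `x i₀` centralises `SU(A)`
  have honly : ∀ j, j ≠ i₀ → ¬ ∀ m ∈ MM U hb, x j * m = m * x j := by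
    intro j hj hcen
    obtain ⟨c, hc⟩ := scalar_of_comm' le_rfl hmn (hfam.lft j) (hT.lin j hj) (hinv j) hcen
    have hfe : ∀ v, hermForm n F q v w = 0 → f j v = c • v := by
      intro v hv
      obtain ⟨d, rfl⟩ := hAb v (mem_perp.2 hv)
      exact hc d
    have hc1 : c = 1 := by
      apply eq_one_of hF hq
      · have h1 := hiso j hj e e'
        rw [hfe e hfrm.ew, hfe e' hfrm.e'w, herm_smul_left, herm_smul_right, hfrm.ee', mul_one] at h1
        exact h1
      · have h1 := hT.comm j hj e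
        rw [hfrm.Te, hfe e hfrm.ew, hT.smul, hfrm.Te] at h1
        have h2 : (c ^ q - c) • e = 0 := by rw [sub_smul, h1, sub_self]
        exact sub_eq_zero.1 ((smul_eq_zero.1 h2).resolve_right hfrm.e_ne)
    apply hfam.pf.ne j
    rw [(hfam.lft j).eq_one_iff]
    refine ⟨1, fun z => ?_⟩
    have hl : ∀ (a : F) (u : Fin n → F), f j (a • u) = a • f j u := hT.lin j hj
    have hz := hfrm.dec hn z
    set a1 := hermForm n F q z e'
    set a2 := hermForm n F q z e
    set a3 := hermForm n F q z w * (hermForm n F q w w)⁻¹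
    rw [one_smul, hz, Ind.map_add (hfam.lft j), Ind.map_add (hfam.lft j), hl, hl, hl, hfw j hj, hfe e hfrm.ew,
      hfe e' hfrm.e'w, hc1, one_smul, one_smul]
  -- conclusion
  obtain ⟨p, hp⟩ := hAb e (mem_perp.2 hfrm.ew)
  have hpp : hermForm 2 F q p p = 0 := by rw [← herm_Im hF hb, ← hp, hfrm.ee]
  obtain ⟨μ, hμ0, hμ⟩ := exists_trace_zero_ne (F := F) (q := q) hF
  have hpe : hermForm n F q (Im b *ᵥ p) (Im b *ᵥ p) = 0 := by rw [← hp, hfrm.ee]
  refine U.root_one (hfam.lft i₀) (u := Im b *ᵥ p) (by rw [← hp]; exact hfrm.e_ne) hpe (c := b₀⁻¹)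
    (by rw [← hp, hfT, hfrm.Te]) hT.nlin hμ hμ0 (fun ω => ?_)
  rcases hM ω with h | ⟨j, hj, hjω⟩
  · left
    apply h
    rw [← phi_transv hF hb hpp hpe hμ]
    exact ph_mem U hb _
  · right
    by_cases hj₀ : j = i₀
    · rw [← hj₀]
      exact hjω
    · exact absurd hj (honly j hj₀)

/-- **Box E14** -/
theorem graph_even (hsmall : SmallStmt) : GraphEven := by
  intro G Ω _ _ _ _ _ N F _ _ n q U ι _ x f r hfam hcov ⟨hq, h42, hIH, i₀, T, hT, v, hTv, hv⟩
  have hF := U.hF
  obtain ⟨w, hTw, hww, hfw, -⟩ := exists_fix hT hq hTv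
  rw [← hww] at hv
  obtain ⟨b₀, hb₀, hTf⟩ := hT.eq
  have hst : ∀ i, Stab (f i) (perp q w) := by
    intro i v hvw
    rw [mem_perp] at hvw ⊢
    by_cases hi : i = i₀
    · subst hi
      have h1 : hermForm n F q (T v) w = 0 := by
        nth_rewrite 1 [← hTw]
        rw [herm_T hT hq, hvw, zero_pow_q hF]
      rw [hTf, herm_smul_left] at h1
      exact (mul_eq_zero.1 h1).resolve_left hb₀
    · nth_rewrite 1 [← hfw i hi]
      rw [lin_iso (hfam.lft i) (hT.lin i hi), hvw]
  by_cases hn : n = 3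
  · exact graph_three hsmall U x f r hcov hq hIH i₀ T hT hTw hv hfw hst hn
  · have hn3 := U.hn
    have hfr := finrank_perp hv
    have h32 : ¬ (finrank F (perp q w) = 3 ∧ q = 2) := fun h => h42 ⟨by omega, h.2⟩
    refine dec_main U x f r hfam hcov ⟨perp q w, nDeg_perp hF hv, perp_ne_top hv, by omega, h32, hst,
      fun i hsc => ?_, (hsmall hF U.hn U.h32 hIH).1 _ (by omega) (by omega) h32⟩
    by_cases hi : i = i₀
    · subst hi
      exfalso
      obtain ⟨z, hz, hz0⟩ : ∃ z ∈ perp q w, z ≠ 0 := by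
        have h2 : perp q w ≠ ⊥ := by
          intro h
          rw [h, finrank_bot] at hfr
          omega
        exact (Submodule.ne_bot_iff _).1 h2
      exact not_scalOn (hfam.lft i) hT.nlin hz hz0 hsc
    · have h1 : (r i).Prime := hfam.pf.prime i
      have h2 : r i ≠ 2 := fun h => hi (hfam.pf.inj (h.trans hT.r2.symm))
      obtain ⟨p, k, hp, hchar, hk, hk0⟩ := exists_prime_pow hF
      have h3 : p = 2 := by
        have h4 : 2 ∣ p ^ k := by rw [← hk]; exact hq.two_dvd
        exact ((Nat.prime_dvd_prime_iff_eq Nat.prime_two hp).1 (Nat.prime_two.dvd_of_dvd_pow h4)).symm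
      rw [hk, h3]
      exact Nat.Coprime.pow_right _ ((Nat.coprime_primes h1 Nat.prime_two).2 h2)

end Cfsg.Agent.H195.RC
end

-- part: H398/RC/RowU
section
/-!
# S3510, family E: the row `PSU` from the row `PSp` (helper398)
-/

set_option autoImplicit false

namespace Cfsg.Agent.H398.RC

open Cfsg Cfsg.Agent.H380.RC

theorem caseOne : CaseOne :=
  H906.RC.case_one str_main H452.RC.dec_main H452.RC.d_main (lstmt H452.RC.dec_main H906.RC.small_stmt)
    H409.RC.irrStmt H452.RC.gdec_main H906.RC.small_stmt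

theorem caseField : CaseField := by
  intro G Ω _ _ _ _ _ N F _ _ n q U ι _ x f r hfam hcov ⟨h42, ⟨i, hi, hr⟩, hIH⟩
  by_cases h : n = 3 ∧ q = 2 ^ r i
  · exact H322.RC.caseField_two U x f r hfam hcov ⟨h.1, ⟨i, hi, hr, h.2⟩, hIH⟩
  · exact H412.RC.caseField_of H906.RC.small_stmt U x f r hfam hcov ⟨⟨i, hi, hr, h⟩, hIH⟩

theorem caseGraph_main : CaseGraph :=
  H380.RC.caseGraph H433.RC.gForm H433.RC.graphAlt (H438.RC.graphSym H906.RC.small_stmt)
    (H195.RC.graph_even H906.RC.small_stmt)

/-- **The row for the unitary groups**, from the row for the symplectic groups. -/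
theorem row_unitary (hsp : H106.RC.Row (fun S _ => IsPSp S)) : H106.RC.Row (fun S _ => IsPSU S) :=
  H380.RC.row_psu hsp H906.RC.lift_stmt caseOne H579.RC.case_two caseField caseGraph_main

end Cfsg.Agent.H398.RC
end
end

-- part: H398/RC/RowUAll
section
prune_inst 0x312061042600000000000010200002306800042000000400040301020001284a080208000b80040342220001000000400000000000000000002004000019000000801004a0480008820096000000000000000000000000000000000000010000000000000
set_option linter.all false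
open scoped Cfsg.Agent.FastGrp

-- part: H194/RC/EvEx
section
/-!
# S3510, row D (symplectic groups), even characteristic: the environment (helper194)

* `exists_ev` : from `SpEnv` in characteristic two: every element has a unique lift with multiplier one, so `G` acts on `V`;
* `env_restrict` : the environment of an intermediate subgroup;
* `even_reduce` : a cover of `G` by elements induced by semisimilitudes: reduction to `Ev`.
-/

set_option autoImplicit false
open Cfsg

namespace Cfsg.Agent.H194.RC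

open MulAction Module Cfsg.Agent.H106.RC Cfsg.Agent.H520.RC Cfsg.Agent.H385.RC
open Cfsg.Agent.ClassicalGeometry.SympAutSemi Cfsg.Agent.ClassicalGeometry.SympBasic

section env

variable {F V G Ω : Type*} [Field F] [AddCommGroup V] [Module F V] {B : LinearMap.BilinForm F V} [Group G]
  [MulAction G Ω] {N : Subgroup G} {ρ : ↥(Sp B) →* G}

/-- the action given by semisimilitudes -/
@[reducible] def actOf (ψ : G →* SS B) : DistribMulAction G V where
  smul g v := ψ g v
  one_smul v := by
    change ψ 1 v = v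
    rw [map_one]; rfl
  mul_smul g h v := by
    change ψ (g * h) v = ψ g (ψ h v)
    rw [map_mul]; rfl
  smul_zero g := (ψ g).map_zero
  smul_add g u v := (ψ g).map_add u v

theorem ss_eq (hB : NAlt B) (hd : 1 ≤ finrank F V) (h2 : (2 : F) = 0) {M L : SS B} (hM : M.l = 1) (hL : L.l = 1)
    {a : F} (h : ∀ v, L v = a • M v) : L = M := by
  have : Nontrivial V := Module.nontrivial_of_finrank_pos (R := F) (by omega)
  obtain ⟨u, hu⟩ := exists_ne (0 : V)
  obtain ⟨v, hv⟩ := hB.exists_one hu
  have h1 := L.form u v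
  have h3 := M.form u v
  rw [hv, map_one, hM, mul_one] at h3
  rw [hv, map_one, hL, mul_one, h, h, map_smul, LinearMap.map_smul₂, h3, smul_eq_mul, smul_eq_mul, mul_one] at h1
  have ha : a = 1 := by
    have h4 : (a - 1) * (a - 1) = 0 := by linear_combination h1 - (a - 1) * h2
    rcases mul_eq_zero.1 h4 with h5 | h5 <;> exact sub_eq_zero.1 h5
  have h4 : ∀ v, L v = M v := fun v => by rw [h, ha, one_smul]
  refine SS.ext' h4 ?_ (hL.trans hM.symm)
  ext c
  have h5 := L.map_smul c u
  rw [h4, h4, M.map_smul] at h5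
  have h6 : (M.σ c - L.σ c) • M u = 0 := by rw [sub_smul, h5, sub_self]
  rcases smul_eq_zero.1 h6 with h7 | h7
  · exact (sub_eq_zero.1 h7).symm
  · exact absurd (M.injective (h7.trans M.map_zero.symm)) hu

/-- the lifts with multiplier one -/
theorem exists_hom [Finite F] [FiniteDimensional F V] (E : SpEnv Ω N ρ) (h2 : (2 : F) = 0) :
    ∃ ψ : G →* SS B, ∀ x, Lf ρ x (ψ x) ∧ (ψ x).l = 1 := by
  have hd : 1 ≤ finrank F V := le_trans (by norm_num) E.dim
  have hchar : CharP F 2 := CharTwo.of_one_ne_zero_of_two_eq_zero one_ne_zero h2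
  have h1 : ∀ x : G, ∃ M : SS B, Lf ρ x M ∧ M.l = 1 := by
    intro x
    obtain ⟨M, hM⟩ := E.lift x
    have := Fintype.ofFinite F
    obtain ⟨a, ha⟩ := FiniteField.isSquare_of_char_two (ringChar.eq F 2).symm.symm M.l
    have ha0 : a ≠ 0 := by
      rintro rfl
      rw [mul_zero] at ha
      exact M.hl ha
    refine ⟨SS.sc B a⁻¹ (inv_ne_zero ha0) * M, hM.of_scal ⟨a⁻¹, inv_ne_zero ha0, fun v => rfl⟩, ?_⟩
    rw [SS.mul_l]
    change a⁻¹ * a⁻¹ * M.l = 1
    rw [ha]
    field_simp
  choose ψ hψ using h1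
  have hu : ∀ {x : G} {M L : SS B}, Lf ρ x M → Lf ρ x L → M.l = 1 → L.l = 1 → L = M := by
    intro x M L h h' hM hL
    obtain ⟨a, -, ha⟩ := E.lf_unique h h'
    exact ss_eq E.form hd h2 hM hL ha
  refine ⟨{ toFun := ψ, map_one' := hu Lf.one (hψ 1).1 rfl (hψ 1).2, map_mul' := fun x y => ?_ }, hψ⟩
  refine hu ((hψ x).1.mul (hψ y).1) (hψ _).1 ?_ (hψ _).2
  rw [SS.mul_l, (hψ x).2, (hψ y).2, map_one, mul_one]

/-- **The environment in characteristic two.** -/
theorem exists_ev [Finite F] [FiniteDimensional F V] (E : SpEnv Ω N ρ) (h2 : (2 : F) = 0) :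
    ∃ I : DistribMulAction G V, @Ev F V G _ _ _ _ I B N := by
  have hd : 1 ≤ finrank F V := le_trans (by norm_num) E.dim
  obtain ⟨ψ, hψ⟩ := exists_hom E h2
  have htg : ∀ t, ψ (ρ t) = SS.tg t := by
    intro t
    obtain ⟨a, -, ha⟩ := E.lf_unique (Lf.tg t) (hψ (ρ t)).1
    exact ss_eq E.form hd h2 rfl (hψ (ρ t)).2 ha
  refine ⟨actOf ψ, ?_⟩
  let _ := actOf ψ
  have hsm : ∀ (g : G) (v : V), g • v = ψ g v := fun _ _ => rfl
  refine ⟨E.form.alt, E.form.nd, h2, ?_, ?_, ?_, ?_⟩
  · intro g hg
    refine (E.eq_one_iff (hψ g).1).2 ⟨1, one_ne_zero, fun v => ?_⟩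
    rw [one_smul]
    exact hg v
  · intro g
    refine ⟨(ψ g).σ, fun a v => (ψ g).map_smul a v, fun u v => ?_⟩
    rw [hsm, hsm, (ψ g).form, (hψ g).2, one_mul]
  · intro g
    constructor
    · intro hg a v
      rw [← E.range] at hg
      obtain ⟨t, rfl⟩ := hg
      rw [hsm, hsm, htg]
      exact _root_.map_smul t.1 a v
    · intro hg
      have h3 : ∀ u v, B (ψ g u) (ψ g v) = B u v := by
        intro u v
        rw [(ψ g).form, (hψ g).2, one_mul]
        have : Nontrivial V := Module.nontrivial_of_finrank_pos (R := F) (by omega)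
        obtain ⟨w, hw⟩ := exists_ne (0 : V)
        have h4 := hg (B u v) w
        rw [hsm, hsm, (ψ g).map_smul] at h4
        have h5 : ((ψ g).σ (B u v) - B u v) • ψ g w = 0 := by rw [sub_smul, h4, sub_self]
        rcases smul_eq_zero.1 h5 with h6 | h6
        · exact sub_eq_zero.1 h6
        · exact absurd ((ψ g).injective (h6.trans (ψ g).map_zero.symm)) hw
      let t : ↥(Sp B) := ⟨{ (ψ g).f with map_smul' := fun a v => hg a v }, h3⟩
      have h4 : g = ρ t := E.eq_of_lf (hψ g).1 (t := t) one_ne_zero fun v => by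
        rw [one_smul]; rfl
      rw [h4, ← E.range]
      exact ⟨t, rfl⟩
  · intro A hA
    refine ⟨ρ ⟨A, hA⟩, fun v => ?_⟩
    rw [hsm, htg]
    rfl

/-- the environment of an intermediate subgroup -/
theorem env_restrict (hE : Env G Ω N) {H : Subgroup G} (hN : N ≤ H) : Env H Ω (N.subgroupOf H) where
  norm := by
    have := hE.norm
    exact Subgroup.normal_subgroupOf
  simple := Cfsg.Agent.H106.RC.isSimple_cgr0 (Subgroup.subgroupOfEquivOfLe hN).symm hE.simple
  ncomm := fun h => hE.ncomm (by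
    refine ⟨⟨fun a b => ?_⟩⟩
    have h1 := h.is_comm.comm ((Subgroup.subgroupOfEquivOfLe hN).symm a) ((Subgroup.subgroupOfEquivOfLe hN).symm b)
    have h2 := congrArg (Subgroup.subgroupOfEquivOfLe hN) h1
    simpa only [_root_.map_mul, _root_.MulEquiv.apply_symm_apply] using h2)
  cent := by
    rw [eq_bot_iff]
    intro x hx
    rw [Subgroup.mem_bot]
    have h1 : (x : G) ∈ Subgroup.centralizer (N : Set G) := by
      rw [Subgroup.mem_centralizer_iff]
      intro n hn
      have h2 := Subgroup.mem_centralizer_iff.1 hx ⟨n, hN hn⟩ (by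
        change (n : G) ∈ N
        exact hn)
      exact congrArg Subtype.val h2
    rw [hE.cent, Subgroup.mem_bot] at h1
    exact Subtype.ext h1
  nofix := fun ω h => hE.nofix ω fun n hn => by
    have h1 := h (show (⟨n, hN hn⟩ : H) ∈ N.subgroupOf H from hn)
    exact h1

end env

/-- **Reduction to the environment `Ev`.** -/
theorem even_reduce {m : ℕ} (hm : 2 ≤ m) {F : Type} [Field F] [Finite F] (h2 : (2 : F) = 0)
    {G Ω : Type} [Group G] [Finite G] [MulAction G Ω] {N : Subgroup G} (hE : Env G Ω N) (e : N ≃* PSp m F)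
    {ι : Type} {x : ι → G} {r : ι → ℕ} (hx : PF x r) (hcov : Cov Ω x)
    (hs : ∀ i, ∃ g : semiSim m F, ∀ n : N, ((e.symm (Psi m F g (e n)) : N) : G) = x i * n * (x i)⁻¹)
    (key : ∀ (H : Type) [Group H] [Finite H] [DistribMulAction H (Fin m ⊕ Fin m → F)] [MulAction H Ω]
      (N' : Subgroup H), Ev (sympBilin m F) N' → Env H Ω N' → (N' ≃* PSp m F) →
      ∀ y : ι → H, PF y r → Cov Ω y → False) : False := by
  have hnorm := hE.norm
  -- the subgroup of all elements induced by semisimilitudes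
  obtain ⟨H, hH⟩ : ∃ H : Subgroup G, ∀ y, y ∈ H ↔
      ∃ g : semiSim m F, ∀ n : N, ((e.symm (Psi m F g (e n)) : N) : G) = y * n * y⁻¹ := by
    obtain ⟨f, hf⟩ : ∃ f : G →* MulAut (PSp m F), ∀ y (n : N), ((e.symm (f y (e n)) : N) : G) = y * n * y⁻¹ :=
      ⟨(MulAut.congr e).toMonoidHom.comp MulAut.conjNormal, fun y n => by
        have h1 : MulAut.congr e (MulAut.conjNormal y) (e n) = e (MulAut.conjNormal y n) := by
          simp [MulAut.congr]
        change ((e.symm (MulAut.congr e (MulAut.conjNormal y) (e n)) : N) : G) = _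
        rw [h1, e.symm_apply_apply, MulAut.conjNormal_apply]⟩
    refine ⟨(Psi m F).range.comap f, fun y => ?_⟩
    rw [Subgroup.mem_comap]
    constructor
    · rintro ⟨g, hg⟩
      exact ⟨g, fun n => by rw [hg, hf]⟩
    · rintro ⟨g, hg⟩
      refine ⟨g, ?_⟩
      apply MulEquiv.ext
      intro n
      obtain ⟨n, rfl⟩ := e.surjective n
      have h1 : e.symm (Psi m F g (e n)) = e.symm (f y (e n)) := Subtype.ext (by rw [hg, hf])
      exact e.symm.injective h1
  have hN : N ≤ H := by
    intro n hn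
    rw [hH]
    obtain ⟨A, hA⟩ := QuotientGroup.mk_surjective (e ⟨n, hn⟩)
    have h1 : rho m F A ∈ semiSim m F := ⟨_, _, one_ne_zero, isSemi_rho A⟩
    refine ⟨⟨rho m F A, h1⟩, fun k => ?_⟩
    obtain ⟨C, hC⟩ := QuotientGroup.mk_surjective (e k)
    have h3 : conjHom m F ⟨rho m F A, h1⟩ C = A * C * A⁻¹ := by
      apply rho_injective
      rw [rho_conjHom, map_mul, map_mul, map_inv]
    rw [← hC, Psi_mk, h3]
    have h4 : (QuotientGroup.mk (A * C * A⁻¹) : PSp m F) = e (⟨n, hn⟩ * k * ⟨n, hn⟩⁻¹) := by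
      rw [map_mul, map_mul, map_inv, ← hA, ← hC]
      rfl
    rw [h4, e.symm_apply_apply]
    rfl
  have hE' := env_restrict hE hN
  have hxH : ∀ i, x i ∈ H := fun i => (hH _).2 (hs i)
  let e' : (N.subgroupOf H) ≃* PSp m F := (Subgroup.subgroupOfEquivOfLe hN).trans e
  obtain ⟨ρ, E⟩ := exists_spEnv_of hm hE' e' (fun α ⟨y, hy⟩ => by
    obtain ⟨g, hg⟩ := (hH _).1 y.2
    refine ⟨g, ?_⟩
    apply MulEquiv.ext
    intro n
    obtain ⟨n, rfl⟩ := e.surjective n
    have h1 := hy ((Subgroup.subgroupOfEquivOfLe hN).symm n)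
    have h2 : e' ((Subgroup.subgroupOfEquivOfLe hN).symm n) = e n := by
      change e (Subgroup.subgroupOfEquivOfLe hN ((Subgroup.subgroupOfEquivOfLe hN).symm n)) = _
      rw [MulEquiv.apply_symm_apply]
    rw [h2] at h1
    have h3 := hg n
    have h4 : ((e.symm (α (e n)) : N) : G) = y * n * (y : G)⁻¹ := congrArg Subtype.val h1
    exact e.symm.injective (Subtype.ext (h3.trans h4.symm)))
  obtain ⟨I, hI⟩ := exists_ev E h2
  let _ := I
  refine key H (N.subgroupOf H) hI hE' e' (fun i => ⟨x i, hxH i⟩) ⟨hx.prime, hx.inj, fun i => ?_, fun i h => ?_,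
    fun i j => ?_⟩ fun ω => ?_
  · exact Subtype.ext (hx.pow i)
  · exact hx.ne i (congrArg Subtype.val h)
  · exact Subtype.ext (hx.comm i j)
  · obtain ⟨i, hi⟩ := hcov ω
    exact ⟨i, hi⟩

end Cfsg.Agent.H194.RC
end

-- part: H555/RC/QFix
section
/-!
# S3510, symplectic groups in characteristic two: semilinear isometries preserve a quadratic form (helper555)

* `Ev.exists_quad` : every element of the group of the environment `Ev B N` preserves (semilinearly) a quadratic form with
  polar form `B`;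
* `Ev.quad_add` : the other quadratic forms preserved by `g` are `Q + B(d, ·)²` with `g d = d`.
-/

set_option autoImplicit false
set_option linter.unusedSectionVars false

open Cfsg

namespace Cfsg.Agent.H555.RC

open Module QuadraticMap Cfsg.Agent.H385.RC Cfsg.Agent.H106.RC
open Cfsg.Agent.LieClassical.OrthCore Cfsg.Agent.ClassicalGeometry.OrthSemi

section trace

variable {F : Type*} [Field F] [Finite F] [Algebra (ZMod 2) F]

theorem trace_sigma (σ : F ≃+* F) (x : F) : Algebra.trace (ZMod 2) F (σ x) = Algebra.trace (ZMod 2) F x := by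
  have hc : ∀ r : ZMod 2, σ (algebraMap (ZMod 2) F r) = algebraMap (ZMod 2) F r := by
    intro r
    have : (σ : F →+* F).comp (algebraMap (ZMod 2) F) = algebraMap (ZMod 2) F := Subsingleton.elim _ _
    exact RingHom.congr_fun this r
  let e : F ≃ₐ[ZMod 2] F := AlgEquiv.ofRingEquiv (f := σ) hc
  exact Algebra.trace_eq_of_algEquiv e x

theorem trace_sq [CharP F 2] (x : F) : Algebra.trace (ZMod 2) F (x ^ 2) = Algebra.trace (ZMod 2) F x := by
  exact trace_sigma (frobeniusEquiv F 2) x

theorem exists_trace_ne {a : F} (ha : a ≠ 0) : ∃ b : F, Algebra.trace (ZMod 2) F (a * b) ≠ 0 := by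
  have : Fact (Nat.Prime 2) := ⟨Nat.prime_two⟩
  have h1 : (Algebra.trace (ZMod 2) F) ≠ 0 := Algebra.trace_ne_zero _ _
  obtain ⟨b, hb⟩ : ∃ b, Algebra.trace (ZMod 2) F b ≠ 0 := by
    by_contra hcon
    push Not at hcon
    exact h1 (LinearMap.ext hcon)
  exact ⟨a⁻¹ * b, by rwa [mul_inv_cancel_left₀ ha]⟩

end trace

section quad

variable {F V G : Type*} [Field F] [Finite F] [AddCommGroup V] [Module F V] [FiniteDimensional F V] [Group G]
  [DistribMulAction G V] {B : LinearMap.BilinForm F V} {N : Subgroup G}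

theorem charP_two (h : Ev B N) : CharP F 2 := by
  refine CharTwo.of_one_ne_zero_of_two_eq_zero one_ne_zero h.two

/-- every additive functional is a trace -/
theorem exists_functional (h : Ev B N) (R : AddSubgroup V) {c : V} (hc : c ∉ R) [Algebra (ZMod 2) F] :
    ∃ x : V, (∀ y ∈ R, Algebra.trace (ZMod 2) F (B x y) = 0) ∧ Algebra.trace (ZMod 2) F (B x c) ≠ 0 := by
  classical
  have h2 : Fact (Nat.Prime 2) := ⟨Nat.prime_two⟩
  have hchar := charP_two h
  let _ : Module (ZMod 2) V := Module.compHom V (algebraMap (ZMod 2) F)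
  have : IsScalarTower (ZMod 2) F V := ⟨fun r a v => by
    rw [Algebra.smul_def, mul_smul]; rfl⟩
  have hfinV : Finite V := Module.finite_of_finite F
  have : Module.Finite (ZMod 2) V := inferInstance
  let Bx : V → (V →+ ZMod 2) := fun x =>
    { toFun := fun y => Algebra.trace (ZMod 2) F (B x y)
      map_zero' := by rw [map_zero, map_zero]
      map_add' := fun y z => by rw [map_add, map_add] }
  let L0 : V →+ (V →ₗ[ZMod 2] ZMod 2) :=
    { toFun := fun x => (Bx x).toZModLinearMap 2
      map_zero' := by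
        ext y
        change Algebra.trace (ZMod 2) F (B 0 y) = 0
        rw [map_zero, LinearMap.zero_apply, map_zero]
      map_add' := fun x x' => by
        ext y
        change Algebra.trace (ZMod 2) F (B (x + x') y) = Algebra.trace (ZMod 2) F (B x y) + Algebra.trace (ZMod 2) F (B x' y)
        rw [map_add, LinearMap.add_apply, map_add] }
  let L : V →ₗ[ZMod 2] (V →ₗ[ZMod 2] ZMod 2) := L0.toZModLinearMap 2
  have hL : ∀ x y, L x y = Algebra.trace (ZMod 2) F (B x y) := fun x y => rfl
  have hinj : Function.Injective L := by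
    rw [injective_iff_map_eq_zero]
    intro x hx
    refine h.nd x fun y => ?_
    by_contra hne
    obtain ⟨b, hb⟩ := exists_trace_ne hne
    apply hb
    have h3 := hL x (b • y)
    rw [hx, LinearMap.zero_apply, map_smul, smul_eq_mul, mul_comm] at h3
    exact h3.symm
  have hsurj : Function.Surjective L :=
    (LinearMap.injective_iff_surjective_of_finrank_eq_finrank (by exact (Subspace.dual_finrank_eq).symm)).1 hinj
  let R' : Submodule (ZMod 2) V := AddSubgroup.toZModSubmodule 2 R
  have hmem : c ∉ R' := hc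
  obtain ⟨f, hf1, hf2⟩ := Submodule.exists_le_ker_of_notMem hmem
  obtain ⟨x, hx⟩ := hsurj f
  refine ⟨x, fun y hy => ?_, ?_⟩
  · rw [← hL, hx]
    exact hf2 hy
  · rw [← hL, hx]
    exact hf1

/-- **Dye's theorem for semilinear isometries.** -/
theorem exists_quad (h : Ev B N) (g : G) {σ : F ≃+* F} (h1 : ∀ (a : F) (v : V), g • a • v = σ a • g • v)
    (h2 : ∀ u v, B (g • u) (g • v) = σ (B u v)) :
    ∃ Q : QuadraticForm F V, (∀ x y, polar Q x y = B x y) ∧ ∀ v, Q (g • v) = σ (Q v) := by
  have hchar := charP_two h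
  let _ : Algebra (ZMod 2) F := ZMod.algebra F 2
  have htwo : (2 : F) = 0 := h.two
  obtain ⟨Q0, hQ0⟩ := H686.SR.Dye.exists_quad B h.alt
  have hQadd : ∀ x y, Q0 (x + y) = Q0 x + Q0 y + B x y := fun x y => by rw [← hQ0, polar]; ring
  let δ : V → F := fun v => σ.symm (Q0 (g • v)) + Q0 v
  have hadd : ∀ x y, δ (x + y) = δ x + δ y := by
    intro x y
    change σ.symm (Q0 (g • (x + y))) + Q0 (x + y) = (σ.symm (Q0 (g • x)) + Q0 x) + (σ.symm (Q0 (g • y)) + Q0 y)
    rw [smul_add, hQadd, hQadd, h2, map_add, map_add, RingEquiv.symm_apply_apply]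
    linear_combination (B x y) * htwo
  have hsmul : ∀ (a : F) x, δ (a • x) = a ^ 2 * δ x := by
    intro a x
    change σ.symm (Q0 (g • a • x)) + Q0 (a • x) = a ^ 2 * (σ.symm (Q0 (g • x)) + Q0 x)
    rw [h1, QuadraticMap.map_smul, QuadraticMap.map_smul, smul_eq_mul, smul_eq_mul, map_mul, map_mul,
      RingEquiv.symm_apply_apply]
    ring
  let s : F ≃+* F := (frobeniusEquiv F 2).symm
  have hs : ∀ x, s x ^ 2 = x := fun x => frobeniusEquiv_symm_pow_p F 2 x
  have hinj2 : ∀ x y : F, x ^ 2 = y ^ 2 → x = y := by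
    intro x y hxy
    have h4 : (x + y) ^ 2 = 0 := by
      rw [CharTwo.add_sq, hxy]
      exact CharTwo.add_self_eq_zero _
    exact CharTwo.add_eq_zero.1 (pow_eq_zero_iff (two_ne_zero) |>.1 h4)
  have hs' : ∀ x, s (x ^ 2) = x := fun x => hinj2 _ _ (hs _)
  let lam : V →ₗ[F] F :=
    { toFun := fun x => s (δ x)
      map_add' := fun x y => by rw [hadd, map_add]
      map_smul' := fun a x => by
        rw [hsmul, map_mul, hs', RingHom.id_apply, smul_eq_mul] }
  have hlam : ∀ x, lam x ^ 2 = δ x := fun x => hs _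
  have hinj : Function.Injective B := by
    rw [injective_iff_map_eq_zero]
    intro x hx
    exact h.nd x fun y => by rw [hx]; rfl
  have hsurj : Function.Surjective B :=
    (LinearMap.injective_iff_surjective_of_finrank_eq_finrank (by exact (Subspace.dual_finrank_eq).symm)).1 hinj
  obtain ⟨c, hc⟩ := hsurj lam
  have hc' : ∀ x, B c x = lam x := fun x => by rw [hc]
  have hform : ∀ u v, σ (B (g⁻¹ • u) v) = B u (g • v) := h.form_inv h2
  obtain ⟨a, ha⟩ : ∃ a, g⁻¹ • a + a = c := by
    by_contra hcon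
    let R : AddSubgroup V := AddMonoidHom.range
      ((DistribMulAction.toAddMonoidHom V g⁻¹) + AddMonoidHom.id V)
    have hmem : c ∉ R := by
      rintro ⟨a, ha⟩
      exact hcon ⟨a, ha⟩
    obtain ⟨x, hx1, hx2⟩ := exists_functional h R hmem
    apply hx2
    have h3 : g • x + x = 0 := by
      refine h.nd _ fun y => ?_
      by_contra hne
      obtain ⟨b, hb⟩ := exists_trace_ne hne
      apply hb
      have h4 := hx1 (g⁻¹ • (b • y) + b • y) ⟨b • y, rfl⟩
      rw [map_add, map_add] at h4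
      have h5 : Algebra.trace (ZMod 2) F (B x (g⁻¹ • b • y)) = Algebra.trace (ZMod 2) F (B (g • x) (b • y)) := by
        rw [← trace_sigma σ (B x (g⁻¹ • b • y)), ← h2, smul_inv_smul]
      rw [h5, ← map_add, ← LinearMap.add_apply, ← map_add, map_smul, smul_eq_mul, mul_comm] at h4
      exact h4
    have h5 : g • x = x := by
      rw [← sub_eq_zero, sub_eq_add_neg, h.vneg]
      exact h3
    rw [h.symm x c, hc', ← trace_sq, hlam]
    change Algebra.trace (ZMod 2) F (σ.symm (Q0 (g • x)) + Q0 x) = 0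
    rw [h5, map_add, trace_sigma, ← two_mul]
    have : (2 : ZMod 2) = 0 := by decide
    rw [this, zero_mul]
  let Q : QuadraticForm F V := Q0 + (QuadraticMap.sq (R := F)).comp (B a)
  have hQ : ∀ x, Q x = Q0 x + B a x * B a x := fun x => rfl
  refine ⟨Q, fun x y => ?_, fun x => ?_⟩
  · rw [polar, hQ, hQ, hQ, hQadd, map_add]
    linear_combination (B a x * B a y) * htwo
  · have h3 : lam x ^ 2 = σ.symm (Q0 (g • x)) + Q0 x := hlam x
    have h3' : σ (lam x) ^ 2 = Q0 (g • x) + σ (Q0 x) := by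
      rw [← map_pow, h3, map_add, RingEquiv.apply_symm_apply]
    rw [hQ, hQ, map_add, map_mul]
    have h4 : B a (g • x) = σ (B (g⁻¹ • a) x) := (hform a x).symm
    have h5 : B a x = lam x + B (g⁻¹ • a) x := by
      rw [← hc', ← ha, map_add, LinearMap.add_apply]
      linear_combination -(B (g⁻¹ • a) x) * htwo
    rw [h4, h5, map_add]
    linear_combination -h3' - (σ (Q0 x) + σ (lam x) * σ (B (g⁻¹ • a) x)) * htwo

/-- the form `Q + B(d, ·)²` -/
noncomputable def qadd (B : LinearMap.BilinForm F V) (Q : QuadraticForm F V) (d : V) : QuadraticForm F V :=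
  Q + (QuadraticMap.sq (R := F)).comp (B d)

theorem qadd_apply (Q : QuadraticForm F V) (d v : V) : qadd B Q d v = Q v + B d v * B d v := rfl

theorem polar_qadd (h : Ev B N) {Q : QuadraticForm F V} (hQ : ∀ x y, polar Q x y = B x y) (d x y : V) :
    polar (qadd B Q d) x y = B x y := by
  rw [← hQ x y, polar, polar, qadd_apply, qadd_apply, qadd_apply, (B d).map_add]
  linear_combination (B d x * B d y) * h.two

theorem qadd_smul {Q : QuadraticForm F V} {g : G} {σ : F ≃+* F}
    (h2 : ∀ u v, B (g • u) (g • v) = σ (B u v)) (h3 : ∀ v, Q (g • v) = σ (Q v)) {d : V} (hd : g • d = d) (v : V) :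
    qadd B Q d (g • v) = σ (qadd B Q d v) := by
  rw [qadd_apply, qadd_apply, h3, map_add, map_mul, ← h2, hd]

end quad

end Cfsg.Agent.H555.RC
end

-- part: H555/RC/Om
section
/-!
# S3510, symplectic groups in characteristic two: the subgroup `Ω(Q)` (helper555)

* `QS Q` : the elements of `G` preserving `Q` semilinearly;
* `dead_quad` : no cover by elements preserving a quadratic form `Q` with polar form `B`, `dim ≥ 6`, unless `Q` is `Ω₆⁺(2)`;
* `card_zeros` : a quadratic form on `F₂⁶` with a totally singular subspace of dimension three has `36` zeros;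
* `dead_even_of` : the whole row `dim ≥ 6` from the case `F₂⁶`.
-/

set_option autoImplicit false
set_option linter.unusedSectionVars false

open Cfsg

namespace Cfsg.Agent.H555.RC

open Module QuadraticMap MulAction Cfsg.Agent.H385.RC Cfsg.Agent.H106.RC
open Cfsg.Agent.LieClassical.OrthCore Cfsg.Agent.LieClassical.OrthTrans Cfsg.Agent.LieClassical.OrthSimple
open Cfsg.Agent.LieClassical.OrthFinite Cfsg.Agent.ClassicalGeometry.OrthSemi Cfsg.Agent.ClassicalGeometry.OrthAut1
open Cfsg.Agent.H93.RC Cfsg.Agent.H236.RC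

section qs

variable {F V G : Type*} [Field F] [AddCommGroup V] [Module F V] [Group G] [DistribMulAction G V]

/-- the elements preserving `Q` semilinearly -/
def QS (G : Type*) [Group G] [DistribMulAction G V] (Q : QuadraticForm F V) : Subgroup G where
  carrier := {g | ∃ σ : F ≃+* F, (∀ (a : F) (v : V), g • a • v = σ a • g • v) ∧ ∀ v : V, Q (g • v) = σ (Q v)}
  mul_mem' := by
    rintro a b ⟨σ, h1, h2⟩ ⟨τ, h3, h4⟩
    refine ⟨τ.trans σ, fun c v => ?_, fun v => ?_⟩
    · rw [mul_smul, mul_smul, h3, h1]; rfl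
    · rw [mul_smul, h2, h4]; rfl
  one_mem' := ⟨RingEquiv.refl F, fun c v => by rw [one_smul, one_smul]; rfl, fun v => by rw [one_smul]; rfl⟩
  inv_mem' := by
    rintro a ⟨σ, h1, h2⟩
    refine ⟨σ.symm, fun c v => ?_, fun v => ?_⟩
    · rw [inv_smul_eq_iff, h1, smul_inv_smul, RingEquiv.apply_symm_apply]
    · rw [RingEquiv.eq_symm_apply, ← h2, smul_inv_smul]

/-- the semisimilitude of an element of `QS` -/
def toGam {Q : QuadraticForm F V} {g : G} (hg : g ∈ QS G Q) : Gam Q :=
  ⟨MulAction.toPerm g, by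
    obtain ⟨σ, h1, h2⟩ := hg
    exact ⟨σ, 1, one_ne_zero, fun u v => smul_add g u v, h1, fun v => by
      rw [one_mul]; exact h2 v⟩⟩

theorem toGam_apply {Q : QuadraticForm F V} {g : G} (hg : g ∈ QS G Q) (v : V) : (toGam hg).1 v = g • v := rfl

theorem toGam_inv_apply {Q : QuadraticForm F V} {g : G} (hg : g ∈ QS G Q) (v : V) : (toGam hg).1⁻¹ v = g⁻¹ • v := rfl

end qs

section mrule

variable {F V G : Type} [Field F] [Finite F] [AddCommGroup V] [Module F V] [FiniteDimensional F V] [Group G] [Finite G]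
  [DistribMulAction G V] {B : LinearMap.BilinForm F V} {N : Subgroup G}

/-- `E Q` consists of isometries of the polar form -/
theorem E_le_Sp {Q : QuadraticForm F V} (hQ : ∀ u v, polar Q u v = B u v) : E Q ≤ Cfsg.Agent.H520.RC.Sp B := by
  intro t ht u v
  rw [← hQ, ← hQ]
  exact polar_map (E_le_O ht) u v

/-- `E Q` inside `G` -/
noncomputable def rhoE (h : Ev B N) {Q : QuadraticForm F V} (hQ : ∀ u v, polar Q u v = B u v) : ↥(E Q) →* G :=
  h.rho.comp (Subgroup.inclusion (E_le_Sp hQ))

theorem rhoE_apply (h : Ev B N) {Q : QuadraticForm F V} (hQ : ∀ u v, polar Q u v = B u v) (t : ↥(E Q)) (v : V) :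
    rhoE h hQ t • v = t.1 v := h.rho_apply _ v

theorem rhoE_injective (h : Ev B N) {Q : QuadraticForm F V} (hQ : ∀ u v, polar Q u v = B u v) :
    Function.Injective (rhoE h hQ) :=
  h.rho_injective.comp (Subgroup.inclusion_injective _)

theorem rhoE_lift (h : Ev B N) {Q : QuadraticForm F V} (hQ : ∀ u v, polar Q u v = B u v) {x : G} (hx : x ∈ QS G Q) :
    Lf (rhoE h hQ) x (toGam hx) := by
  intro t
  apply h.ext
  intro v
  rw [mul_smul, mul_smul, rhoE_apply, rhoE_apply, coe_conjE, conjLin_apply, toGam_apply, toGam_inv_apply]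

theorem nondeg_of (h : Ev B N) {Q : QuadraticForm F V} (hQ : ∀ u v, polar Q u v = B u v) : Nondeg Q := by
  intro u hu
  exact h.nd u fun v => by rw [← hQ]; exact hu v

/-- **M-rule with `Ω(Q)`.** -/
theorem dead_quad (h : Ev B N) {Ω : Type} [MulAction G Ω] [Nonempty Ω] (hE : Env G Ω N) {S : Type} [Group S] [Finite S]
    (hIH : IH (Nat.card S)) (eS : N ≃* S) {ι : Type} [Finite ι] {x : ι → G} {r : ι → ℕ} (hx : PF x r) (hcov : Cov Ω x)
    (hdim : 6 ≤ finrank F V) {Q : QuadraticForm F V} (hQ : ∀ u v, polar Q u v = B u v) (hO : ∀ i, x i ∈ QS G Q)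
    (hnot : ¬ (Nat.card F = 2 ∧ finrank F V = 6 ∧ ∃ U : Submodule F V, (∀ v ∈ U, Q v = 0) ∧ finrank F U = 3)) :
    False := by
  have hnd := nondeg_of h hQ
  have hG : Good Q := good_of_finite hnd (by omega)
  have hchar := charP_two h
  obtain ⟨b1, b2, b3, b4⟩ := box_id hG
  have b5 : ¬ Exc (P Q) := b4.resolve_left hnot
  set! ρ := rhoE h hQ with hρ
  have hinj : Function.Injective ρ := rhoE_injective h hQ
  let M : Subgroup G := ρ.range
  have hMN : M ≤ N := by
    rintro _ ⟨t, rfl⟩
    exact h.rho_mem _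
  have hMQ : ∀ m ∈ M, ∀ v : V, Q (m • v) = Q v := by
    rintro _ ⟨t, rfl⟩ v
    rw [rhoE_apply]
    exact E_le_O t.2 v
  -- `M` is proper
  have hne : M ≠ N := by
    intro heq
    obtain ⟨u, hu0, hu⟩ := hG.sing
    obtain ⟨w, hw⟩ := hnd.exists_polar_ne hu0
    have h1 : h.tr u 1 ∈ M := by rw [heq]; exact h.tr_mem u 1
    have h2 := hMQ _ h1 w
    rw [h.tr_apply, Q_add, QuadraticMap.map_smul, hu, smul_zero, add_zero, polar_smul_right, hQ, smul_eq_mul, one_mul,
      add_eq_left] at h2
    have h3 : B w u = 0 := by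
      rcases mul_eq_zero.1 h2 with h4 | h4 <;> exact h4
    exact hw (by rw [hQ, h.symm, h3])
  have hperf : ⁅M, M⁆ = M := by
    have h1 := commutator_E hG
    rw [commutator_def] at h1
    have h2 := congrArg (Subgroup.map ρ) h1
    rw [Subgroup.map_commutator, ← MonoidHom.range_eq_map] at h2
    exact h2
  let e : ↥(E Q) ≃* M := MonoidHom.ofInjective hinj
  let π : M →* P Q := (QuotientGroup.mk' (Subgroup.center ↥(E Q))).comp e.symm.toMonoidHom
  have hπ : Function.Surjective π := (QuotientGroup.mk'_surjective _).comp e.symm.surjective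
  have hker : π.ker ≤ Subgroup.center M := by
    intro m hm
    have h1 : e.symm m ∈ Subgroup.center ↥(E Q) := by
      have h2 : (QuotientGroup.mk' (Subgroup.center ↥(E Q))) (e.symm m) = 1 := hm
      rwa [QuotientGroup.mk'_apply, QuotientGroup.eq_one_iff] at h2
    rw [Subgroup.mem_center_iff] at h1 ⊢
    intro m'
    have h2 := h1 (e.symm m')
    rw [← map_mul, ← map_mul] at h2
    exact e.symm.injective h2
  have hnorm : ∀ i, x i ∈ Subgroup.normalizer (M : Set G) := by
    intro i
    have hl : ∀ y : G, y ∈ QS G Q → ∀ m ∈ M, y * m * y⁻¹ ∈ M := by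
      rintro y hy _ ⟨t, rfl⟩
      exact ⟨_, (rhoE_lift h hQ hy t).symm⟩
    rw [Subgroup.mem_normalizer_iff]
    intro m
    constructor
    · exact hl _ (hO i) m
    · intro hm
      have h1 := hl _ ((QS G Q).inv_mem (hO i)) _ hm
      have h2 : (x i)⁻¹ * (x i * m * (x i)⁻¹) * ((x i)⁻¹)⁻¹ = m := by group
      rwa [h2] at h1
  have hJ : ∀ j, ¬ ∀ m ∈ M, x j * m = m * x j := by
    intro j hj
    have h1 : conjE Q (toGam (hO j)) = 1 := by
      ext1 t
      apply hinj
      have h2 := rhoE_lift h hQ (hO j) t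
      rw [← hρ] at h2
      rw [← h2, hj _ ⟨t, rfl⟩, mul_inv_cancel_right]
      rfl
    obtain ⟨a, ha0, ha⟩ := exists_scalar_of_conjE hG _ h1
    have ha' : ∀ v : V, x j • v = a • v := ha
    apply hx.ne j
    apply h.ext
    intro v
    have hjN : x j ∈ N := (h.mem _).2 fun c w => by
      rw [ha', ha', smul_comm]
    obtain ⟨u, hu0, hu⟩ := hG.sing
    obtain ⟨w, hw⟩ := hnd.exists_polar_ne hu0
    have h2 := h.isom hjN u w
    rw [ha', ha', map_smul, map_smul, LinearMap.smul_apply, smul_eq_mul, smul_eq_mul, ← mul_assoc] at h2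
    rw [hQ] at hw
    have h3 : a * a = 1 := by
      have := mul_right_cancel₀ hw (h2.trans (one_mul _).symm)
      exact this
    have h4 : a = 1 := by
      have h5 : (a + 1) * (a + 1) = 0 := by
        linear_combination h3 + (a + 1) * h.two
      rcases mul_eq_zero.1 h5 with h6 | h6 <;>
      · have h7 : a = -1 := by linear_combination h6
        rw [h7, h.neg]
    rw [ha', h4, one_smul, one_smul]
  have hM : M ≠ ⊥ := by
    obtain ⟨t, ht, ht1⟩ := good_E_ne_bot hG
    intro hbot
    have h1 : ρ ⟨t, ht⟩ ∈ M := ⟨_, rfl⟩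
    rw [hbot, Subgroup.mem_bot] at h1
    have h2 : (⟨t, ht⟩ : ↥(E Q)) = 1 := hinj (by rw [h1, map_one])
    exact ht1 (congrArg Subtype.val h2)
  have hfV : Finite V := Module.finite_of_finite F
  have hfL : Finite (V ≃ₗ[F] V) := DFunLike.finite _
  have hfE : Finite ↥(E Q) := inferInstance
  have hfP : Finite (P Q) := inferInstance
  exact no_cent hE (mrule_IH hIH eS hMN hne hperf π hπ hker b1 b2 b3 b5 hx hcov hnorm) hJ hM

end mrule

end Cfsg.Agent.H555.RC
end

-- part: H555/RC/Six
section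
/-!
# S3510, symplectic groups in characteristic two: the reduction to `Sp₆(2)` (helper555)

* `card_zeros` : a quadratic form on `F₂⁶` with a totally singular subspace of dimension three has `36` zeros;
* `dead_even_red` : the whole row `dim ≥ 6` from the bad case of `Sp₆(2)`.
-/

set_option autoImplicit false
set_option linter.unusedSectionVars false

open Cfsg

namespace Cfsg.Agent.H555.RC

open Module QuadraticMap MulAction Cfsg.Agent.H385.RC Cfsg.Agent.H106.RC
open Cfsg.Agent.LieClassical.OrthCore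

section two

variable {F V G : Type} [Field F] [Finite F] [AddCommGroup V] [Module F V] [FiniteDimensional F V] [Group G] [Finite G]
  [DistribMulAction G V] {B : LinearMap.BilinForm F V} {N : Subgroup G}

theorem zero_or_one (hF : Nat.card F = 2) (a : F) : a = 0 ∨ a = 1 := by
  classical
  let _ := Fintype.ofFinite F
  by_contra hcon
  push Not at hcon
  have h1 : ({0, 1, a} : Finset F).card = 3 := by
    rw [Finset.card_insert_of_notMem, Finset.card_pair hcon.2.symm]
    simp only [hcon.1.symm, _root_.Finset.mem_insert, _root_.zero_ne_one, _root_.Finset.mem_singleton, _root_.or_self, _root_.not_false_eq_true]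
  have h2 := Finset.card_le_univ ({0, 1, a} : Finset F)
  rw [← Nat.card_eq_fintype_card, hF, h1] at h2
  omega

theorem sigma_two (hF : Nat.card F = 2) (σ : F ≃+* F) (a : F) : σ a = a := by
  rcases zero_or_one hF a with rfl | rfl
  · exact map_zero σ
  · exact map_one σ

/-- the sign of an element of `F₂` -/
noncomputable def sg (a : F) : ℤ := by
  classical exact if a = 0 then 1 else -1

theorem sg_zero : sg (0 : F) = 1 := by
  classical
  simp [sg]

theorem sg_one : sg (1 : F) = -1 := by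
  classical
  simp [sg]

theorem sg_add (h2 : (2 : F) = 0) (hF : Nat.card F = 2) (a b : F) : sg (a + b) = sg a * sg b := by
  rcases zero_or_one hF a with rfl | rfl <;> rcases zero_or_one hF b with rfl | rfl
  · simp [sg_zero]
  · simp [sg_zero]
  · simp [sg_zero]
  · have : (1 : F) + 1 = 0 := by rw [← h2]; norm_num
    rw [this, sg_zero, sg_one]; norm_num

/-- **The number of zeros of a quadratic form of plus type on `F₂⁶`.** -/
theorem card_zeros (h : Ev B N) (hF : Nat.card F = 2) (hdim : finrank F V = 6) {Q : QuadraticForm F V}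
    (hQ : ∀ u v, polar Q u v = B u v) {U : Submodule F V} (hU : ∀ v ∈ U, Q v = 0) (hU3 : finrank F U = 3) :
    Nat.card {v : V // Q v = 0} = 36 := by
  classical
  have hfV : Finite V := Module.finite_of_finite F
  let _ := Fintype.ofFinite V
  have hQadd : ∀ x y, Q (x + y) = Q x + Q y + B x y := fun x y => by rw [← hQ, polar]; ring
  have hcV : Fintype.card V = 64 := by
    rw [← Nat.card_eq_fintype_card, Module.natCard_eq_pow_finrank (K := F), hF, hdim]; norm_num
  have hcU : Fintype.card U = 8 := by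
    rw [← Nat.card_eq_fintype_card, Module.natCard_eq_pow_finrank (K := F), hF, hU3]; norm_num
  have hUB : ∀ u ∈ U, ∀ v ∈ U, B u v = 0 := by
    intro u hu v hv
    have := hQadd u v
    rw [hU _ (U.add_mem hu hv), hU u hu, hU v hv] at this
    linear_combination -this
  -- `U` is its own orthogonal
  have hle : U ≤ B.orthogonal U := fun u hu => h.mem_orth.2 fun v hv => hUB u hu v hv
  have heq : U = B.orthogonal U := by
    apply Submodule.eq_of_le_of_finrank_eq hle
    have := h.finrank_add U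
    omega
  -- inner sums
  have hin : ∀ v : V, ∑ u : U, sg (Q (v + u)) = if v ∈ U then 8 else 0 := by
    intro v
    split_ifs with hv
    · have : ∀ u : U, sg (Q (v + u)) = 1 := fun u => by rw [hU _ (U.add_mem hv u.2), sg_zero]
      rw [Finset.sum_congr rfl fun u _ => this u, Finset.sum_const, Finset.card_univ, hcU]
      norm_num
    · obtain ⟨u0, hu0, hne⟩ : ∃ u0 ∈ U, B v u0 ≠ 0 := by
        by_contra hcon
        push Not at hcon
        apply hv
        rw [heq]
        exact h.mem_orth.2 hcon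
      have h1 : B v u0 = 1 := (zero_or_one hF _).resolve_left hne
      have h2 : ∑ u : U, sg (Q (v + u)) = ∑ u : U, sg (Q (v + ((u + ⟨u0, hu0⟩ : U) : V))) :=
        (Equiv.sum_comp (Equiv.addRight (⟨u0, hu0⟩ : U)) (fun u : U => sg (Q (v + (u : V))))).symm
      have h3 : ∀ u : U, sg (Q (v + ((u + ⟨u0, hu0⟩ : U) : V))) = - sg (Q (v + u)) := by
        intro u
        have h4 : Q (v + ((u + ⟨u0, hu0⟩ : U) : V)) = Q (v + u) + 1 := by
          have h5 : v + ((u + ⟨u0, hu0⟩ : U) : V) = (v + u) + u0 := by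
            rw [Submodule.coe_add, add_assoc]
          rw [h5, hQadd (v + u) u0, hU u0 hu0, B.map_add, LinearMap.add_apply, h1, hUB u u.2 u0 hu0]
          ring
        rw [h4, sg_add h.two hF, sg_one]
        ring
      have h6 : ∑ u : U, sg (Q (v + u)) = - ∑ u : U, sg (Q (v + u)) := by
        conv_lhs => rw [h2]
        rw [← Finset.sum_neg_distrib]
        exact Finset.sum_congr rfl fun u _ => h3 u
      omega
  have htot : ∑ v : V, ∑ u : U, sg (Q (v + u)) = 64 := by
    rw [Finset.sum_congr rfl fun v _ => hin v, Finset.sum_ite, Finset.sum_const_zero, add_zero, Finset.sum_const]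
    have : (Finset.univ.filter fun v : V => v ∈ U).card = 8 := by
      rw [← hcU, Fintype.card_subtype]
    rw [this]; norm_num
  have htot2 : ∑ v : V, ∑ u : U, sg (Q (v + u)) = 8 * ∑ v : V, sg (Q v) := by
    rw [Finset.sum_comm]
    have : ∀ u : U, ∑ v : V, sg (Q (v + u)) = ∑ v : V, sg (Q v) := fun u =>
      Equiv.sum_comp (Equiv.addRight (u : V)) fun v => sg (Q v)
    rw [Finset.sum_congr rfl fun u _ => this u, Finset.sum_const, Finset.card_univ, hcU]
    simp
  have hs : ∑ v : V, sg (Q v) = 8 := by omega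
  have hz : ∑ v : V, sg (Q v) = ((Finset.univ.filter fun v : V => Q v = 0).card : ℤ) -
      (Finset.univ.filter fun v : V => ¬ Q v = 0).card := by
    have : ∀ v : V, sg (Q v) = if Q v = 0 then 1 else -1 := fun v => by
      split_ifs with h1
      · rw [h1, sg_zero]
      · rw [(zero_or_one hF _).resolve_left h1, sg_one]
    rw [Finset.sum_congr rfl fun v _ => this v, Finset.sum_ite, Finset.sum_const, Finset.sum_const]
    simp only [_root_.Int.nsmul_eq_mul, _root_.mul_one, _root_.Int.reduceNeg, _root_.mul_neg]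
    ring
  have hc := Finset.card_filter_add_card_filter_not (s := (Finset.univ : Finset V)) (fun v => Q v = 0)
  rw [Finset.card_univ, hcV] at hc
  rw [Nat.card_eq_fintype_card, Fintype.card_subtype]
  omega

/-- adding a nonsingular vector changes the type -/
theorem not_plus_qadd (h : Ev B N) (hF : Nat.card F = 2) (hdim : finrank F V = 6) {Q : QuadraticForm F V}
    (hQ : ∀ u v, polar Q u v = B u v) (hplus : ∃ U : Submodule F V, (∀ v ∈ U, Q v = 0) ∧ finrank F U = 3) {d : V}
    (hd : Q d ≠ 0) : ¬ ∃ U : Submodule F V, (∀ v ∈ U, qadd B Q d v = 0) ∧ finrank F U = 3 := by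
  classical
  rintro ⟨U', hU', hU3'⟩
  obtain ⟨U, hU, hU3⟩ := hplus
  have hfV : Finite V := Module.finite_of_finite F
  let _ := Fintype.ofFinite V
  have h1 := card_zeros h hF hdim hQ hU hU3
  have h2 := card_zeros h hF hdim (polar_qadd h hQ d) hU' hU3'
  have hd1 : Q d = 1 := (zero_or_one hF _).resolve_left hd
  have hQadd : ∀ x y, Q (x + y) = Q x + Q y + B x y := fun x y => by rw [← hQ, polar]; ring
  have hcV : Fintype.card V = 64 := by
    rw [← Nat.card_eq_fintype_card, Module.natCard_eq_pow_finrank (K := F), hF, hdim]; norm_num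
  have h11 : (1 : F) + 1 = 0 := by
    have := h.two
    rw [← this]; norm_num
  have key : ∀ v, qadd B Q d v = Q (v + d) + 1 := by
    intro v
    rw [qadd_apply, hQadd, hd1, h.symm v d]
    have h3 : B d v * B d v = B d v := by
      rcases zero_or_one hF (B d v) with h4 | h4 <;> rw [h4] <;> ring
    rw [h3]
    linear_combination -h11
  have h3 : Nat.card {v : V // qadd B Q d v = 0} = Nat.card {v : V // ¬ Q v = 0} := by
    refine Nat.card_congr ((Equiv.addRight d).subtypeEquiv fun v => ?_)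
    change qadd B Q d v = 0 ↔ ¬ Q (v + d) = 0
    rw [key]
    rcases zero_or_one hF (Q (v + d)) with h4 | h4 <;> rw [h4]
    · simp
    · simp [h11]
  rw [h3] at h2
  have hc := Finset.card_filter_add_card_filter_not (s := (Finset.univ : Finset V)) (fun v => Q v = 0)
  rw [Finset.card_univ, hcV] at hc
  rw [Nat.card_eq_fintype_card, Fintype.card_subtype] at h1 h2
  omega

/-- **Reduction of the row `dim ≥ 6`, characteristic two, to the bad case of `Sp₆(2)`.** -/
theorem dead_even_red (h : Ev B N) {Ω : Type} [MulAction G Ω] [Nonempty Ω] (hE : Env G Ω N) {S : Type} [Group S] [Finite S]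
    (hIH : IH (Nat.card S)) (eS : N ≃* S) {ι : Type} [Finite ι] {x : ι → G} {r : ι → ℕ} (hx : PF x r) (hcov : Cov Ω x)
    (hdim : 6 ≤ finrank F V)
    (hsix : Nat.card F = 2 → finrank F V = 6 → ∀ Q : QuadraticForm F V, (∀ u v, polar Q u v = B u v) →
      (∃ U : Submodule F V, (∀ v ∈ U, Q v = 0) ∧ finrank F U = 3) → (∀ i v, Q (x i • v) = Q v) →
      (∀ v, (∀ i, x i • v = v) → Q v = 0) → False) : False := by
  obtain ⟨g, -, hg⟩ := exists_gen x r hx.prime hx.inj hx.pow hx.comm
  obtain ⟨σ, h1, h2⟩ := h.semi g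
  obtain ⟨Q, hQ, hgQ⟩ := exists_quad h g h1 h2
  have hgQS : g ∈ QS G Q := ⟨σ, h1, hgQ⟩
  have hO : ∀ i, x i ∈ QS G Q := fun i => (Subgroup.zpowers_le.2 hgQS) (hg i)
  by_cases hbad : Nat.card F = 2 ∧ finrank F V = 6 ∧ ∃ U : Submodule F V, (∀ v ∈ U, Q v = 0) ∧ finrank F U = 3
  · obtain ⟨hF, hd6, hplus⟩ := hbad
    have hlin : ∀ i v, Q (x i • v) = Q v := by
      intro i v
      obtain ⟨τ, -, h4⟩ := hO i
      rw [h4, sigma_two hF]
    refine hsix hF hd6 Q hQ hplus hlin fun v hv => ?_
    by_contra hne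
    have hO' : ∀ i, x i ∈ QS G (qadd B Q v) := by
      intro i
      obtain ⟨τ, h3, h4⟩ := h.semi (x i)
      refine ⟨τ, h3, fun w => ?_⟩
      exact qadd_smul h4 (fun w => by rw [hlin, sigma_two hF]) (hv i) w
    exact dead_quad h hE hIH eS hx hcov hdim (polar_qadd h hQ v) hO' fun hb =>
      not_plus_qadd h hF hd6 hQ hplus hne hb.2.2
  · exact dead_quad h hE hIH eS hx hcov hdim hQ hO hbad

end two

end Cfsg.Agent.H555.RC
end

-- part: H957/RC/Fifteen
section
/-!
# S3510, symplectic groups in characteristic two, the bad case of `Sp₆(2)` (helper957)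

`kill_fifteen` : no cover `{x, y}`, `x ^ 5 = 1`, `y ^ 3 = 1`, with `|C_V(y)| = 16`, `C_V(y) ∩ C_V(x) = 0`.
-/

set_option autoImplicit false
set_option linter.unusedVariables false
set_option linter.unusedSectionVars false
set_option linter.unusedSimpArgs false

namespace Cfsg.Agent.H957.RC

open Cfsg Cfsg.Agent.H106.RC Cfsg.Agent.H380.RC Cfsg.Agent.H385.RC Module Submodule MulAction

section

variable {F V G : Type*} [Field F] [AddCommGroup V] [Module F V] [Group G] [DistribMulAction G V]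
  {B : LinearMap.BilinForm F V} {N : Subgroup G}

theorem two_cases [Finite F] (hF : Nat.card F = 2) (a : F) : a = 0 ∨ a = 1 := by
  classical
  let _ := Fintype.ofFinite F
  by_contra hcon
  push Not at hcon
  have h1 : ({0, 1, a} : Finset F).card = 3 := by
    rw [Finset.card_insert_of_notMem, Finset.card_pair hcon.2.symm]
    simp only [hcon.1.symm, _root_.Finset.mem_insert, _root_.zero_ne_one, _root_.Finset.mem_singleton, _root_.or_self, _root_.not_false_eq_true]
  have h2 := Finset.card_le_univ ({0, 1, a} : Finset F)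
  rw [← Nat.card_eq_fintype_card, hF, h1] at h2
  omega

/-- over `F₂` everything is linear -/
theorem mem_of_two [Finite F] (hF : Nat.card F = 2) (h : Ev B N) (g : G) : g ∈ N := by
  obtain ⟨σ, h1, -⟩ := h.semi g
  refine (h.mem g).2 fun a v => ?_
  rw [h1]
  rcases two_cases hF a with rfl | rfl
  · rw [map_zero]
  · rw [map_one]

/-- conjugate of a transvection by a linear element -/
theorem conj_tr_lin (h : Ev B N) {g : G} (hg : g ∈ N) (e : V) (c : F) : g * h.tr e c * g⁻¹ = h.tr (g • e) c :=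
  h.conj_tr (σ := RingEquiv.refl F) (fun a v => h.lin hg a v) (fun u v => h.isom hg u v) e c

theorem tr_comm (h : Ev B N) {v z : V} (hvz : B v z = 0) (c d : F) : h.tr v c * h.tr z d = h.tr z d * h.tr v c := by
  have h1 := conj_tr_lin h (h.tr_mem v c) z d
  have h2 : h.tr v c • z = z := by
    rw [h.tr_apply, h.symm z v, hvz, mul_zero, zero_smul, add_zero]
  rw [h2] at h1
  exact mul_inv_eq_iff_eq_mul.1 h1

/-- the element `t_v t_v'` of order three, `B v v' = 1` -/
theorem tt_apply (h : Ev B N) {v v' : V} (hv : B v v' = 1) (u : V) :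
    (h.tr v 1 * h.tr v' 1) • u = u + B u v' • v' + (B u v + B u v') • v := by
  have hv' : B v' v = 1 := by rw [h.symm, hv]
  rw [mul_smul, h.tr_apply v' 1 u, h.tr_apply, one_mul, one_mul, map_add, map_smul, LinearMap.add_apply,
    LinearMap.smul_apply, hv', smul_eq_mul, mul_one]

theorem tt_cube (h : Ev B N) {v v' : V} (hv : B v v' = 1) : (h.tr v 1 * h.tr v' 1) ^ 3 = 1 := by
  have hv' : B v' v = 1 := by rw [h.symm, hv]
  apply h.ext
  intro u
  rw [pow_succ, pow_two, mul_smul, mul_smul, one_smul, tt_apply h hv u, tt_apply h hv, tt_apply h hv]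
  simp only [map_add, map_smul, LinearMap.add_apply, LinearMap.smul_apply, h.self, hv, hv', smul_eq_mul, mul_one,
    mul_zero, add_zero]
  have h2 := h.two
  linear_combination (norm := module) h2 • ((2 * B u v + 4 * B u v') • v' + (4 * B u v + 6 * B u v') • v)

/-- `y1 y2`, two commuting elements of order three -/
theorem tttt_cube (h : Ev B N) {v v' z z' : V} (hv : B v v' = 1) (hz : B z z' = 1) (h1 : B v z = 0) (h2 : B v z' = 0)
    (h3 : B v' z = 0) (h4 : B v' z' = 0) : ((h.tr v 1 * h.tr v' 1) * (h.tr z 1 * h.tr z' 1)) ^ 3 = 1 := by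
  have hc : Commute (h.tr v 1 * h.tr v' 1) (h.tr z 1 * h.tr z' 1) := by
    refine Commute.mul_left (Commute.mul_right ?_ ?_) (Commute.mul_right ?_ ?_)
    · exact tr_comm h h1 1 1
    · exact tr_comm h h2 1 1
    · exact tr_comm h h3 1 1
    · exact tr_comm h h4 1 1
  rw [hc.mul_pow, tt_cube h hv, tt_cube h hz, one_mul]

/-- the fixed space of an element of order three is nondegenerate -/
theorem nd_fix (h : Ev B N) {y : G} (hyN : y ∈ N) (hy : y ^ 3 = 1) {w : V} (hw : y • w = w)
    (hw0 : ∀ u : V, y • u = u → B w u = 0) : w = 0 := by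
  apply h.nd
  intro v
  have h3 : y • y • y • v = v := by
    rw [← mul_smul, ← mul_smul, show y * y * y = y ^ 3 by rw [pow_succ, pow_two], hy, one_smul]
  have h4 := hw0 (v + y • v + y • y • v) (by
    rw [smul_add, smul_add, h3]; abel)
  have h5 : B w (y • v) = B w v := by
    have := h.isom hyN w v
    rwa [hw] at this
  have h6 : B w (y • y • v) = B w v := by
    have := h.isom hyN w (y • v)
    rw [hw, h5] at this
    exact this
  rw [map_add, map_add, h5, h6] at h4
  have h2 := h.two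
  linear_combination h4 - B w v * h2

/-- a vector `v` fixed by `y` with `B v (x v) ≠ 0` -/
theorem exists_v (h : Ev B N) {x y : G} (hxN : x ∈ N) (hyN : y ∈ N) (hc : x * y = y * x) (hx : x ^ 5 = 1) (hy : y ^ 3 = 1)
    (hfix : ∀ v : V, y • v = v → x • v = v → v = 0) (hne : ∃ v : V, y • v = v ∧ v ≠ 0) :
    ∃ v : V, y • v = v ∧ B v (x • v) ≠ 0 := by
  by_contra hcon
  push Not at hcon
  obtain ⟨v, hv, hv0⟩ := hne
  apply hv0
  have hst : ∀ u : V, y • u = u → y • x • u = x • u := by
    intro u hu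
    rw [← mul_smul, ← hc, mul_smul, hu]
  have hpol : ∀ u w : V, y • u = u → y • w = w → B u (x • w) = B (x • u) w := by
    intro u w hu hw
    have h1 := hcon (u + w) (by rw [smul_add, hu, hw])
    have h2 := hcon u hu
    have h3 := hcon w hw
    rw [smul_add, map_add (B (u + w)), map_add B, LinearMap.add_apply, LinearMap.add_apply, h2, h3] at h1
    rw [h.symm (x • u) w]
    have h4 := h.two
    linear_combination h1 - B w (x • u) * h4
  have hxx : x • x • v = v := by
    have h1 := nd_fix h hyN hy (w := x • x • v - v) (by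
      rw [smul_sub, hst _ (hst v hv), hv]) (fun u hu => by
      rw [map_sub, LinearMap.sub_apply, h.symm (x • x • v) u, hpol u (x • v) hu (hst v hv), h.isom hxN u v,
        h.symm u v, sub_self])
    rwa [sub_eq_zero] at h1
  refine hfix v hv ?_
  have h1 : x ^ 5 • v = x • v := by
    rw [show x ^ 5 = x * x * x * x * x by simp only [pow_succ, pow_zero, one_mul], mul_smul, mul_smul, mul_smul, mul_smul, hxx, hxx]
  rw [← h1, hx, one_smul]

end

section

variable {F V G : Type*} [Field F] [Finite F] [AddCommGroup V] [Module F V] [Group G] [DistribMulAction G V]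
  {B : LinearMap.BilinForm F V} {N : Subgroup G}

/-- a second hyperbolic pair in the fixed space -/
theorem exists_zz (h : Ev B N) (hF : Nat.card F = 2) {y : G} (hyN : y ∈ N) (hy : y ^ 3 = 1)
    (hcard : Nat.card {v : V // y • v = v} = 16) {v v' : V} (hv : y • v = v) (hv' : y • v' = v') (hvv : B v v' = 1) :
    ∃ z z' : V, y • z = z ∧ y • z' = z' ∧ B z z' = 1 ∧ B v z = 0 ∧ B v z' = 0 ∧ B v' z = 0 ∧ B v' z' = 0 := by
  have hvv' : B v' v = 1 := by rw [h.symm, hvv]
  have h2 := h.two
  have hpr : ∀ w : V, y • w = w → y • (w + B w v' • v + B w v • v') = w + B w v' • v + B w v • v' := by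
    intro w hw
    rw [smul_add, smul_add, h.lin hyN, h.lin hyN, hw, hv, hv']
  have hpv : ∀ w : V, B v (w + B w v' • v + B w v • v') = 0 := by
    intro w
    rw [map_add, map_add, map_smul, map_smul, h.self, hvv, smul_eq_mul, smul_eq_mul, h.symm w v]
    linear_combination B v w * h2
  have hpv' : ∀ w : V, B v' (w + B w v' • v + B w v • v') = 0 := by
    intro w
    rw [map_add, map_add, map_smul, map_smul, h.self, hvv', smul_eq_mul, smul_eq_mul, h.symm w v']
    linear_combination B v' w * h2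
  obtain ⟨w0, hw0, hw1⟩ : ∃ w : V, y • w = w ∧ ∀ a b : F, w ≠ a • v + b • v' := by
    by_contra hcon
    push Not at hcon
    choose f g hfg using fun w : {v : V // y • v = v} => hcon w.1 w.2
    have hinj : Function.Injective (fun w : {v : V // y • v = v} => (f w, g w)) := by
      intro a b hab
      simp only [Prod.mk.injEq] at hab
      apply Subtype.ext
      rw [hfg a, hfg b, hab.1, hab.2]
    have h1 := Nat.card_le_card_of_injective _ hinj
    rw [hcard, Nat.card_prod, hF] at h1
    omega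
  obtain ⟨z, hz⟩ : ∃ z, z = w0 + B w0 v' • v + B w0 v • v' := ⟨_, rfl⟩
  have hyz : y • z = z := by rw [hz]; exact hpr w0 hw0
  have hvz : B v z = 0 := by rw [hz]; exact hpv w0
  have hvz' : B v' z = 0 := by rw [hz]; exact hpv' w0
  have hz0 : z ≠ 0 := by
    intro h0
    apply hw1 (B w0 v') (B w0 v)
    rw [hz] at h0
    have h3 : w0 + (B w0 v' • v + B w0 v • v') = 0 := by rw [← h0]; abel
    rw [add_eq_zero_iff_eq_neg, h.vneg] at h3
    exact h3
  obtain ⟨u, hu, hzu⟩ : ∃ u : V, y • u = u ∧ B z u ≠ 0 := by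
    by_contra hcon
    push Not at hcon
    exact hz0 (nd_fix h hyN hy hyz hcon)
  refine ⟨z, u + B u v' • v + B u v • v', hyz, hpr u hu, ?_, hvz, hpv u, hvz', hpv' u⟩
  rw [map_add, map_add, map_smul, map_smul, h.symm z v, h.symm z v', hvz, hvz', smul_zero, smul_zero, add_zero, add_zero]
  exact (two_cases hF _).resolve_left hzu

end

section main

variable {F V G Ω : Type*} [Field F] [Finite F] [AddCommGroup V] [Module F V] [FiniteDimensional F V] [Group G]
  [Finite G] [DistribMulAction G V] {B : LinearMap.BilinForm F V} {N : Subgroup G} [MulAction G Ω] [Nonempty Ω]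

/-- **The bad case of `Sp₆(2)`.** -/
theorem kill_fifteen (h : Ev B N) (hE : Env G Ω N) (hF : Nat.card F = 2) (hdim : finrank F V = 6) {x y : G}
    (hc : x * y = y * x) (hx : x ^ 5 = 1) (hy : y ^ 3 = 1) (hy1 : y ≠ 1)
    (hfix : ∀ v : V, y • v = v → x • v = v → v = 0) (hcard : Nat.card {v : V // y • v = v} = 16)
    (hcov : ∀ w : Ω, x • w = w ∨ y • w = w) : False := by
  have hN : ∀ g : G, g ∈ N := mem_of_two hF h
  have hfin : Finite {v : V // y • v = v} := Nat.finite_of_card_ne_zero (by rw [hcard]; norm_num)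
  have hne : ∃ v : V, y • v = v ∧ v ≠ 0 := by
    by_contra hcon
    push Not at hcon
    have h1 : Subsingleton {v : V // y • v = v} := ⟨fun a b => Subtype.ext (by rw [hcon a.1 a.2, hcon b.1 b.2])⟩
    have h2 := (Nat.card_of_subsingleton (⟨0, smul_zero _⟩ : {v : V // y • v = v}))
    rw [hcard] at h2
    omega
  obtain ⟨v, hv, hvx⟩ := exists_v h (hN x) (hN y) hc hx hy hfix hne
  obtain ⟨v', hv'⟩ : ∃ v', v' = x • v := ⟨_, rfl⟩
  have hyv' : y • v' = v' := by rw [hv', ← mul_smul, ← hc, mul_smul, hv]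
  have hvv : B v v' = 1 := by rw [hv']; exact (two_cases hF _).resolve_left hvx
  have hvv' : B v' v = 1 := by rw [h.symm, hvv]
  obtain ⟨z, z', hz, hz', hzz, h1, h2, h3, h4⟩ := exists_zz h hF (hN y) hy hcard hv hyv' hvv
  have hzz' : B z' z = 1 := by rw [h.symm, hzz]
  have h1' : B z v = 0 := by rw [h.symm, h1]
  have h2' : B z' v = 0 := by rw [h.symm, h2]
  have h3' : B z v' = 0 := by rw [h.symm, h3]
  have h4' : B z' v' = 0 := by rw [h.symm, h4]
  have two := h.two
  have hef : B (v + z) (v' + z') = 0 := by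
    rw [map_add (B (v + z)), map_add B, LinearMap.add_apply, LinearMap.add_apply, hvv, h3', h2, hzz]
    linear_combination two
  have hli : ∀ a b : F, a • (v + z) + b • (v' + z') = 0 → a = 0 ∧ b = 0 := by
    intro a b hab
    have h5 := congrArg (fun u => B u v') hab
    have h6 := congrArg (fun u => B u v) hab
    simp only [map_add, map_smul, LinearMap.add_apply, LinearMap.smul_apply, hvv, hvv', h.self, h3', h4', h1', h2',
      smul_eq_mul, mul_one, mul_zero, add_zero, zero_add, LinearMap.zero_apply, map_zero] at h5 h6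
    exact ⟨h5, h6⟩
  -- the points not fixed by `y`
  have hbad : ∀ {c : G}, c * y = y * c → ∀ w : Ω, y • w ≠ w → y • c⁻¹ • w ≠ c⁻¹ • w := by
    intro c hcy w hw h5
    apply hw
    have h6 : y • w = c • y • c⁻¹ • w := by rw [← mul_smul, ← mul_smul, hcy, mul_assoc, mul_inv_cancel, mul_one]
    rw [h6, h5, smul_inv_smul]
  have hFBx : ∀ w : Ω, y • w ≠ w → x • w = w := fun w hw => (hcov w).resolve_right hw
  have hconj : ∀ {g c : G}, c * y = y * c → (∀ w : Ω, y • w ≠ w → g • w = w) →
      ∀ w : Ω, y • w ≠ w → (c * g * c⁻¹) • w = w := by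
    intro g c hcy hg w hw
    rw [mul_smul, mul_smul, hg _ (hbad hcy w hw), smul_inv_smul]
  have htr : ∀ {a : V}, y • a = a → h.tr a 1 * y = y * h.tr a 1 := by
    intro a ha
    have h5 := conj_tr_lin h (hN y) a 1
    rw [ha, mul_inv_eq_iff_eq_mul] at h5
    exact h5.symm
  have hFB1 : ∀ w : Ω, y • w ≠ w → (h.tr v 1 * h.tr v' 1) • w = w := by
    intro w hw
    have h5 := hconj (htr hv) hFBx w hw
    have h6 : h.tr v 1 * x * (h.tr v 1)⁻¹ = (h.tr v 1 * h.tr v' 1) * x := by
      have h7 := conj_tr_lin h (hN x) v 1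
      rw [← hv'] at h7
      rw [← h7, h.tr_inv]
      group
    rw [h6, mul_smul, hFBx w hw] at h5
    exact h5
  have hcs : h.sr hef * y = y * h.sr hef := by
    have h5 := h.conj_sr y hef
    have h6 : h.sr (h.form_zero y hef) = h.sr hef := by
      apply h.ext
      intro u
      rw [h.sr_apply, h.sr_apply, smul_add, smul_add, hv, hz, hyv', hz']
    rw [h6, mul_inv_eq_iff_eq_mul] at h5
    exact h5.symm
  have hsv : h.sr hef • v = z := by
    rw [h.sr_apply, map_add, map_add, h.self, h1, hvv, h2, add_zero, add_zero, zero_smul, one_smul, add_zero]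
    linear_combination (norm := module) two • v
  have hsv' : h.sr hef • v' = z' := by
    rw [h.sr_apply, map_add, map_add, h.self, h3, hvv', h4, add_zero, add_zero, zero_smul, one_smul, add_zero]
    linear_combination (norm := module) two • v'
  have hFB2 : ∀ w : Ω, y • w ≠ w → (h.tr z 1 * h.tr z' 1) • w = w := by
    intro w hw
    have h5 := hconj hcs hFB1 w hw
    have h6 : h.sr hef * (h.tr v 1 * h.tr v' 1) * (h.sr hef)⁻¹ = h.tr z 1 * h.tr z' 1 := by
      have h7 := conj_tr_lin h (h.sr_mem hef) v 1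
      have h8 := conj_tr_lin h (h.sr_mem hef) v' 1
      rw [hsv] at h7
      rw [hsv'] at h8
      rw [← h7, ← h8]
      group
    rw [h6] at h5
    exact h5
  obtain ⟨Y, hY⟩ : ∃ Y, Y = (h.tr v 1 * h.tr v' 1) * (h.tr z 1 * h.tr z' 1) := ⟨_, rfl⟩
  have hFBY : ∀ w : Ω, y • w ≠ w → Y • w = w := by
    intro w hw
    rw [hY, mul_smul, hFB2 w hw, hFB1 w hw]
  have hY3 : Y ^ 3 = 1 := by rw [hY]; exact tttt_cube h hvv hzz h1 h2 h3 h4
  have hYy : Y * y = y * Y := by
    have h5 : Commute ((h.tr v 1 * h.tr v' 1) * (h.tr z 1 * h.tr z' 1)) y := by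
      refine Commute.mul_left (Commute.mul_left ?_ ?_) (Commute.mul_left ?_ ?_)
      · exact htr hv
      · exact htr hyv'
      · exact htr hz
      · exact htr hz'
    rw [hY]; exact h5
  have hYe : Y • (v + z) = v' + z' := by
    rw [hY, mul_smul, tt_apply h hzz, tt_apply h hvv]
    simp only [map_add, map_smul, LinearMap.add_apply, LinearMap.smul_apply, h.self, hvv, hvv', hzz, hzz', h1, h2, h3, h4,
      h1', h2', h3', h4', smul_zero, add_zero, zero_add, zero_smul, one_smul, smul_eq_mul, mul_one, mul_zero]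
    linear_combination (norm := module) two • (v + z)
  have hYf : Y • (v' + z') = (v + z) + (v' + z') := by
    rw [hY, mul_smul, tt_apply h hzz, tt_apply h hvv]
    simp only [map_add, map_smul, LinearMap.add_apply, LinearMap.smul_apply, h.self, hvv, hvv', hzz, hzz', h1, h2, h3, h4,
      h1', h2', h3', h4', smul_zero, add_zero, zero_add, zero_smul, one_smul, smul_eq_mul, mul_one, mul_zero]
    module
  have hYE : ∀ u ∈ span F {v + z, v' + z'}, Y • u ∈ span F ({v + z, v' + z'} : Set V) := by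
    intro u hu
    obtain ⟨a, b, rfl⟩ := mem_span_pair.1 hu
    rw [smul_add, h.lin (hN Y), h.lin (hN Y), hYe, hYf]
    have he : v + z ∈ span F ({v + z, v' + z'} : Set V) := Submodule.subset_span (by simp only [_root_.Set.mem_insert_iff, _root_.Set.mem_singleton_iff, _root_.true_or])
    have hf : v' + z' ∈ span F ({v + z, v' + z'} : Set V) := Submodule.subset_span (by simp only [_root_.Set.mem_insert_iff, _root_.Set.mem_singleton_iff, _root_.or_true])
    exact Submodule.add_mem _ (Submodule.smul_mem _ _ hf) (Submodule.smul_mem _ _ (Submodule.add_mem _ he hf))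
  have hYq : Y ∉ h.QE (v + z) (v' + z') := by
    intro h5
    have h6 := h5.2.1
    rw [hYe] at h6
    have h7 := (hli 1 1 (by
      rw [one_smul, one_smul, h6]
      exact h.vadd_self _)).1
    exact one_ne_zero h7
  have hye : y • (v + z) = v + z := by rw [smul_add, hv, hz]
  have hyf : y • (v' + z') = v' + z' := by rw [smul_add, hyv', hz']
  have hyE : ∀ u ∈ span F {v + z, v' + z'}, y • u ∈ span F ({v + z, v' + z'} : Set V) := by
    intro u hu
    rw [h.fix_span (hN y) hye hyf hu]
    exact hu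
  have h2p : Fact (Nat.Prime 2) := ⟨Nat.prime_two⟩
  obtain ⟨n, hn⟩ := IsPGroup.iff_card.1 (h.QE_isPGroup hef)
  have hcop : (3 : ℕ).Coprime (Nat.card (h.QE (v + z) (v' + z'))) := by
    rw [hn]
    exact Nat.Coprime.pow_right _ (by norm_num)
  have hyq : y ∉ h.QE (v + z) (v' + z') := by
    intro h5
    have h6 := h.QE_pow hef h5
    apply hy1
    have h7 : y ^ 4 = y ^ 3 * y := pow_succ y 3
    rw [h6, hy, one_mul] at h7
    exact h7.symm
  refine h.lrs_one hE hef hli hdim.ge hyE hyq fun w => ?_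
  by_cases hw : y • w = w
  · exact Or.inr hw
  left
  have h5 := cover_loc (x := fun i : Bool => if i then Y else y) (r := fun _ => 3) (fun _ => Nat.prime_three)
    (by
      intro i
      cases i
      · exact hy
      · exact hY3)
    (by
      intro i j
      cases i <;> cases j
      · rfl
      · exact hYy.symm
      · exact hYy
      · rfl) (U := h.QE (v + z) (v' + z')) (ω := w)
    (by
      intro u _
      by_cases hw2 : y • u • w = u • w
      · exact ⟨false, hw2⟩
      · exact ⟨true, hFBY _ hw2⟩)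
    (by
      intro i u hu
      cases i
      · exact h.QE_norm hyE (hN _) hu
      · exact h.QE_norm hYE (hN _) hu)
    (Or.inr ⟨(h.QE_isPGroup hef).isNilpotent, fun _ => hcop⟩)
  obtain ⟨i, hi⟩ := h5
  cases i
  · exfalso
    apply hw
    have := hi 1 (Subgroup.one_mem _)
    rw [one_smul] at this
    exact this
  · exact comm_le hi (h.sr_mem_cmm hef hli hdim.ge hYE hYq)

end main

end Cfsg.Agent.H957.RC
end

-- part: H76/RC/Fifteen
section
/-!
# S3510, symplectic groups in characteristic two: `Sp₆(2)`, quadratic forms of plus type (helper76)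

`fifteen_of_plus` : commuting isometries of pairwise different prime orders (at least two of them) of a quadratic form of
plus type in dimension 6 over the field with two elements, such that every common fixed vector is singular, are two
elements of orders 3 and 5 with known fixed spaces.
-/

set_option autoImplicit false
set_option linter.unusedSimpArgs false
set_option linter.unusedVariables false
set_option linter.unusedSectionVars false

namespace Cfsg.Agent.H76.RC

open Cfsg Cfsg.Agent.H106.RC Cfsg.Agent.H385.RC Cfsg.Agent.H520.RC Module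
open QuadraticMap (polar)

section eps

variable {F : Type*} [Field F]

open Classical in
/-- the sign of an element of the field with two elements -/
noncomputable def eps (a : F) : ℤ := if a = 0 then 1 else -1

theorem eps_zero : eps (0 : F) = 1 := if_pos rfl

theorem eps_ne {a : F} (h : a ≠ 0) : eps a = -1 := if_neg h

theorem zero_or_one [Finite F] (hF : Nat.card F = 2) (a : F) : a = 0 ∨ a = 1 := by
  classical
  by_contra h
  push Not at h
  have : Fintype F := Fintype.ofFinite F
  have h1 : ({0, 1, a} : Finset F).card ≤ Fintype.card F := Finset.card_le_univ _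
  rw [← Nat.card_eq_fintype_card, hF, Finset.card_insert_of_notMem, Finset.card_insert_of_notMem,
    Finset.card_singleton] at h1
  · omega
  · rw [Finset.mem_singleton]; exact h.2.symm
  · rw [Finset.mem_insert, Finset.mem_singleton]
    rintro (h2 | h2)
    · exact zero_ne_one h2
    · exact h.1 h2.symm

theorem eps_add [Finite F] (hF : Nat.card F = 2) (h2 : (2 : F) = 0) (a b : F) : eps (a + b) = eps a * eps b := by
  have h3 : (1 : F) + 1 = 0 := by rw [one_add_one_eq_two, h2]
  rcases zero_or_one hF a with rfl | rfl <;> rcases zero_or_one hF b with rfl | rfl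
  · rw [add_zero, eps_zero]; norm_num
  · rw [zero_add, eps_zero, one_mul]
  · rw [add_zero, eps_zero, mul_one]
  · rw [h3, eps_zero, eps_ne one_ne_zero]; norm_num

end eps

section count

variable {F V G : Type*} [Field F] [Finite F] [AddCommGroup V] [Module F V] [FiniteDimensional F V] [Group G]
  [DistribMulAction G V] {B : LinearMap.BilinForm F V} {N : Subgroup G}

/-- counting fixed points of an element of prime order -/
theorem card_mod {V G : Type*} [Finite V] [Group G] [MulAction G V] {x : G} {r : ℕ} (hr : r.Prime) (hx : x ^ r = 1)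
    (P : V → Prop) (hP : ∀ v, P v → P (x • v)) :
    Nat.card {v : V // P v} ≡ Nat.card {v : V // P v ∧ x • v = v} [MOD r] := by
  classical
  have : Fact r.Prime := ⟨hr⟩
  have : Fintype {v : V // P v} := Fintype.ofFinite _
  let f : Function.End {v : V // P v} := fun v => ⟨x • (v : V), hP v v.2⟩
  have hf : ∀ (n : ℕ) (v : {v : V // P v}), (((f ^ n) v : {v : V // P v}) : V) = x ^ n • (v : V) := by
    intro n
    induction n with
    | zero => intro v; rw [pow_zero, pow_zero, one_smul]; rfl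
    | succ n ih =>
      intro v
      rw [pow_succ, pow_succ, mul_smul]
      exact ih (f v)
  have hf1 : f ^ r ^ 1 = 1 := by
    funext v
    apply Subtype.ext
    rw [hf, pow_one, hx, one_smul]
    rfl
  have h1 := Equiv.Perm.card_fixedPoints_modEq hf1
  rw [← Nat.card_eq_fintype_card, ← Nat.card_eq_fintype_card] at h1
  refine h1.trans ?_
  have h2 : Nat.card f.fixedPoints = Nat.card {v : V // P v ∧ x • v = v} :=
    Nat.card_congr
      { toFun := fun v => ⟨v.1, v.1.2, congrArg Subtype.val v.2⟩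
        invFun := fun v => ⟨⟨v.1, v.2.1⟩, Subtype.ext v.2.2⟩
        left_inv := fun v => rfl
        right_inv := fun v => rfl }
  rw [h2]

theorem all_mem (h : Ev B N) (hF : Nat.card F = 2) (g : G) : g ∈ N := by
  rw [h.mem]
  intro a v
  rcases zero_or_one hF a with rfl | rfl
  · rw [zero_smul, zero_smul, smul_zero]
  · rw [one_smul, one_smul]

/-- the fixed space -/
def fixS (h : Ev B N) (hF : Nat.card F = 2) (x : G) : Submodule F V where
  carrier := {v | x • v = v}
  add_mem' {u v} (hu : x • u = u) (hv : x • v = v) := show x • (u + v) = u + v by rw [smul_add, hu, hv]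
  zero_mem' := smul_zero x
  smul_mem' a {v} (hv : x • v = v) := show x • a • v = a • v by rw [h.lin (all_mem h hF x), hv]

theorem mem_fixS (h : Ev B N) (hF : Nat.card F = 2) {x : G} {v : V} : v ∈ fixS h hF x ↔ x • v = v := Iff.rfl

theorem card_sub (hF : Nat.card F = 2) (D : Submodule F V) : Nat.card D = 2 ^ finrank F D := by
  rw [Module.natCard_eq_pow_finrank (K := F) (V := D), hF]

theorem card_mod_sub (h : Ev B N) (hF : Nat.card F = 2) {x : G} {r : ℕ} (hr : r.Prime) (hx : x ^ r = 1)
    (D : Submodule F V) (hD : ∀ v ∈ D, x • v ∈ D) : Nat.card D ≡ Nat.card ↥(D ⊓ fixS h hF x) [MOD r] := by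
  have : Finite V := Module.finite_of_finite F
  exact card_mod hr hx (fun v => v ∈ D) hD

/-- the fixed space of an element of odd prime order is nondegenerate -/
theorem nalt_fixS (h : Ev B N) (hF : Nat.card F = 2) {x : G} {r : ℕ} (hr : Odd r) (hx : x ^ r = 1) :
    NAlt (B.restrict (fixS h hF x)) := by
  refine ⟨fun v => h.self _, fun v hv => ?_⟩
  apply Subtype.ext
  apply h.nd
  intro w
  have hB : ∀ i : ℕ, B (v : V) (x ^ i • w) = B (v : V) w := by
    intro i
    have h1 : x ^ i • (v : V) = v := by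
      induction i with
      | zero => rw [pow_zero, one_smul]
      | succ i ih => rw [pow_succ, mul_smul, (mem_fixS h hF).1 v.2, ih]
    conv_lhs => rw [← h1]
    exact h.isom (all_mem h hF _) _ _
  let tr : V := ∑ i ∈ Finset.range r, x ^ i • w
  have htr : tr ∈ fixS h hF x := by
    rw [mem_fixS]
    show x • (∑ i ∈ Finset.range r, x ^ i • w) = ∑ i ∈ Finset.range r, x ^ i • w
    rw [Finset.smul_sum]
    have h1 : ∀ i, x • x ^ i • w = x ^ (i + 1) • w := fun i => by rw [pow_succ', mul_smul]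
    simp only [h1]
    have h2 := Finset.sum_range_succ (fun i => x ^ i • w) r
    have h3 := Finset.sum_range_succ' (fun i => x ^ i • w) r
    rw [h3, hx, pow_zero] at h2
    exact add_right_cancel h2
  have h4 : B (v : V) tr = 0 := hv ⟨tr, htr⟩
  have h5 : B (v : V) tr = B (v : V) w := by
    show B (v : V) (∑ i ∈ Finset.range r, x ^ i • w) = _
    rw [map_sum, Finset.sum_congr rfl fun i _ => hB i, Finset.sum_const, Finset.card_range]
    obtain ⟨k, rfl⟩ := hr
    rw [nsmul_eq_mul]
    push_cast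
    linear_combination (k * B (v : V) w) * h.two
  rw [← h5, h4]

theorem even_fixS (h : Ev B N) (hF : Nat.card F = 2) {x : G} {r : ℕ} (hr : Odd r) (hx : x ^ r = 1) :
    Even (finrank F (fixS h hF x)) := by
  have h1 := nalt_fixS h hF hr hx
  exact Cfsg.Agent.H727.GW.even_finrank _ _ (B.restrict (fixS h hF x)) h1.alt h1.nd rfl

theorem fixS_ne_top (h : Ev B N) (hF : Nat.card F = 2) {x : G} (hx : x ≠ 1) : fixS h hF x ≠ ⊤ := by
  intro h1
  apply hx
  apply h.inj
  intro v
  have : v ∈ fixS h hF x := by rw [h1]; trivial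
  exact this

theorem disj_orth (h : Ev B N) {A : Submodule F V} (hA : NAlt (B.restrict A)) : A ⊓ B.orthogonal A = ⊥ := by
  rw [eq_bot_iff]
  rintro v ⟨h1, h2⟩
  rw [Submodule.mem_bot]
  have h3 : (⟨v, h1⟩ : A) = 0 := by
    apply hA.nd
    intro w
    exact h.mem_orth.1 h2 w w.2
  exact congrArg Subtype.val h3

end count

section sums

variable {F V G : Type*} [Field F] [Finite F] [AddCommGroup V] [Module F V] [FiniteDimensional F V] [Group G]
  [DistribMulAction G V] {B : LinearMap.BilinForm F V} {N : Subgroup G} {Q : QuadraticForm F V}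

theorem Q_add (hQ : ∀ u v, polar Q u v = B u v) (u v : V) : Q (u + v) = Q u + Q v + B u v := by
  rw [← hQ, polar]; ring

open Classical in
theorem sum_eps [Fintype V] (h : Ev B N) (hF : Nat.card F = 2) (D : Submodule F V) (v : V) :
    ∑ u ∈ Finset.univ.filter (fun u => u ∈ D), eps (B v u) =
      if v ∈ B.orthogonal D then (Nat.card D : ℤ) else 0 := by
  have hcard : (Finset.univ.filter (fun u => u ∈ D)).card = Nat.card D := by
    rw [Nat.card_eq_fintype_card, ← Fintype.card_subtype]
  by_cases hv : v ∈ B.orthogonal D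
  · rw [if_pos hv, Finset.sum_congr rfl (g := fun _ => (1 : ℤ)), Finset.sum_const, hcard]
    · simp
    · intro u hu
      rw [h.mem_orth.1 hv u (Finset.mem_filter.1 hu).2, eps_zero]
  · rw [if_neg hv]
    have h1 : ∃ u0 ∈ D, B v u0 ≠ 0 := by
      by_contra hno
      push Not at hno
      exact hv (h.mem_orth.2 hno)
    obtain ⟨u0, hu0, hne⟩ := h1
    have h2 : ∑ u ∈ Finset.univ.filter (fun u => u ∈ D), eps (B v u) =
        ∑ u ∈ Finset.univ.filter (fun u => u ∈ D), - eps (B v u) := by
      refine Finset.sum_nbij' (fun u => u + u0) (fun u => u + u0) ?_ ?_ ?_ ?_ ?_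
      · intro u hu
        exact Finset.mem_filter.2 ⟨Finset.mem_univ _, D.add_mem (Finset.mem_filter.1 hu).2 hu0⟩
      · intro u hu
        exact Finset.mem_filter.2 ⟨Finset.mem_univ _, D.add_mem (Finset.mem_filter.1 hu).2 hu0⟩
      · intro u _
        rw [add_assoc, h.vadd_self, add_zero]
      · intro u _
        rw [add_assoc, h.vadd_self, add_zero]
      · intro u _
        rw [map_add, eps_add hF h.two, eps_ne hne]
        ring
    rw [Finset.sum_neg_distrib] at h2
    omega

open Classical in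
/-- the sum over the space is the sum over the orthogonal of a totally singular subspace -/
theorem sum_perp [Fintype V] (h : Ev B N) (hF : Nat.card F = 2) (hQ : ∀ u v, polar Q u v = B u v) (D : Submodule F V)
    (hD : ∀ v ∈ D, Q v = 0) :
    ∑ v : V, eps (Q v) = ∑ v ∈ Finset.univ.filter (fun v => v ∈ B.orthogonal D), eps (Q v) := by
  have hcard : (Finset.univ.filter (fun u => u ∈ D)).card = Nat.card D := by
    rw [Nat.card_eq_fintype_card, ← Fintype.card_subtype]
  have h1 : ∀ u ∈ D, ∑ v : V, eps (Q v) = ∑ v : V, eps (Q v) * eps (B v u) := by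
    intro u hu
    rw [← Equiv.sum_comp (Equiv.addRight u) (fun v => eps (Q v))]
    refine Finset.sum_congr rfl fun v _ => ?_
    rw [Equiv.coe_addRight, Q_add hQ, hD u hu, add_zero, eps_add hF h.two]
  have h2 : (Nat.card D : ℤ) * ∑ v : V, eps (Q v) =
      (Nat.card D : ℤ) * ∑ v ∈ Finset.univ.filter (fun v => v ∈ B.orthogonal D), eps (Q v) := by
    have h3 : (Nat.card D : ℤ) * ∑ v : V, eps (Q v) =
        ∑ u ∈ Finset.univ.filter (fun u => u ∈ D), ∑ v : V, eps (Q v) * eps (B v u) := by
      rw [← hcard, ← nsmul_eq_mul, ← Finset.sum_const]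
      exact Finset.sum_congr rfl fun u hu => h1 u (Finset.mem_filter.1 hu).2
    rw [h3, Finset.sum_comm, Finset.mul_sum, Finset.sum_filter]
    refine Finset.sum_congr rfl fun v _ => ?_
    rw [← Finset.mul_sum, sum_eps h hF]
    split_ifs
    · ring
    · ring
  have h4 : (Nat.card D : ℤ) ≠ 0 := by
    have : Finite V := Finite.of_fintype V
    have : 0 < Nat.card D := Nat.card_pos
    exact_mod_cast this.ne'
  exact mul_left_cancel₀ h4 h2

open Classical in
theorem sum_eps_count [Fintype V] (S : Finset V) :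
    ∑ v ∈ S, eps (Q v) = 2 * ((S.filter fun v => Q v = 0).card : ℤ) - (S.card : ℤ) := by
  have h1 : ∀ v ∈ S, eps (Q v) = 2 * (if Q v = 0 then (1 : ℤ) else 0) - 1 := by
    intro v _
    by_cases hv : Q v = 0
    · rw [hv, eps_zero, if_pos rfl]; norm_num
    · rw [eps_ne hv, if_neg hv]; norm_num
  rw [Finset.sum_congr rfl h1, Finset.sum_sub_distrib, ← Finset.mul_sum, Finset.sum_boole, Finset.sum_const]
  simp

theorem isotropic_of_sing (hQ : ∀ u v, polar Q u v = B u v) {D : Submodule F V} (hD : ∀ v ∈ D, Q v = 0) {u v : V}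
    (hu : u ∈ D) (hv : v ∈ D) : B u v = 0 := by
  have h1 := Q_add hQ u v
  rw [hD _ (D.add_mem hu hv), hD u hu, hD v hv, add_zero, zero_add] at h1
  exact h1.symm

/-- the sum for a form of plus type -/
theorem sum_plus [Fintype V] (h : Ev B N) (hF : Nat.card F = 2) (hQ : ∀ u v, polar Q u v = B u v)
    (hdim : finrank F V = 6) (hplus : ∃ U : Submodule F V, (∀ v ∈ U, Q v = 0) ∧ finrank F U = 3) :
    ∑ v : V, eps (Q v) = 8 := by
  classical
  obtain ⟨U, hU, hU3⟩ := hplus
  have h1 : U ≤ B.orthogonal U := fun v hv => h.mem_orth.2 fun a ha => isotropic_of_sing hQ hU hv ha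
  have h2 := h.finrank_add U
  have h3 : U = B.orthogonal U := Submodule.eq_of_le_of_finrank_eq h1 (by omega)
  rw [sum_perp h hF hQ U hU, ← h3, Finset.sum_congr rfl (g := fun _ => (1 : ℤ)), Finset.sum_const]
  · have hcard : (Finset.univ.filter (fun u => u ∈ U)).card = Nat.card U := by
      rw [Nat.card_eq_fintype_card, ← Fintype.card_subtype]
    rw [hcard, card_sub hF, hU3]
    norm_num
  · intro v hv
    rw [hU v (Finset.mem_filter.1 hv).2, eps_zero]

/-- the number of singular vectors -/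
theorem card_sing (h : Ev B N) (hF : Nat.card F = 2) (hQ : ∀ u v, polar Q u v = B u v)
    (hdim : finrank F V = 6) (hplus : ∃ U : Submodule F V, (∀ v ∈ U, Q v = 0) ∧ finrank F U = 3) :
    Nat.card {v : V // Q v = 0} = 36 := by
  classical
  have : Finite V := Module.finite_of_finite F
  have : Fintype V := Fintype.ofFinite V
  have h1 := sum_plus h hF hQ hdim hplus
  rw [sum_eps_count] at h1
  have h2 : (Finset.univ : Finset V).card = 64 := by
    rw [Finset.card_univ, ← Nat.card_eq_fintype_card, Module.natCard_eq_pow_finrank (K := F), hF, hdim]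
    norm_num
  rw [h2] at h1
  rw [Nat.card_eq_fintype_card, Fintype.card_subtype]
  push_cast at h1
  omega

theorem finrank_fixS_lt (h : Ev B N) (hF : Nat.card F = 2) {x : G} (hx : x ≠ 1) :
    finrank F (fixS h hF x) < finrank F V :=
  Submodule.finrank_lt (fixS_ne_top h hF hx)

/-- the fixed space of an element of odd prime order -/
theorem odd_cases (h : Ev B N) (hF : Nat.card F = 2) (hQ : ∀ u v, polar Q u v = B u v)
    (hdim : finrank F V = 6) (hplus : ∃ U : Submodule F V, (∀ v ∈ U, Q v = 0) ∧ finrank F U = 3)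
    {x : G} {r : ℕ} (hr : r.Prime) (hr2 : r ≠ 2) (hx : x ^ r = 1) (hx1 : x ≠ 1) (hO : ∀ v, Q (x • v) = Q v) :
    (r = 3 ∧ ((Nat.card (fixS h hF x) = 4 ∧ Nat.card {v : V // Q v = 0 ∧ x • v = v} = 3) ∨
      Nat.card (fixS h hF x) = 16)) ∨
    (r = 5 ∧ Nat.card (fixS h hF x) = 4 ∧ Nat.card {v : V // Q v = 0 ∧ x • v = v} = 1) ∨
    (r = 7 ∧ Nat.card (fixS h hF x) = 1) := by
  have : Finite V := Module.finite_of_finite F
  have h1 : Nat.card V = 64 := by
    rw [Module.natCard_eq_pow_finrank (K := F), hF, hdim]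
    norm_num
  have h2 : 64 ≡ Nat.card (fixS h hF x) [MOD r] := by
    have h3 := card_mod_sub h hF hr hx ⊤ (fun v _ => trivial)
    rw [top_inf_eq] at h3
    have h4 : Nat.card (⊤ : Submodule F V) = 64 := by
      rw [← h1]
      exact Nat.card_congr (Equiv.Set.univ V)
    rwa [h4] at h3
  have h3 : 36 ≡ Nat.card {v : V // Q v = 0 ∧ x • v = v} [MOD r] := by
    rw [← card_sing h hF hQ hdim hplus]
    exact card_mod hr hx (fun v => Q v = 0) fun v hv => by rw [hO, hv]
  have h4 : Nat.card {v : V // Q v = 0 ∧ x • v = v} ≤ Nat.card (fixS h hF x) :=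
    Nat.card_le_card_of_injective (fun v : {v : V // Q v = 0 ∧ x • v = v} => (⟨v.1, v.2.2⟩ : fixS h hF x))
      fun a b hab => Subtype.ext (congrArg (fun w : fixS h hF x => (w : V)) hab)
  have h5 : 0 < Nat.card {v : V // Q v = 0 ∧ x • v = v} := by
    have : Nonempty {v : V // Q v = 0 ∧ x • v = v} := ⟨⟨0, QuadraticMap.map_zero Q, smul_zero x⟩⟩
    exact Nat.card_pos
  set c := Nat.card (fixS h hF x) with hc
  set s := Nat.card {v : V // Q v = 0 ∧ x • v = v} with hs
  have h6 : c = 1 ∨ c = 4 ∨ c = 16 := by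
    have h7 := finrank_fixS_lt h hF hx1
    have h8 := even_fixS h hF (hr.odd_of_ne_two hr2) hx
    have h9 : c = 2 ^ finrank F (fixS h hF x) := card_sub hF _
    rw [hdim] at h7
    generalize finrank F (fixS h hF x) = d at h7 h8 h9
    interval_cases d
    · left; rw [h9]; norm_num
    · exact absurd h8 (by decide)
    · right; left; rw [h9]; norm_num
    · exact absurd h8 (by decide)
    · right; right; rw [h9]; norm_num
    · exact absurd h8 (by decide)
  have hr3 : ∀ {k : ℕ}, r ∣ 3 ^ k → r = 3 := fun hk =>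
    (Nat.prime_dvd_prime_iff_eq hr Nat.prime_three).1 (hr.dvd_of_dvd_pow hk)
  have hr22 : ∀ {k : ℕ}, ¬ r ∣ 2 ^ k := fun hk =>
    hr2 ((Nat.prime_dvd_prime_iff_eq hr Nat.prime_two).1 (hr.dvd_of_dvd_pow hk))
  rcases h6 with h6 | h6 | h6
  · rw [h6] at h2 h4
    have h7 : r ∣ 3 ^ 2 * 7 := (Nat.modEq_iff_dvd' (by norm_num)).1 h2.symm
    rcases hr.dvd_mul.1 h7 with h8 | h8
    · exfalso
      have h9 := hr3 h8
      rw [h9] at h3
      unfold Nat.ModEq at h3
      omega
    · right; right
      exact ⟨(Nat.prime_dvd_prime_iff_eq hr (by norm_num)).1 h8, h6⟩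
  · rw [h6] at h2 h4
    have h7 : r ∣ 2 ^ 2 * (3 ^ 1 * 5) := (Nat.modEq_iff_dvd' (by norm_num)).1 h2.symm
    rcases hr.dvd_mul.1 h7 with h8 | h8
    · exact absurd h8 hr22
    · rcases hr.dvd_mul.1 h8 with h9 | h9
      · left
        have h10 := hr3 h9
        refine ⟨h10, Or.inl ⟨h6, ?_⟩⟩
        rw [h10] at h3
        unfold Nat.ModEq at h3
        omega
      · right; left
        have h10 : r = 5 := (Nat.prime_dvd_prime_iff_eq hr Nat.prime_five).1 h9
        refine ⟨h10, h6, ?_⟩
        rw [h10] at h3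
        unfold Nat.ModEq at h3
        omega
  · rw [h6] at h2
    have h7 : r ∣ 2 ^ 4 * 3 ^ 1 := (Nat.modEq_iff_dvd' (by norm_num)).1 h2.symm
    rcases hr.dvd_mul.1 h7 with h8 | h8
    · exact absurd h8 hr22
    · left
      exact ⟨hr3 h8, Or.inr h6⟩

end sums

section pairs

variable {F V G : Type*} [Field F] [Finite F] [AddCommGroup V] [Module F V] [FiniteDimensional F V] [Group G] [Finite G]
  [DistribMulAction G V] {B : LinearMap.BilinForm F V} {N : Subgroup G} {Q : QuadraticForm F V}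

theorem count_split (h : Ev B N) (hF : Nat.card F = 2) (Q : QuadraticForm F V) (x : G) :
    Nat.card (fixS h hF x) = Nat.card {v : V // Q v = 0 ∧ x • v = v} + Nat.card {v : V // Q v ≠ 0 ∧ x • v = v} := by
  classical
  have : Finite V := Module.finite_of_finite F
  have : Fintype V := Fintype.ofFinite V
  have h1 : Nat.card (fixS h hF x) = (Finset.univ.filter fun v : V => x • v = v).card := by
    rw [← Fintype.card_subtype, ← Nat.card_eq_fintype_card]
    rfl
  rw [h1, Nat.card_eq_fintype_card, Nat.card_eq_fintype_card, Fintype.card_subtype, Fintype.card_subtype,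
    ← Finset.card_filter_add_card_filter_not (s := Finset.univ.filter fun v : V => x • v = v) (fun v => Q v = 0)]
  congr 1
  · congr 1
    ext v
    simp only [Finset.mem_filter, Finset.mem_univ, true_and]
    exact and_comm
  · congr 1
    ext v
    simp only [Finset.mem_filter, Finset.mem_univ, true_and]
    exact and_comm

theorem inv_fixS (h : Ev B N) (hF : Nat.card F = 2) {x y : G} (hxy : x * y = y * x) :
    ∀ v ∈ fixS h hF x, y • v ∈ fixS h hF x := by
  intro v hv
  rw [mem_fixS] at hv ⊢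
  rw [← mul_smul, hxy, mul_smul, hv]

theorem inv_orth (h : Ev B N) (hF : Nat.card F = 2) {x y : G} (hxy : x * y = y * x) :
    ∀ v ∈ B.orthogonal (fixS h hF x), y • v ∈ B.orthogonal (fixS h hF x) :=
  h.orth_inv (inv_fixS h hF hxy)

theorem finrank_of_card (hF : Nat.card F = 2) {D : Submodule F V} {k : ℕ} (hD : Nat.card D = 2 ^ k) :
    finrank F D = k := by
  rw [card_sub hF] at hD
  exact Nat.pow_right_injective le_rfl hD

/-- the complement of the fixed space of an element of order 3 is anisotropic -/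
theorem aniso (h : Ev B N) (hF : Nat.card F = 2) (hQ : ∀ u v, polar Q u v = B u v) (hdim : finrank F V = 6) {x : G}
    (hx : x ^ 3 = 1) (hO : ∀ v, Q (x • v) = Q v) (hc : Nat.card (fixS h hF x) = 16) {a : V}
    (ha : a ∈ B.orthogonal (fixS h hF x)) (ha0 : a ≠ 0) : Q a ≠ 0 := by
  intro hQa
  have hC := nalt_fixS h hF (by decide) hx
  have hA := h.nalt_orth hC
  have hdis := disj_orth h hC
  have hinv := inv_orth h hF (x := x) (y := x) rfl
  have hfC : finrank F (fixS h hF x) = 4 := finrank_of_card hF (by rw [hc]; norm_num)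
  have hfA : finrank F (B.orthogonal (fixS h hF x)) = 2 := by
    have := h.finrank_add (fixS h hF x)
    omega
  have hxa := hinv a ha
  have hxxa := hinv _ hxa
  have h3 : x • x • x • a = a := by
    rw [← mul_smul, ← mul_smul, show x * x * x = x ^ 3 by rw [pow_succ, pow_two], hx, one_smul]
  -- the trace vanishes
  have ht : a + x • a + x • x • a = 0 := by
    have h4 : a + x • a + x • x • a ∈ fixS h hF x ⊓ B.orthogonal (fixS h hF x) := by
      refine ⟨?_, Submodule.add_mem _ (Submodule.add_mem _ ha hxa) hxxa⟩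
      rw [SetLike.mem_coe, mem_fixS, smul_add, smul_add, h3]
      abel
    rw [hdis, Submodule.mem_bot] at h4
    exact h4
  have h5 : x • x • a = a + x • a := by
    have h6 := h.vadd_self (x • x • a)
    calc x • x • a = (a + x • a + x • x • a) + x • x • a + 0 := by rw [ht, zero_add, add_zero]
      _ = (a + x • a) + (x • x • a + x • x • a) := by abel
      _ = a + x • a := by rw [h6, add_zero]
  have hBa : B a (x • a) = 0 := by
    have h6 := Q_add hQ a (x • a)
    rw [← h5, hO, hO, hQa, zero_add, zero_add] at h6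
    exact h6.symm
  have hne : x • a ≠ a := by
    intro h6
    have h7 : a ∈ fixS h hF x ⊓ B.orthogonal (fixS h hF x) := ⟨h6, ha⟩
    rw [hdis, Submodule.mem_bot] at h7
    exact ha0 h7
  -- `A` is spanned by `a`, `x a`
  let a1 : B.orthogonal (fixS h hF x) := ⟨a, ha⟩
  let a2 : B.orthogonal (fixS h hF x) := ⟨x • a, hxa⟩
  have hli : LinearIndependent F ![a1, a2] := by
    rw [LinearIndependent.pair_iff]
    intro s t hst
    have h6 : s • a + t • x • a = 0 := congrArg Subtype.val hst
    rcases zero_or_one hF s with rfl | rfl <;> rcases zero_or_one hF t with rfl | rfl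
    · exact ⟨rfl, rfl⟩
    · exfalso
      rw [zero_smul, zero_add, one_smul] at h6
      exact ha0 ((smul_eq_zero_iff_eq x).1 h6)
    · exfalso
      rw [zero_smul, add_zero, one_smul] at h6
      exact ha0 h6
    · exfalso
      rw [one_smul, one_smul] at h6
      exact hne (add_left_cancel (h6.trans (h.vadd_self a).symm))
  have hspan := hli.span_eq_top_of_card_eq_finrank' (by rw [hfA]; simp)
  have h8 : (a1 : B.orthogonal (fixS h hF x)) = 0 := by
    apply hA.nd
    intro b
    have hb : b ∈ Submodule.span F (Set.range ![a1, a2]) := by rw [hspan]; trivial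
    rw [Matrix.range_cons, Matrix.range_cons, Matrix.range_empty, Set.union_empty, Set.singleton_union,
      Submodule.mem_span_pair] at hb
    obtain ⟨s, t, rfl⟩ := hb
    show B a ((s • a1 + t • a2 : B.orthogonal (fixS h hF x)) : V) = 0
    show B a (s • a + t • x • a) = 0
    rw [map_add, map_smul, map_smul, h.self, hBa, smul_zero, smul_zero, add_zero]
  exact ha0 (congrArg Subtype.val h8)

/-- the case of the orders 2 and 3 -/
theorem two_three (h : Ev B N) (hF : Nat.card F = 2) (hQ : ∀ u v, polar Q u v = B u v) (hdim : finrank F V = 6)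
    (hplus : ∃ U : Submodule F V, (∀ v ∈ U, Q v = 0) ∧ finrank F U = 3) {x u : G} (hx : x ^ 3 = 1) (hu : u ^ 2 = 1)
    (hxu : x * u = u * x) (hO : ∀ v, Q (x • v) = Q v) (hc : Nat.card (fixS h hF x) = 16)
    (hts : ∀ v, x • v = v → u • v = v → Q v = 0) : False := by
  classical
  have hC := nalt_fixS h hF (by decide) hx
  have hdis := disj_orth h hC
  have hfC : finrank F (fixS h hF x) = 4 := finrank_of_card hF (by rw [hc]; norm_num)
  have hfA : finrank F (B.orthogonal (fixS h hF x)) = 2 := by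
    have := h.finrank_add (fixS h hF x)
    omega
  set! D : Submodule F V := fixS h hF x ⊓ fixS h hF u with hD
  have hDs : ∀ v ∈ D, Q v = 0 := fun v hv => hts v hv.1 hv.2
  -- dimension at least two
  have hd2 : 2 ≤ finrank F D := by
    let φ : fixS h hF x →ₗ[F] D :=
      { toFun := fun v => ⟨(v : V) + u • (v : V), Submodule.add_mem _ v.2 (inv_fixS h hF hxu v v.2), by
          rw [SetLike.mem_coe, mem_fixS, smul_add, ← mul_smul, ← pow_two, hu, one_smul, add_comm]⟩
        map_add' := fun v w => Subtype.ext (by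
          show ((v : V) + w) + u • ((v : V) + w) = ((v : V) + u • (v : V)) + ((w : V) + u • (w : V))
          rw [smul_add]; abel)
        map_smul' := fun a v => Subtype.ext (by
          show a • (v : V) + u • a • (v : V) = a • ((v : V) + u • (v : V))
          rw [h.lin (all_mem h hF u), smul_add]) }
    have h1 := LinearMap.finrank_range_add_finrank_ker φ
    have h2 : finrank F φ.range ≤ finrank F D := Submodule.finrank_le _
    have h3 : finrank F φ.ker ≤ finrank F D := by
      let ψ : φ.ker →ₗ[F] D :=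
        { toFun := fun v => ⟨(v : fixS h hF x), (v : fixS h hF x).2, by
            have h4 : φ (v : fixS h hF x) = 0 := v.2
            have h5 : ((v : fixS h hF x) : V) + u • ((v : fixS h hF x) : V) = 0 := congrArg Subtype.val h4
            rw [SetLike.mem_coe, mem_fixS]
            exact add_left_cancel (h5.trans (h.vadd_self _).symm)⟩
          map_add' := fun v w => rfl
          map_smul' := fun a v => rfl }
      exact LinearMap.finrank_le_finrank_of_injective (f := ψ) fun v w hvw =>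
        Subtype.ext (Subtype.ext (congrArg (fun z : D => (z : V)) hvw))
    rw [hfC] at h1
    omega
  -- the orthogonal
  have hDA : D ⊓ B.orthogonal (fixS h hF x) = ⊥ := by
    rw [eq_bot_iff, ← hdis]
    exact inf_le_inf_right _ inf_le_left
  have hle : D ⊔ B.orthogonal (fixS h hF x) ≤ B.orthogonal D := by
    refine sup_le (fun v hv => h.mem_orth.2 fun a ha => isotropic_of_sing hQ hDs hv ha) fun v hv => ?_
    rw [h.mem_orth] at hv ⊢
    intro a ha
    exact hv a ha.1
  have h1 := Submodule.finrank_sup_add_finrank_inf_eq D (B.orthogonal (fixS h hF x))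
  rw [hDA, finrank_bot, add_zero, hfA] at h1
  have h2 := Submodule.finrank_mono hle
  have h3 := h.finrank_add D
  have hd : finrank F D = 2 := by omega
  have heq : D ⊔ B.orthogonal (fixS h hF x) = B.orthogonal D := Submodule.eq_of_le_of_finrank_eq hle (by omega)
  -- counting
  have : Finite V := Module.finite_of_finite F
  have : Fintype V := Fintype.ofFinite V
  have h4 := sum_plus h hF hQ hdim hplus
  rw [sum_perp h hF hQ D hDs, sum_eps_count] at h4
  have hcardS : ∀ W : Submodule F V, (Finset.univ.filter (fun v => v ∈ W)).card = 2 ^ finrank F W := by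
    intro W
    rw [← card_sub hF, Nat.card_eq_fintype_card, ← Fintype.card_subtype]
  have h5 : (Finset.univ.filter (fun v => v ∈ B.orthogonal D)).filter (fun v => Q v = 0) =
      Finset.univ.filter (fun v => v ∈ D) := by
    ext v
    simp only [Finset.mem_filter, Finset.mem_univ, true_and]
    constructor
    · rintro ⟨hv, hQv⟩
      rw [← heq, Submodule.mem_sup] at hv
      obtain ⟨d, hd', a, ha, rfl⟩ := hv
      have h6 := Q_add hQ d a
      have h7 : B d a = 0 := by
        rw [h.symm]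
        exact h.mem_orth.1 ha d hd'.1
      rw [hQv, hDs d hd', h7, zero_add, add_zero] at h6
      have h8 : a = 0 := by
        by_contra ha0
        exact aniso h hF hQ hdim hx hO hc ha ha0 h6.symm
      rw [h8, add_zero]
      exact hd'
    · intro hv
      exact ⟨by rw [← heq]; exact Submodule.mem_sup_left hv, hDs v hv⟩
  rw [h5, hcardS, hcardS] at h4
  have h6 : finrank F (B.orthogonal D) = 4 := by omega
  rw [hd, h6] at h4
  norm_num at h4

/-- the case of the orders 3 and 5 -/
theorem three_five (h : Ev B N) (hF : Nat.card F = 2) (hdim : finrank F V = 6)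
    {x y : G} (hx : x ^ 3 = 1) (hy : y ^ 5 = 1) (hxy : x * y = y * x) (hc : Nat.card (fixS h hF x) = 16)
    (hc' : Nat.card (fixS h hF y) = 4) :
    fixS h hF y = B.orthogonal (fixS h hF x) ∧ fixS h hF x ⊓ fixS h hF y = ⊥ := by
  have hC := nalt_fixS h hF (by decide) hx
  have hdis := disj_orth h hC
  have hfC : finrank F (fixS h hF x) = 4 := finrank_of_card hF (by rw [hc]; norm_num)
  have hfA : finrank F (B.orthogonal (fixS h hF x)) = 2 := by
    have := h.finrank_add (fixS h hF x)
    omega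
  have hfY : finrank F (fixS h hF y) = 2 := finrank_of_card hF (by rw [hc']; norm_num)
  have h1 := card_mod_sub h hF Nat.prime_five hy (B.orthogonal (fixS h hF x)) (inv_orth h hF hxy)
  have h2 : finrank F ↥(B.orthogonal (fixS h hF x) ⊓ fixS h hF y) ≤ 2 := by
    rw [← hfA]
    exact Submodule.finrank_mono inf_le_left
  rw [card_sub hF, card_sub hF, hfA] at h1
  have h3 : finrank F ↥(B.orthogonal (fixS h hF x) ⊓ fixS h hF y) = 2 := by
    generalize finrank F ↥(B.orthogonal (fixS h hF x) ⊓ fixS h hF y) = d at h1 h2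
    unfold Nat.ModEq at h1
    interval_cases d
    · norm_num at h1
    · norm_num at h1
    · rfl
  have h4 : B.orthogonal (fixS h hF x) ⊓ fixS h hF y = B.orthogonal (fixS h hF x) :=
    Submodule.eq_of_le_of_finrank_eq inf_le_left (by rw [h3, hfA])
  have h5 : B.orthogonal (fixS h hF x) ⊓ fixS h hF y = fixS h hF y :=
    Submodule.eq_of_le_of_finrank_eq inf_le_right (by rw [h3, hfY])
  have h6 : fixS h hF y = B.orthogonal (fixS h hF x) := by rw [← h5, h4]
  exact ⟨h6, by rw [h6, hdis]⟩

/-- the orders 2, 3 and 5 together -/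
theorem two_three_five (h : Ev B N) (hF : Nat.card F = 2) (hdim : finrank F V = 6)
    {x y u : G} (hx : x ^ 3 = 1) (hy : y ^ 5 = 1) (hu : u ^ 2 = 1) (hxy : x * y = y * x) (hxu : x * u = u * x)
    (hyu : y * u = u * y) (hc : Nat.card (fixS h hF x) = 16) (hc' : Nat.card (fixS h hF y) = 4) (hu1 : u ≠ 1) :
    False := by
  have hC := nalt_fixS h hF (by decide) hx
  have hdis := disj_orth h hC
  obtain ⟨hY, hCY⟩ := three_five h hF hdim hx hy hxy hc hc'
  have hfC : finrank F (fixS h hF x) = 4 := finrank_of_card hF (by rw [hc]; norm_num)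
  have hfA : finrank F (B.orthogonal (fixS h hF x)) = 2 := by
    have := h.finrank_add (fixS h hF x)
    omega
  -- `u` is trivial on `C(x)`
  have h1 : fixS h hF x ≤ fixS h hF u := by
    have h2 := card_mod_sub h hF Nat.prime_two hu (fixS h hF x) (inv_fixS h hF hxu)
    have h3 := card_mod_sub h hF Nat.prime_five hy (fixS h hF x ⊓ fixS h hF u)
      (fun v hv => ⟨inv_fixS h hF hxy v hv.1, inv_fixS h hF hyu.symm v hv.2⟩)
    have h4 : (fixS h hF x ⊓ fixS h hF u) ⊓ fixS h hF y = ⊥ := by
      rw [eq_bot_iff, ← hCY]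
      exact inf_le_inf_right _ inf_le_left
    have h5 : finrank F ↥(fixS h hF x ⊓ fixS h hF u) ≤ 4 := by
      rw [← hfC]
      exact Submodule.finrank_mono inf_le_left
    rw [h4, card_sub hF, card_sub hF, finrank_bot] at h3
    rw [card_sub hF, card_sub hF, hfC] at h2
    have h6 : finrank F ↥(fixS h hF x ⊓ fixS h hF u) = 4 := by
      generalize finrank F ↥(fixS h hF x ⊓ fixS h hF u) = d at h2 h3 h5
      unfold Nat.ModEq at h2 h3
      interval_cases d
      · norm_num at h2
      · norm_num at h3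
      · norm_num at h3
      · norm_num at h3
      · rfl
    exact (Submodule.eq_of_le_of_finrank_eq (inf_le_left : fixS h hF x ⊓ fixS h hF u ≤ _) (by rw [h6, hfC])).symm.le.trans
      inf_le_right
  have h2 : B.orthogonal (fixS h hF x) ≤ fixS h hF u := by
    have h2 := card_mod_sub h hF Nat.prime_two hu (B.orthogonal (fixS h hF x)) (inv_orth h hF hxu)
    have h3 := card_mod_sub h hF Nat.prime_three hx (B.orthogonal (fixS h hF x) ⊓ fixS h hF u)
      (fun v hv => ⟨inv_orth h hF rfl v hv.1, inv_fixS h hF hxu.symm v hv.2⟩)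
    have h4 : (B.orthogonal (fixS h hF x) ⊓ fixS h hF u) ⊓ fixS h hF x = ⊥ := by
      rw [eq_bot_iff, ← hdis, inf_comm (fixS h hF x)]
      exact inf_le_inf_right _ inf_le_left
    have h5 : finrank F ↥(B.orthogonal (fixS h hF x) ⊓ fixS h hF u) ≤ 2 := by
      rw [← hfA]
      exact Submodule.finrank_mono inf_le_left
    rw [h4, card_sub hF, card_sub hF, finrank_bot] at h3
    rw [card_sub hF, card_sub hF, hfA] at h2
    have h6 : finrank F ↥(B.orthogonal (fixS h hF x) ⊓ fixS h hF u) = 2 := by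
      generalize finrank F ↥(B.orthogonal (fixS h hF x) ⊓ fixS h hF u) = d at h2 h3 h5
      unfold Nat.ModEq at h2 h3
      interval_cases d
      · norm_num at h2
      · norm_num at h3
      · rfl
    exact (Submodule.eq_of_le_of_finrank_eq (inf_le_left : B.orthogonal (fixS h hF x) ⊓ fixS h hF u ≤ _)
      (by rw [h6, hfA])).symm.le.trans inf_le_right
  apply hu1
  apply h.inj
  intro v
  obtain ⟨a, ha, b, hb, rfl⟩ := h.exists_dec hC v
  rw [smul_add, (mem_fixS h hF).1 (h1 ha), (mem_fixS h hF).1 (h2 hb)]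

/-- the orders 2 and 7 -/
theorem two_seven (h : Ev B N) (hF : Nat.card F = 2) (hdim : finrank F V = 6)
    {x u : G} (hu : u ^ 2 = 1) (hxu : x * u = u * x) (hx : fixS h hF x = ⊥)
    (hc : finrank F (fixS h hF u) = 3) : False := by
  have huu : ∀ v : V, u • u • v = v := fun v => by rw [← mul_smul, ← pow_two, hu, one_smul]
  have huB : ∀ v w : V, B (u • v) w = B v (u • w) := by
    intro v w
    have h1 := h.isom (all_mem h hF u) v (u • w)
    rw [huu] at h1
    exact h1
  have hul : ∀ (a : F) (v : V), u • a • v = a • u • v := h.lin (all_mem h hF u)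
  -- `B v (u v) = 0`
  have hf : ∀ v : V, B v (u • v) = 0 := by
    let f : Module.Dual F V :=
      { toFun := fun v => B v (u • v)
        map_add' := fun v w => by
          rw [smul_add, map_add, map_add, LinearMap.add_apply, LinearMap.add_apply]
          have h1 : B w (u • v) = B v (u • w) := by rw [h.symm, huB]
          rw [h1]
          linear_combination (B v (u • w)) * h.two
        map_smul' := fun a v => by
          show B (a • v) (u • a • v) = a * B v (u • v)
          rcases zero_or_one hF a with rfl | rfl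
          · rw [zero_smul, map_zero, LinearMap.zero_apply, zero_mul]
          · rw [one_smul, one_mul] }
    obtain ⟨c, hc⟩ : ∃ c : V, ∀ v, B c v = B v (u • v) := by
      refine ⟨(B.toDual h.nondeg).symm f, fun v => ?_⟩
      exact LinearMap.BilinForm.apply_toDual_symm_apply (hB := h.nondeg) f v
    have hxc : x • c = c := by
      have h1 : ∀ v, B (x • c) v = B c v := by
        intro v
        have h2 := h.isom (all_mem h hF x) c (x⁻¹ • v)
        rw [smul_inv_smul] at h2
        rw [h2, hc, hc]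
        have h3 := h.isom (all_mem h hF x) (x⁻¹ • v) (u • x⁻¹ • v)
        rw [smul_inv_smul, ← mul_smul, hxu, mul_smul, smul_inv_smul] at h3
        exact h3.symm
      have h2 : x • c - c = 0 := h.nd _ fun v => by rw [map_sub, LinearMap.sub_apply, h1, sub_self]
      exact sub_eq_zero.1 h2
    have hc0 : c = 0 := by
      have h1 : c ∈ fixS h hF x := hxc
      rw [hx, Submodule.mem_bot] at h1
      exact h1
    intro v
    rw [← hc, hc0, map_zero, LinearMap.zero_apply]
  -- the form `B v (w + u w)`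
  let β : LinearMap.BilinForm F V := LinearMap.mk₂ F (fun v w => B v (w + u • w))
    (fun v v' w => LinearMap.map_add₂ B v v' _)
    (fun a v w => LinearMap.map_smul₂ B a v _)
    (fun v w w' => by rw [smul_add, ← map_add]; congr 1; abel)
    (fun a v w => by rw [hul, ← smul_add, map_smul])
  have hβ : ∀ v w, β v w = B v (w + u • w) := fun v w => rfl
  have hβa : ∀ v, β v v = 0 := fun v => by rw [hβ, map_add, h.self, hf, add_zero]
  obtain ⟨W, hW⟩ := Submodule.exists_isCompl (fixS h hF u)
  have h1 := Submodule.finrank_add_eq_of_isCompl hW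
  have h2 : Even (finrank F W) := by
    refine Cfsg.Agent.H727.GW.even_finrank _ _ (β.restrict W) (fun v => hβa _) (fun v hv => ?_) rfl
    have h3 : ∀ w : V, β w v = 0 := by
      intro w
      have h4 : w ∈ fixS h hF u ⊔ W := by rw [hW.sup_eq_top]; trivial
      obtain ⟨r, hr, z, hz, rfl⟩ := Submodule.mem_sup.1 h4
      have h5 : β (v : V) z = 0 := hv ⟨z, hz⟩
      have h6 : β r v = 0 := by
        rw [hβ, map_add, ← huB, (mem_fixS h hF).1 hr, h.add_self]
      have h7 : β z v = β (v : V) z := by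
        rw [hβ, hβ, map_add, map_add, ← huB, h.symm z v, h.symm (u • z) v]
      rw [map_add, LinearMap.add_apply, h6, h7, h5, add_zero]
    have h4 : (v : V) + u • (v : V) = 0 := h.nd _ fun w => by rw [h.symm]; exact h3 w
    have h5 : (v : V) ∈ fixS h hF u ⊓ W := ⟨add_left_cancel (h4.trans (h.vadd_self _).symm), v.2⟩
    rw [hW.inf_eq_bot, Submodule.mem_bot] at h5
    exact Subtype.ext h5
  have h3 : finrank F W = 3 := by omega
  rw [h3] at h2
  exact absurd h2 (by decide)

end pairs

section main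

variable {F V G : Type} [Field F] [Finite F] [AddCommGroup V] [Module F V] [FiniteDimensional F V] [Group G] [Finite G]
  [DistribMulAction G V] {B : LinearMap.BilinForm F V} {N : Subgroup G}

theorem fifteen_of_plus (h : Ev B N) (hF : Nat.card F = 2) (hdim : finrank F V = 6) {Q : QuadraticForm F V}
    (hQ : ∀ u v, polar Q u v = B u v) (hplus : ∃ U : Submodule F V, (∀ v ∈ U, Q v = 0) ∧ finrank F U = 3)
    {ι : Type} [Finite ι] [Nontrivial ι] {x : ι → G} {r : ι → ℕ} (hx : PF x r) (hO : ∀ i v, Q (x i • v) = Q v)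
    (hts : ∀ v, (∀ i, x i • v = v) → Q v = 0) :
    ∃ i j, r i = 5 ∧ r j = 3 ∧ (∀ k, k = i ∨ k = j) ∧ Nat.card {v : V // x j • v = v} = 16 ∧
      ∀ v : V, x j • v = v → x i • v = v → v = 0 := by
  have hfin : Finite V := Module.finite_of_finite F
  have hpow : ∀ i, x i ^ r i = 1 := hx.pow
  have hcases : ∀ i, r i ≠ 2 → _ := fun i hi =>
    odd_cases h hF hQ hdim hplus (hx.prime i) hi (hx.pow i) (hx.ne i) (hO i)
  have hPinv : ∀ (i k : ι) (v : V), (Q v ≠ 0 ∧ x i • v = v) → (Q (x k • v) ≠ 0 ∧ x i • x k • v = x k • v) := by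
    intro i k v hv
    refine ⟨by rw [hO]; exact hv.1, ?_⟩
    rw [← mul_smul, hx.comm, mul_smul, hv.2]
  have hthree : ∀ i, r i = 3 → Nat.card (fixS h hF (x i)) = 16 := by
    intro i hi
    rcases hcases i (by rw [hi]; decide) with ⟨-, ⟨h1, h2⟩ | h1⟩ | ⟨h1, -⟩ | ⟨h1, -⟩
    · exfalso
      have h3 := count_split h hF Q (x i)
      have h4 : Nat.card {v : V // Q v ≠ 0 ∧ x i • v = v} = 1 := by omega
      obtain ⟨⟨n, hn⟩, huq⟩ := Nat.card_eq_one_iff_exists.1 h4
      refine hn.1 (hts n fun k => ?_)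
      exact congrArg Subtype.val (huq ⟨x k • n, hPinv i k n hn⟩)
    · exact h1
    · omega
    · omega
  have hfive : ∀ i, r i = 5 → Nat.card (fixS h hF (x i)) = 4 ∧ Nat.card {v : V // Q v ≠ 0 ∧ x i • v = v} = 3 := by
    intro i hi
    rcases hcases i (by rw [hi]; decide) with ⟨h1, -⟩ | ⟨-, h1, h2⟩ | ⟨h1, -⟩
    · omega
    · have h3 := count_split h hF Q (x i)
      exact ⟨h1, by omega⟩
    · omega
  -- no 7
  have hseven : ∀ i, r i ≠ 7 := by
    intro i hi
    obtain ⟨j, hji⟩ := exists_ne i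
    have h1 : Nat.card (fixS h hF (x i)) = 1 := by
      rcases hcases i (by rw [hi]; decide) with ⟨h1, -⟩ | ⟨h1, -⟩ | ⟨-, h1⟩
      · omega
      · omega
      · exact h1
    have h2 : fixS h hF (x i) = ⊥ := by
      rw [← Submodule.finrank_eq_zero]
      exact finrank_of_card hF (by rw [h1, pow_zero])
    have hri : r j ≠ 7 := fun h3 => hji (hx.inj (by rw [h3, hi]))
    have h3 := card_mod_sub h hF (by norm_num : Nat.Prime 7) (by rw [← hi]; exact hx.pow i) (fixS h hF (x j))
      (inv_fixS h hF (hx.comm j i))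
    have h4 : fixS h hF (x j) ⊓ fixS h hF (x i) = ⊥ := by rw [h2, inf_bot_eq]
    rw [h4, card_sub hF (⊥ : Submodule F V), finrank_bot, pow_zero] at h3
    unfold Nat.ModEq at h3
    by_cases hj2 : r j = 2
    · have h5 := card_mod_sub h hF Nat.prime_two (by rw [← hj2]; exact hx.pow j) ⊤ (fun v _ => trivial) (x := x j)
      rw [top_inf_eq, card_sub hF, finrank_top, hdim] at h5
      have h6 := finrank_fixS_lt h hF (hx.ne j)
      rw [card_sub hF] at h3 h5
      rw [hdim] at h6
      have h7 : finrank F (fixS h hF (x j)) = 3 := by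
        generalize finrank F (fixS h hF (x j)) = d at h3 h5 h6
        unfold Nat.ModEq at h5
        interval_cases d
        · norm_num at h5
        · norm_num at h3
        · norm_num at h3
        · rfl
        · norm_num at h3
        · norm_num at h3
      exact two_seven h hF hdim (x := x i) (u := x j) (by rw [← hj2]; exact hx.pow j) (hx.comm i j) h2 h7
    · rcases hcases j hj2 with ⟨h5, -⟩ | ⟨h5, -⟩ | ⟨h5, -⟩
      · rw [hthree j h5] at h3
        norm_num at h3
      · rw [(hfive j h5).1] at h3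
        norm_num at h3
      · exact hri h5
  have hall : ∀ i, r i = 2 ∨ r i = 3 ∨ r i = 5 := by
    intro i
    by_cases h2 : r i = 2
    · exact Or.inl h2
    · rcases hcases i h2 with ⟨h5, -⟩ | ⟨h5, -⟩ | ⟨h5, -⟩
      · exact Or.inr (Or.inl h5)
      · exact Or.inr (Or.inr h5)
      · exact absurd h5 (hseven i)
  -- 5 occurs
  have h5 : ∃ i, r i = 5 := by
    by_contra hno
    push Not at hno
    obtain ⟨a, b, hab⟩ := exists_pair_ne ι
    have hne : r a ≠ r b := fun h1 => hab (hx.inj h1)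
    obtain ⟨i, j, hi, hj⟩ : ∃ i j, r i = 2 ∧ r j = 3 := by
      rcases hall a with ha | ha | ha
      · rcases hall b with hb | hb | hb
        · omega
        · exact ⟨a, b, ha, hb⟩
        · exact absurd hb (hno b)
      · rcases hall b with hb | hb | hb
        · exact ⟨b, a, hb, ha⟩
        · omega
        · exact absurd hb (hno b)
      · exact absurd ha (hno a)
    refine two_three h hF hQ hdim hplus (x := x j) (u := x i) (by rw [← hj]; exact hx.pow j)
      (by rw [← hi]; exact hx.pow i) (hx.comm j i) (hO j) (hthree j hj) fun v h1 h2 => hts v fun k => ?_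
    rcases hall k with hk | hk | hk
    · rw [hx.inj (hk.trans hi.symm)]; exact h2
    · rw [hx.inj (hk.trans hj.symm)]; exact h1
    · exact absurd hk (hno k)
  obtain ⟨i, hi⟩ := h5
  obtain ⟨hi1, hi2⟩ := hfive i hi
  -- 3 occurs
  have h3 : ∃ j, r j = 3 := by
    by_contra hno
    push Not at hno
    obtain ⟨j, hji⟩ := exists_ne i
    have hj : r j = 2 := by
      rcases hall j with hj | hj | hj
      · exact hj
      · exact absurd hj (hno j)
      · exact absurd (hx.inj (hj.trans hi.symm)) hji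
    have h1 := card_mod Nat.prime_two (by rw [← hj]; exact hx.pow j) (fun v => Q v ≠ 0 ∧ x i • v = v)
      (hPinv i j)
    rw [hi2] at h1
    have h2 : Nat.card {v : V // (Q v ≠ 0 ∧ x i • v = v) ∧ x j • v = v} ≠ 0 := by
      intro h0
      rw [h0] at h1
      unfold Nat.ModEq at h1
      norm_num at h1
    obtain ⟨⟨n, hn, hn2⟩⟩ : Nonempty {v : V // (Q v ≠ 0 ∧ x i • v = v) ∧ x j • v = v} :=
      (Nat.card_ne_zero.1 h2).1
    refine hn.1 (hts n fun k => ?_)
    rcases hall k with hk | hk | hk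
    · rw [hx.inj (hk.trans hj.symm)]; exact hn2
    · exact absurd hk (hno k)
    · rw [hx.inj (hk.trans hi.symm)]; exact hn.2
  obtain ⟨j, hj⟩ := h3
  obtain ⟨-, hCC⟩ := three_five h hF hdim (x := x j) (y := x i) (by rw [← hj]; exact hx.pow j)
    (by rw [← hi]; exact hx.pow i) (hx.comm j i) (hthree j hj) hi1
  refine ⟨i, j, hi, hj, fun k => ?_, hthree j hj, fun (v : V) h1 h2 => ?_⟩
  · rcases hall k with hk | hk | hk
    · exfalso
      exact two_three_five h hF hdim (x := x j) (y := x i) (u := x k) (by rw [← hj]; exact hx.pow j)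
        (by rw [← hi]; exact hx.pow i) (by rw [← hk]; exact hx.pow k) (hx.comm j i) (hx.comm j k) (hx.comm i k)
        (hthree j hj) hi1 (hx.ne k)
    · exact Or.inr (hx.inj (hk.trans hj.symm))
    · exact Or.inl (hx.inj (hk.trans hi.symm))
  · have h3 : v ∈ fixS h hF (x j) ⊓ fixS h hF (x i) := ⟨h1, h2⟩
    rw [hCC, Submodule.mem_bot] at h3
    exact h3

end main

end Cfsg.Agent.H76.RC
end

-- part: H555/RC/DeadEven
section
/-!
# S3510: symplectic groups of dimension at least six in characteristic two (helper555)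

* `dead_even` : no cover by commuting elements of different prime orders.

The linear algebra of the exceptional case of `Sp₆(2)` (elements of order `15`) is helper957's and helper76's.
-/

set_option autoImplicit false

open Cfsg

namespace Cfsg.Agent.H555.RC

open Module QuadraticMap MulAction Cfsg.Agent.H385.RC Cfsg.Agent.H106.RC

/-- **Symplectic groups in characteristic two, dimension `≥ 6`.** -/
theorem dead_even {F V G Ω S : Type} [Field F] [Finite F] [AddCommGroup V] [Module F V] [FiniteDimensional F V] [Group G]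
    [Finite G] [DistribMulAction G V] {B : LinearMap.BilinForm F V} {N : Subgroup G} (h : Ev B N) [MulAction G Ω]
    [Nonempty Ω] (hE : Env G Ω N) [Group S] [Finite S] (hIH : IH (Nat.card S)) (eS : N ≃* S) {ι : Type} [Finite ι]
    {x : ι → G} {r : ι → ℕ} (hx : PF x r) (hcov : Cov Ω x) (hdim : 6 ≤ finrank F V) : False := by
  refine dead_even_red h hE hIH eS hx hcov hdim ?_
  intro hF hd6 Q hQ hplus hO hts
  obtain ⟨ω⟩ := ‹Nonempty Ω›
  obtain ⟨i0, -⟩ := hcov ω
  obtain ⟨j0, hj0⟩ := Cov.two hE hcov hx.ne i0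
  have hnt : Nontrivial ι := ⟨j0, i0, hj0⟩
  obtain ⟨i, j, hi, hj, hij, hcard, hfix⟩ := H76.RC.fifteen_of_plus h hF hd6 hQ hplus hx hO hts
  have hx5 := hx.pow i
  have hx3 := hx.pow j
  rw [hi] at hx5
  rw [hj] at hx3
  refine H957.RC.kill_fifteen h hE hF hd6 (hx.comm i j) hx5 hx3 (hx.ne j) (fun v h1 h2 => hfix v h1 h2) hcard fun w => ?_
  obtain ⟨k, hk⟩ := hcov w
  rcases hij k with rfl | rfl
  · exact Or.inl hk
  · exact Or.inr hk

end Cfsg.Agent.H555.RC
end

-- part: H385/RC/Even
section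
/-!
# S3510, symplectic groups in characteristic two: assembly (helper385)

* `dead_ind` : no cover by elements inducing elements of `PΓSp` (characteristic two)
* `noCov_even` : `PSp m F`, characteristic two, has no cover
-/

set_option autoImplicit false

namespace Cfsg.Agent.H385.RC

open Cfsg Cfsg.Agent.H106.RC Module
open Cfsg.Agent.ClassicalGeometry.SympAutSemi Cfsg.Agent.ClassicalGeometry.SympBasic

/-- conjugation by elements of `N` is induced by semisimilitudes -/
theorem indPsi_of_mem {m : ℕ} {F : Type} [Field F] {G : Type} [Group G] {N : Subgroup G} (e : N ≃* PSp m F) {g : G}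
    (hg : g ∈ N) : IndPsi e g := by
  obtain ⟨A, hA⟩ := QuotientGroup.mk_surjective (e ⟨g, hg⟩)
  have hr : rho m F A ∈ semiSim m F := ⟨RingEquiv.refl F, 1, one_ne_zero, isSemi_rho A⟩
  refine ⟨⟨rho m F A, hr⟩, fun n => ?_⟩
  rw [Cfsg.Agent.H966.PSpAut.Psi_rho A hr, hA, MulAut.conj_apply, ← map_mul, ← map_inv, ← map_mul, e.symm_apply_apply]
  rfl

section

variable {m : ℕ} (hm : 2 ≤ m) {F : Type} [Field F] [Finite F] (h2 : (2 : F) = 0)
  (hq : m = 2 → 3 ≤ Nat.card F) (hIH : IH (Nat.card (PSp m F)))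

include hm h2 hq hIH

/-- no cover by elements inducing elements of `PΓSp` -/
theorem dead_ind {G Ω : Type} [Group G] [Finite G] [MulAction G Ω] [Nonempty Ω] {N : Subgroup G} (hE : Env G Ω N)
    (e : N ≃* PSp m F) {ι : Type} [Finite ι] {x : ι → G} {r : ι → ℕ} (hx : PF x r) (hcov : Cov Ω x)
    (hI : ∀ i, IndPsi e (x i)) : False := by
  have hfin : Finite (PSp m F) := Finite.of_equiv N e.toEquiv
  have hrank : finrank F (Fin m ⊕ Fin m → F) = 2 * m := by
    rw [Module.finrank_fintype_fun_eq_card, Fintype.card_sum, Fintype.card_fin]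
    omega
  refine Cfsg.Agent.H194.RC.even_reduce hm h2 hE e hx hcov hI ?_
  intro H _ _ _ _ N' hEv hE' e' y hy hcy
  rcases Nat.lt_or_ge 2 m with h3 | h3
  · exact Cfsg.Agent.H555.RC.dead_even hEv hE' hIH e' hy hcy (by omega)
  · obtain rfl : m = 2 := le_antisymm h3 hm
    have hq' := hq rfl
    have hr4 : finrank F (Fin 2 ⊕ Fin 2 → F) = 4 := by omega
    have hq2 : 2 < Nat.card F := by omega
    by_cases hlin : ∀ i, y i ∈ N'
    · by_cases hodd : ∀ i, r i ≠ 2
      · exact Cfsg.Agent.H842.RC.m2o hEv hE' hIH e' hy hcy hr4 hq2 hlin hodd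
      · push Not at hodd
        obtain ⟨i, hi⟩ := hodd
        exact Cfsg.Agent.H547.RC.m2u hEv hE' hIH e' hy hcy hr4 hq2 hlin i hi
    · push Not at hlin
      obtain ⟨i, hi⟩ := hlin
      by_cases hfix : ∀ c : F, (∀ v : Fin 2 ⊕ Fin 2 → F, y i • c • v = c • y i • v) → c = 0 ∨ c = 1
      · exact Cfsg.Agent.H547.RC.m2f_two hEv hE' hIH e' hy hcy hr4 i hi hfix
      · push Not at hfix
        obtain ⟨c, hc, hc0, hc1⟩ := hfix
        exact Cfsg.Agent.H327.RC.ev_field hEv hE' hIH e' hy hcy (by omega) i hi (Or.inr ⟨c, hc0, hc1, hc⟩)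

/-- `PSp m F`, characteristic two, has no cover -/
theorem noCov_even
    (hA6 : ∀ g : MulAut (alternatingGroup (Fin 6)), orderOf g ≠ 6 → RCe (alternatingGroup (Fin 6)) g) :
    NoCov (PSp m F) := by
  intro G _ _ Ω _ _ _ N hE e ι _ x r hx hcov _
  by_cases hI : ∀ i, IndPsi e (x i)
  · exact dead_ind hm h2 hq hIH hE e hx hcov hI
  · push Not at hI
    obtain ⟨i, hi⟩ := hI
    rcases Nat.lt_or_ge 2 m with h3 | h3
    · exact (hi (indPsi_of hm hq hE.norm e (Or.inl (Or.inl h3)))).elim
    · obtain rfl : m = 2 := le_antisymm h3 hm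
      by_cases hj : ∀ j, j ≠ i → x j ∈ N
      · refine Cfsg.Agent.H332.RC.gr_two_psp h2 (hq rfl) hE e hx hcov i hi hj ?_
        intro κ _ x' r' hx' hc' hN' _
        exact dead_ind hm h2 hq hIH hE e hx' hc' fun k => indPsi_of_mem e (hN' k)
      · push Not at hj
        obtain ⟨j, hj0, hj⟩ := hj
        exact Cfsg.Agent.H327.RC.gr_one h2 (hq rfl) hE e hIH hA6 hx hcov i hi j hj0 hj

end

end Cfsg.Agent.H385.RC
end

-- part: H67/RC/RowD
section
/-!
# S3510: the row `PSp_{2m}(q)` (helper67)
-/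

set_option autoImplicit false
open Cfsg

namespace Cfsg.Agent.H67.RC

open Cfsg.Agent.H106.RC

/-- **row D of S3510**: the symplectic groups -/
theorem row_psp : Row (fun S _ => IsPSp S) := by
  intro S _ _ hS hn hP _ hIH
  obtain ⟨F, _, _, m, hm, h2, ⟨e⟩⟩ := hP
  by_cases h : (2 : F) = 0
  · have hf : Finite (PSp m F) := Finite.of_equiv S e.toEquiv
    have hS' : IsSimpleGroup (PSp m F) := isSimple_cgr0 e hS
    have hn' : ¬ IsMulCommutative (PSp m F) := by
      intro hc
      apply hn
      constructor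
      constructor
      intro a b
      apply e.injective
      rw [map_mul, map_mul, hc.is_comm.comm]
    refine RC.congr e.symm (rc_of_noCov hS' hn'
      (Cfsg.Agent.H385.RC.noCov_even hm h (fun hm2 => ?_) ?_ Cfsg.Agent.H916.RC.rce_A6))
    · rw [Nat.card_eq_fintype_card]
      exact h2 hm2
    · rwa [← Nat.card_congr e.toEquiv]
  · exact row_psp_odd S hS hn m hm F h e hIH

end Cfsg.Agent.H67.RC
end

-- part: H398/RC/RowUAll
section
/-!
# S3510, family E: the row `PSU` (helper398)
-/

set_option autoImplicit false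

namespace Cfsg.Agent.H398.RC

open Cfsg

/-- **The row for the unitary groups.** -/
theorem row_psu_all : H106.RC.Row (fun S _ => IsPSU S) := row_unitary H67.RC.row_psp

end Cfsg.Agent.H398.RC
end

private theorem dce_3ca672cbb1aa : _root_.True := by
  try have : _root_.True := by simp only [_root_.Cfsg.Agent.H555.RC.sg.eq_1]
  exact _root_.True.intro
end

-- part: H721/RC/Row8
section
prune_inst 0x11020040a600000000000000000005000000420004004004c0202040200a44208020840a10000101220000100010060010000200200000000000000001c00000000100020400000000090000000000000000000000000000000000000010000000000000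
set_option linter.all false
open scoped Cfsg.Agent.FastGrp

-- part: H675/RC/FrameE
section
/-!
# S3510, triality of `PΩ₈⁺(q)`: exact linear lifts are in `Ω` (helper675)

* `O_cosets` : `O Q` is the union of the cosets of `E Q` represented by products of two reflections;
* `mem_E_of_tri` : an isometry with a triple whose third member has multiplier one is in `E`;
* `mem_E_of_ex`, `exists_autD` : linear exact automorphisms of `dia τ` are in `AutD τ`;
* `oct_mem_E` : octonion automorphisms; `Fr.mem` : the linear members of the frame are in `N`.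
-/

set_option autoImplicit false

namespace Cfsg.Agent.H675.RC

open Module QuadraticMap Cfsg.Agent.LieClassical.OrthCore Cfsg.Agent.LieClassical.OrthTrans
  Cfsg.Agent.LieClassical.OrthSimple Cfsg.Agent.ClassicalGeometry.OrthAut1
  Cfsg.Agent.ClassicalGeometry.OrthSemi Cfsg.Agent.H198.Classes
  Cfsg.Agent.LieClassical.QuadForms Cfsg.Agent.H198.ClassesPlus
  Cfsg.Agent.ClassicalGeometry.TrialityOct Cfsg.Agent.ClassicalGeometry.Triality
  Cfsg.Agent.ClassicalGeometry.TrialitySpaces Cfsg.Agent.H198.TriBase Cfsg.Agent.H198.TriAut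
  Cfsg.Agent.H198.TriDia Cfsg.Agent.H198.TriTC Cfsg.Agent.H566.RC Cfsg.Agent.H106.RC Cfsg.Agent.H93.RC

universe u

/-! ### Cosets of `E` in `O` -/

section cosets

variable {F V : Type*} [Field F] [AddCommGroup V] [Module F V] {Q : QuadraticForm F V}

theorem gen_mul1 {G : Type*} [Group G] {r s x y : G} (h : Commute r s) (i j k l : ℕ) :
    r ^ (k + i) * s ^ (l + j) * (x * y) =
      (r ^ k * s ^ l) * (r ^ i * s ^ j * x) * (r ^ k * s ^ l)⁻¹ * (r ^ k * s ^ l * y) := by
  have h1 : s ^ l * r ^ i = r ^ i * s ^ l := ((h.pow_pow i l).eq).symm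
  calc r ^ (k + i) * s ^ (l + j) * (x * y) = r ^ k * (r ^ i * s ^ l) * s ^ j * x * y := by
        rw [pow_add, pow_add]; group
    _ = r ^ k * (s ^ l * r ^ i) * s ^ j * x * y := by rw [h1]
    _ = _ := by group

theorem gen_inv1 {G : Type*} [Group G] {y x : G} (h : y * y = 1) : y * x⁻¹ = y * (y * x)⁻¹ * y⁻¹ := by
  have h1 : y⁻¹ = y := inv_eq_of_mul_eq_one_left h
  rw [mul_inv_rev, h1]
  calc y * x⁻¹ = y * x⁻¹ * (y * y) := by rw [h, mul_one]
    _ = _ := by group

theorem gen_sq1 {G : Type*} [Group G] {r s : G} (hr : r * r = 1) (hs : s * s = 1) (h : Commute r s) (i j : ℕ) :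
    (r ^ i * s ^ j) * (r ^ i * s ^ j) = 1 := by
  have h1 : Commute (r ^ i) (s ^ j) := h.pow_pow i j
  calc (r ^ i * s ^ j) * (r ^ i * s ^ j) = r ^ i * (s ^ j * r ^ i) * s ^ j := by group
    _ = r ^ i * (r ^ i * s ^ j) * s ^ j := by rw [h1.eq]
    _ = (r ^ i * r ^ i) * (s ^ j * s ^ j) := by group
    _ = 1 := by rw [← (Commute.refl r).mul_pow, ← (Commute.refl s).mul_pow, hr, hs, one_pow, one_pow, one_mul]

/-- the cosets of `E` in `O` -/
theorem O_cosets [FiniteDimensional F V] (hG : Good Q) {a b : V} (ha : Q a ≠ 0) (hb : Q b ≠ 0)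
    (hab : polar Q a b = 0) (hsq : ∀ c : F, c ≠ 0 → IsSquare (Q a * c⁻¹) ∨ IsSquare (Q b * c⁻¹))
    {g : V ≃ₗ[F] V} (hg : g ∈ O Q) : ∃ i j : ℕ, refl Q a ha ^ i * refl Q b hb ^ j * g ∈ E Q := by
  set r := refl Q a ha with hr
  set s := refl Q b hb with hs
  have hrs : Commute r s := refl_comm ha hb hab
  have hrO : r ∈ O Q := refl_mem_O ha
  have hsO : s ∈ O Q := refl_mem_O hb
  have hrr : r * r = 1 := refl_mul_self ha
  have hss : s * s = 1 := refl_mul_self hb
  have hyO : ∀ i j : ℕ, r ^ i * s ^ j ∈ O Q := fun i j => mul_mem (pow_mem hrO i) (pow_mem hsO j)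
  have key : ∀ {a v : V} (ha : Q a ≠ 0) (hv : Q v ≠ 0), IsSquare (Q a * (Q v)⁻¹) →
      refl Q a ha * refl Q v hv ∈ E Q := by
    intro a v ha hv hsq
    obtain ⟨c, hc⟩ := hsq
    have hc0 : c ≠ 0 := by
      rintro rfl
      rw [mul_zero] at hc
      exact (mul_ne_zero ha (inv_ne_zero hv)) hc
    have hcv : Q (c • v) = Q a := by
      rw [QuadraticMap.map_smul, ← hc, smul_eq_mul, mul_assoc, inv_mul_cancel₀ hv, mul_one]
    have hcv0 : Q (c • v) ≠ 0 := by rw [hcv]; exact ha
    rw [← refl_smul hv hc0 hcv0]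
    exact hG.refl_mul_refl_mem hcv0 ha hcv
  rw [O_eq_closure hG.nondeg] at hg
  induction hg using Subgroup.closure_induction with
  | mem x hx =>
    rcases hx with ⟨v, hv, rfl⟩ | ⟨u, w, hu, hw, rfl⟩
    · rcases hsq (Q v) hv with h | h
      · refine ⟨1, 0, ?_⟩
        rw [pow_one, pow_zero, mul_one]
        exact key ha hv h
      · refine ⟨0, 1, ?_⟩
        rw [pow_one, pow_zero, one_mul]
        exact key hb hv h
    · refine ⟨0, 0, ?_⟩
      rw [pow_zero, pow_zero, one_mul, one_mul]
      exact siegel_mem_E hu hw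
  | one => exact ⟨0, 0, by rw [pow_zero, pow_zero, one_mul, one_mul]; exact one_mem _⟩
  | mul x y _ _ hx hy =>
    obtain ⟨i, j, hx⟩ := hx
    obtain ⟨k, l, hy⟩ := hy
    refine ⟨k + i, l + j, ?_⟩
    rw [gen_mul1 hrs]
    exact mul_mem (conj_mem_E (hyO k l) hx) hy
  | inv x _ hx =>
    obtain ⟨i, j, hx⟩ := hx
    refine ⟨i, j, ?_⟩
    rw [gen_inv1 (gen_sq1 hrr hss hrs i j)]
    exact conj_mem_E (hyO i j) (inv_mem hx)

end cosets

/-! ### Multipliers of triples -/

variable {F : Type u} [Field F]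

theorem isSS_mul_lin {M N : G8 F} {c d : F} (hM : IsSS (plusForm 4 F) (RingEquiv.refl F) c M.1)
    (hN : IsSS (plusForm 4 F) (RingEquiv.refl F) d N.1) :
    IsSS (plusForm 4 F) (RingEquiv.refl F) (c * d) (M * N).1 := hM.mul hN

theorem isSS_scal_lin (c : Fˣ) :
    IsSS (plusForm 4 F) (RingEquiv.refl F) ((c : F) * c) (scal (plusForm 4 F) c).1 :=
  ⟨mul_ne_zero c.ne_zero c.ne_zero, fun u v => smul_add (c : F) u v, fun a v => smul_comm (c : F) a v, fun v =>
    QuadraticMap.map_smul _ (c : F) v⟩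

theorem isSS_kap : IsSS (plusForm 4 F) (RingEquiv.refl F) 1 (kapG F).1 := H198.TriInn.isSS_kapG

/-- the triple of a product of two reflections -/
theorem tri_refl_mul {a b : V8 F} (ha : plusForm 4 F a ≠ 0) (hb : plusForm 4 F b ≠ 0) :
    ∃ (M₁ M₂ : G8 F) (d : F), d ≠ 0 ∧ TriS (gamO _ ⟨refl (plusForm 4 F) a ha, refl_mem_O ha⟩ *
      gamO _ ⟨refl (plusForm 4 F) b hb, refl_mem_O hb⟩) M₁ M₂ ∧
      IsSS (plusForm 4 F) (RingEquiv.refl F) (plusForm 4 F a * plusForm 4 F b * (d * d)) M₂.1 := by
  rw [gamO_refl, gamO_refl]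
  set c := Units.mk0 (-(plusForm 4 F a)⁻¹) (neg_ne_zero.2 (inv_ne_zero ha))
  set d := Units.mk0 (-(plusForm 4 F b)⁻¹) (neg_ne_zero.2 (inv_ne_zero hb))
  have e : scal _ c * (bG a ha * kapG F) * (scal _ d * (bG b hb * kapG F)) =
      scal _ c * bG a ha * (kapG F * (scal _ d * bG b hb) * kapG F) := by group
  rw [e]
  have h1 := ((tri_scal c).mul (tri_bG a ha)).mul ((tri_scal d).mul (tri_bG b hb)).kap
  refine ⟨_, _, (d : F), d.ne_zero, h1, ?_⟩
  have h2 := isSS_mul_lin (isSS_mul_lin (M := (1 : G8 F)) (c := 1) ⟨one_ne_zero, fun _ _ => rfl, fun _ _ => rfl,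
    fun _ => by rw [one_mul]; rfl⟩ (N := rG a ha) (isSS_rP a ha))
    (isSS_mul_lin (isSS_mul_lin isSS_kap (isSS_mul_lin (isSS_scal_lin d) (N := lG b hb) (isSS_lP b hb)))
      isSS_kap)
  have h3 : 1 * plusForm 4 F a * (1 * ((d : F) * d * plusForm 4 F b) * 1) =
      plusForm 4 F a * plusForm 4 F b * ((d : F) * d) := by ring
  rw [h3] at h2
  exact h2

/-- the multipliers of the third member are unique modulo squares -/
theorem mult_class (hG : Good (plusForm 4 F)) {M M₁ M₂ N₁ N₂ : G8 F} (h : TriS M M₁ M₂) (h' : TriS M N₁ N₂)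
    {m n : F} (hm : IsSS (plusForm 4 F) (RingEquiv.refl F) m M₂.1)
    (hn : IsSS (plusForm 4 F) (RingEquiv.refl F) n N₂.1) : ∃ c : F, c ≠ 0 ∧ m = n * (c * c) := by
  have h1 := (rho_inv_conj hG h).symm.trans (rho_inv_conj hG h')
  obtain ⟨c, hc⟩ := smul_of_Psi_eq hG h1
  refine ⟨c, c.ne_zero, ?_⟩
  have h2 : oconj (M₂.1 (oconj (one8 F))) = oconj (N₂.1 (oconj ((c : F) • one8 F))) := hc (one8 F)
  have h3 := congrArg (plusForm 4 F) h2
  rw [norm_oconj, norm_oconj, hm.form, hn.form, norm_oconj, norm_oconj, QuadraticMap.map_smul, norm_one8] at h3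
  simpa using h3

/-! ### Membership in `E` -/

theorem exists_b (n : F) : ∃ b : V8 F, plusForm 4 F b = n ∧ polar (plusForm 4 F) (one8 F) b = 0 := by
  refine ⟨Sum.elim ![0, 1, 0, 0] ![0, n, 0, 0], ?_, ?_⟩
  · rw [norm8]; simp
  · rw [polar8]; simp [one8]

theorem square_or [Finite F] {n c : F} (hn : ¬ IsSquare n) :
    IsSquare (1 * c⁻¹) ∨ IsSquare (n * c⁻¹) := by
  classical
  have := Fintype.ofFinite F
  rw [one_mul]
  by_contra hno
  push Not at hno
  have hn0 : n ≠ 0 := by
    rintro rfl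
    exact hn ⟨0, by simp⟩
  have h1 := quadraticChar_neg_one_iff_not_isSquare.2 hn
  have h3 := quadraticChar_neg_one_iff_not_isSquare.2 hno.1
  have h4 := quadraticChar_neg_one_iff_not_isSquare.2 hno.2
  rw [map_mul, h1, h3] at h4
  exact absurd h4 (by decide)

/-- **an isometry with a triple whose third member has multiplier one is in `E`** -/
theorem mem_E_of_tri [Finite F] (hG : Good (plusForm 4 F)) {g : V8 F ≃ₗ[F] V8 F} (hg : g ∈ O (plusForm 4 F))
    {M₁ M₂ : G8 F} (hT : TriS (gamO _ ⟨g, hg⟩) M₁ M₂)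
    (h1 : IsSS (plusForm 4 F) (RingEquiv.refl F) 1 M₂.1) : g ∈ E (plusForm 4 F) := by
  have hkp : kp F (gamO _ ⟨g, hg⟩) = 1 := (mem_T1_iff hG).1 ⟨_, _, hT⟩
  by_cases h2 : (2 : F) = 0
  · exact H989.OkuboRoot.mem_E_of_kp h2 hG hg hkp
  have h2' : ringChar F ≠ 2 := by
    intro h
    apply h2
    have := ringChar.charP F
    rw [h] at this
    exact CharP.cast_eq_zero F 2
  obtain ⟨n, hn⟩ := FiniteField.exists_nonsquare h2'
  have hn0 : n ≠ 0 := by
    rintro rfl
    exact hn ⟨0, by simp⟩
  obtain ⟨b, hb, hab⟩ := exists_b n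
  have ha : plusForm 4 F (one8 F) ≠ 0 := by rw [norm_one8]; exact one_ne_zero
  have hb0 : plusForm 4 F b ≠ 0 := by rw [hb]; exact hn0
  obtain ⟨i, j, he⟩ := O_cosets hG ha hb0 hab (by
    intro c hc
    rw [hb, norm_one8]
    exact square_or hn) hg
  set r := refl (plusForm 4 F) (one8 F) ha with hr
  set s := refl (plusForm 4 F) b hb0 with hs
  have hrO : r ∈ O (plusForm 4 F) := refl_mem_O ha
  have hsO : s ∈ O (plusForm 4 F) := refl_mem_O hb0
  have hrr : r * r = 1 := refl_mul_self ha
  have hss : s * s = 1 := refl_mul_self hb0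
  -- parity
  have hpar : Even (i + j) := by
    have h3 : kp F (gamO _ ⟨r ^ i * s ^ j * g, E_le_O he⟩) = 1 := kappa_of_E hG _ he
    have h4 : (⟨r ^ i * s ^ j * g, E_le_O he⟩ : O (plusForm 4 F)) = ⟨r, hrO⟩ ^ i * ⟨s, hsO⟩ ^ j * ⟨g, hg⟩ := rfl
    (simp only [h4] at h3; rewrite [map_mul, map_mul, map_mul] at h3; simp only [map_mul] at h3; (conv at h3 => enter [@2, @5, @5, @6]; rw [map_pow]); (conv at h3 => enter [@2, @5, @5]; rw [map_pow]); (conv at h3 => enter [@2, @5, @6, @6]; rw [map_pow]); simp only [map_pow] at h3; (conv at h3 => enter [@2, @5, @5, @5]; rw [kp_refl]); (conv at h3 => enter [@2, @5, @6, @5]; rw [kp_refl]); rewrite [hkp, mul_one, ← pow_add] at h3)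
    by_contra hne
    rw [Nat.not_even_iff_odd] at hne
    rw [hne.neg_one_pow] at h3
    exact absurd h3 (by decide)
  have hev : ∀ {x : V8 F ≃ₗ[F] V8 F} {i : ℕ}, x * x = 1 → Even i → x ^ i = 1 := by
    rintro x i hx ⟨k, rfl⟩
    rw [pow_add, ← (Commute.refl x).mul_pow, hx, one_pow]
  rcases Nat.even_or_odd i with hi | hi
  · have hj : Even j := (Nat.even_add.1 hpar).1 hi
    rw [hev hrr hi, hev hss hj, one_mul, one_mul] at he
    exact he
  · exfalso
    have hj : Odd j := by
      rw [← Nat.not_even_iff_odd] at hi ⊢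
      exact fun h => hi ((Nat.even_add.1 hpar).2 h)
    have hod : ∀ {x : V8 F ≃ₗ[F] V8 F} {i : ℕ}, x * x = 1 → Odd i → x ^ i = x := by
      rintro x i hx ⟨k, rfl⟩
      rw [pow_succ, pow_mul, pow_two, hx, one_pow, one_mul]
    rw [hod hrr hi, hod hss hj] at he
    obtain ⟨e₁, e₂, hT'⟩ := exists_triple hG he
    have h5 := triS_of_triE hT'
    obtain ⟨A₁, A₂, d, hd, h6, h7⟩ := tri_refl_mul ha hb0
    have h8 : gamO (plusForm 4 F) ⟨r * s * g, E_le_O hT'.1.1⟩ =
        gamO _ ⟨r, hrO⟩ * gamO _ ⟨s, hsO⟩ * gamO _ ⟨g, hg⟩ := rfl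
    rw [h8] at h5
    obtain ⟨c, hc, h9⟩ := mult_class hG h5 (h6.mul hT) (m := 1) (n := _)
      ⟨one_ne_zero, fun u v => map_add e₂ u v, fun a v => map_smul e₂ a v, fun v => by
        rw [one_mul]
        exact E_le_O hT'.1.2.2 v⟩ (isSS_mul_lin h7 h1)
    rw [norm_one8, hb, one_mul, mul_one] at h9
    apply hn
    refine ⟨(d * c)⁻¹, ?_⟩
    field_simp
    linear_combination -h9

/-! ### Linear exact automorphisms -/

/-- **a linear exact automorphism of `dia τ` is in `AutD τ`** -/
theorem exists_autD [Finite F] (hG : Good (plusForm 4 F)) {τ M : G8 F} (hτ : TriS τ τ τ) (ho : τ ^ 3 = 1)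
    (hM : Ex τ M) (hl : H198.TriDia.IsLin M) :
    ∃ g : ↥(E (plusForm 4 F)), (g : V8 F ≃ₗ[F] V8 F) ∈ AutD τ ∧ tg (plusForm 4 F) g = M := by
  obtain ⟨c, hc⟩ := hl
  obtain rfl := hM.mult hτ ho hc
  obtain ⟨⟨g, hg⟩, rfl⟩ := exists_gamO hc
  have hob_ := τ.2
  obtain ⟨ν, k, ht⟩ := hob_
  have hob_ := aut_mult hτ ht
  obtain rfl := hob_
  have hti : IsSS (plusForm 4 F) ν.symm (ν.symm 1⁻¹) τ⁻¹.1 := ht.inv
  have h1 := tri_of_aut hM
  have h2 : IsSS (plusForm 4 F) (RingEquiv.refl F) 1 (τ * kapG F * gamO _ ⟨g, hg⟩ * kapG F * τ⁻¹).1 := by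
    have h3 := (((ht.mul isSS_kap).mul hc).mul isSS_kap).mul hti
    have e1 : ν.symm.trans ((RingEquiv.refl F).trans ((RingEquiv.refl F).trans ((RingEquiv.refl F).trans ν))) =
        RingEquiv.refl F := by
      ext x
      simp
    rw [e1] at h3
    simpa only [_root_.Subgroup.coe_mul, _root_.InvMemClass.coe_inv, _root_.map_one, _root_.mul_one, _root_.RingEquiv.coe_trans, _root_.RingEquiv.coe_refl, _root_.Function.comp_apply, _root_.id_eq, _root_.CompTriple.comp_eq, _root_.inv_one] using h3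
  have hE := mem_E_of_tri hG hg h1 h2
  exact ⟨⟨g, hE⟩, ⟨hE, hM⟩, rfl⟩

/-! ### Linear members of the frame -/

/-- **the linear members of the frame are in `N`** -/
theorem Fr.mem [Finite F] {hG : Good (plusForm 4 F)} {G Ω ι : Type*} [Group G] [MulAction G Ω] {N : Subgroup G}
    (hE : Env G Ω N) {σ : P8 F →* G} {x : ι → G} {r : ι → ℕ} {i₁ : ι} {τ : G8 F} {M : ι → G8 F}
    (h : Fr hG N x r σ i₁ τ M) {j : ι} (hj : j ≠ i₁) (hl : H198.TriDia.IsLin (M j)) :
    ∃ g : ↥(E (plusForm 4 F)), (g : V8 F ≃ₗ[F] V8 F) ∈ AutD τ ∧ tg (plusForm 4 F) g = M j ∧ x j = up σ g := by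
  have hob_ := exists_autD hG h.tri h.cube (h.ex j) hl
  obtain ⟨g, hg, h1⟩ := hob_
  refine ⟨g, hg, h1, ?_⟩
  have h2 : La σ (x j) (Psi _ (M j)) := La.lf.2 (h.lf j hj)
  have h3 : La σ (up σ g) (Psi _ (M j)) := by
    simp only [← h1]
    exact La.lf.2 (Lf.tg g)
  exact La.eq hE h.rp h2 h3

end Cfsg.Agent.H675.RC
end

-- part: H377/RowAut
section
/-!
# Automorphisms of odd prime order of `E Q / Z` induced by semisimilitudes (helper377)

* `inner_of_lin` : similitudes induce inner automorphisms (odd prime order);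
* `field_ne` : properly semilinear ones fix no element of large prime order.
-/

set_option autoImplicit false
set_option linter.unusedSectionVars false
set_option linter.style.haveILetI false

namespace Cfsg.Agent.H377.RowOrth

open QuadraticMap Module Subgroup Matrix
open Cfsg.Agent.LieClassical.OrthCore Cfsg.Agent.LieClassical.OrthTrans
open Cfsg.Agent.ClassicalGeometry.OrthAut1 (center_scalar)
open Cfsg.Agent.ClassicalGeometry.OrthSemi
open Cfsg.Agent.CpAut.Orth
open Cfsg.Agent.H568 Cfsg.Agent.H377.Fpf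

section Inner

variable {F V : Type*} [Field F] [AddCommGroup V] [Module F V] {Q : QuadraticForm F V}

end Inner

section Field

variable {F : Type*} [Field F] [Finite F] {ι : Type*} [Fintype ι] [DecidableEq ι] {Q : QuadraticForm F (ι → F)}

end Field

end Cfsg.Agent.H377.RowOrth
end

-- part: H377/RowOwn
section
/-!
# Own characteristic in the orthogonal rows of S4329 (helper377)

`noNorm_own` : `p` the (odd) characteristic, `X` an element of `E Q` without nonzero invariant totally singular subspace: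
the image of `X` normalises no nontrivial `p`-subgroup.
`aniso_of_sign` : a nondegenerate plane of sign `-1` is anisotropic.
-/

set_option autoImplicit false
set_option linter.unusedSectionVars false
set_option linter.style.haveILetI false

namespace Cfsg.Agent.H377.RowOrth

open QuadraticMap Module Subgroup Matrix
open Cfsg.Agent.LieClassical.OrthCore Cfsg.Agent.LieClassical.OrthTrans
open Cfsg.Agent.H568 Cfsg.Agent.H377.Fpf

variable {F : Type*} [Field F] {ι : Type*} [Fintype ι] [DecidableEq ι] {Q : QuadraticForm F (ι → F)}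

end Cfsg.Agent.H377.RowOrth
end

-- part: H377/RowNum
section
/-!
# Number theory for the orthogonal rows of S4329 (helper377)

`Prm r f e l` : `l` is a prime such that `r` has order `f * e` modulo `l`; `q = r ^ f`.
-/

set_option autoImplicit false

namespace Cfsg.Agent.H377.RowNum

/-- `l` is a primitive prime divisor of `r ^ (f * e) - 1`. -/
structure Prm (r f e l : ℕ) : Prop where
  prime : l.Prime
  order : orderOf ((r : ℕ) : ZMod l) = f * e

variable {r f e l : ℕ}

end Cfsg.Agent.H377.RowNum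
end

-- part: H377/RowOPlusA
section
/-!
# The row `PΩ⁺_{2n}(q)` of S4329, inner automorphisms (helper377)
-/

set_option autoImplicit false
set_option linter.unusedSectionVars false
set_option linter.style.haveILetI false

namespace Cfsg.Agent.H377.RowOPlus

open QuadraticMap Module Subgroup Cfsg
open Cfsg.Agent.LieClassical.OrthCore Cfsg.Agent.LieClassical.OrthTrans Cfsg.Agent.LieClassical.OrthForms
open Cfsg.Agent.LieClassical.OrthFinite
open Cfsg.Agent.ClassicalGeometry.OrthSemi
open Cfsg.Agent.ClassicalGeometry.OrthSemiForms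
open Cfsg.Agent.H568 Cfsg.Agent.H377.Fpf Cfsg.Agent.H377.RowOrth Cfsg.Agent.H377.RowNum
open Cfsg.Agent.H182.Cent (Inv IsoP fixS mem_fixS)

variable {F : Type} [Field F] [Fintype F] {n : ℕ}

end Cfsg.Agent.H377.RowOPlus
end

-- part: H377/RowOPlusB
section
/-!
# The row `PΩ⁺_{2n}(q)` of S4329: own characteristic, inner automorphisms, field automorphisms (helper377)
-/

set_option autoImplicit false
set_option linter.unusedSectionVars false
set_option linter.style.haveILetI false

namespace Cfsg.Agent.H377.RowOPlus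

open QuadraticMap Module Subgroup Cfsg
open Cfsg.Agent.LieClassical.OrthCore Cfsg.Agent.LieClassical.OrthTrans Cfsg.Agent.LieClassical.OrthForms
open Cfsg.Agent.LieClassical.OrthFinite
open Cfsg.Agent.ClassicalGeometry.OrthSemi
open Cfsg.Agent.ClassicalGeometry.OrthSemiForms
open Cfsg.Agent.H568 Cfsg.Agent.H377.Fpf Cfsg.Agent.H377.RowOrth Cfsg.Agent.H377.RowNum
open Cfsg.Agent.H182.Cent (Inv IsoP fixS mem_fixS)

variable {F : Type} [Field F] [Fintype F] {n : ℕ}

end Cfsg.Agent.H377.RowOPlus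
end

-- part: H377/RowOPlusC
section
/-!
# The row `PΩ⁺_{2n}(q)` of S4329: automorphisms induced by semisimilitudes (helper377)
-/

set_option autoImplicit false
set_option linter.unusedSectionVars false
set_option linter.style.haveILetI false

namespace Cfsg.Agent.H377.RowOPlus

open QuadraticMap Module Subgroup Cfsg
open Cfsg.Agent.LieClassical.OrthCore Cfsg.Agent.LieClassical.OrthTrans Cfsg.Agent.LieClassical.OrthForms
open Cfsg.Agent.LieClassical.OrthFinite
open Cfsg.Agent.ClassicalGeometry.OrthSemi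
open Cfsg.Agent.ClassicalGeometry.OrthSemiForms
open Cfsg.Agent.H568 Cfsg.Agent.H377.Fpf Cfsg.Agent.H377.RowOrth Cfsg.Agent.H377.RowNum

variable {F : Type} [Field F] [Fintype F] {n : ℕ}

end Cfsg.Agent.H377.RowOPlus
end

-- part: H377/RowTriA
section
/-!
# Triality in the row `PΩ₈⁺(q)` of S4329: the two general lemmas (helper377)

* `coset_three` : an element of odd prime order acts trivially or without fixed points on the cosets of a subgroup
  of index three;
* `not_fixed` : an element of `E Q` fixing a singular vector and leaving invariant no totally singular 4-space is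
  not fixed (modulo scalars) by an automorphism which is not induced by a semisimilitude.
-/

set_option autoImplicit false
set_option linter.unusedSectionVars false
set_option linter.style.haveILetI false

namespace Cfsg.Agent.H377.RowTri

open QuadraticMap Module Subgroup
open Cfsg.Agent.LieClassical.OrthCore Cfsg.Agent.LieClassical.OrthTrans
open Cfsg.Agent.ClassicalGeometry.OrthAut1
open Cfsg.Agent.ClassicalGeometry.OrthSemi
open Cfsg.Agent.AutOrth.Main (Pt)

variable {F V : Type*} [Field F] [AddCommGroup V] [Module F V] {Q : QuadraticForm F V}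

theorem mem_stab_pact (hG : Good Q) (p s : P Q) (W : Submodule F V) :
    p ∈ stab hG (pact hG s W) ↔ s⁻¹ * p * s ∈ stab hG W := by
  rw [mem_stab, mem_stab, map_mul, map_mul, map_inv, Equiv.Perm.mul_apply, Equiv.Perm.mul_apply,
    Equiv.Perm.inv_eq_iff_eq]

/-- One point stabiliser is enough. -/
theorem pt_of_one (hG : Good Q) {b : MulAut (P Q)} {v y : V} (hv : Q v = 0) (hv0 : v ≠ 0)
    (hy : Q y = 0) (hy0 : y ≠ 0)
    (h : (stab hG (Submodule.span F {v})).map b.toMonoidHom = stab hG (Submodule.span F {y})) : Pt hG b := by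
  intro x hx hx0
  obtain ⟨g, hgE, hg⟩ := hG.trans_sing hv hx hv0 hx0
  obtain ⟨k, hk⟩ := QuotientGroup.mk_surjective (b ((⟨g, hgE⟩ : ↥(E Q)) : P Q))
  refine ⟨(k : V ≃ₗ[F] V) y, ?_, ?_, ?_⟩
  · rw [← hy]
    exact mem_O.1 (E_le_O k.2) y
  · intro h0
    exact hy0 ((k : V ≃ₗ[F] V).map_eq_zero_iff.1 h0)
  · have e1 : Submodule.span F {x} = pact hG ((⟨g, hgE⟩ : ↥(E Q)) : P Q) (Submodule.span F {v}) := by
      rw [pact_mk, mapHom_span, ← hg]
    have e2 : Submodule.span F {(k : V ≃ₗ[F] V) y} = pact hG (k : P Q) (Submodule.span F {y}) := by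
      rw [pact_mk, mapHom_span]
    ext p
    rw [mem_map]
    constructor
    · rintro ⟨p, hp, rfl⟩
      rw [e1, mem_stab_pact] at hp
      change b p ∈ _
      rw [e2, mem_stab_pact, ← h, mem_map]
      refine ⟨_, hp, ?_⟩
      change b _ = _
      rw [map_mul, map_mul, map_inv, hk]
    · intro hp
      rw [e2, mem_stab_pact, ← h, mem_map] at hp
      obtain ⟨p', hp', he⟩ := hp
      refine ⟨((⟨g, hgE⟩ : ↥(E Q)) : P Q) * p' * ((⟨g, hgE⟩ : ↥(E Q)) : P Q)⁻¹, ?_, ?_⟩
      · rw [e1, mem_stab_pact]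
        have : (((⟨g, hgE⟩ : ↥(E Q)) : P Q))⁻¹ * ((((⟨g, hgE⟩ : ↥(E Q)) : P Q)) * p' *
            (((⟨g, hgE⟩ : ↥(E Q)) : P Q))⁻¹) * (((⟨g, hgE⟩ : ↥(E Q)) : P Q)) = p' := by group
        rw [this]
        exact hp'
      · change b _ = _
        change b p' = _ at he
        rw [map_mul, map_mul, map_inv, he, ← hk]
        group

end Cfsg.Agent.H377.RowTri
end

-- part: H679/RC/TriField
section
/-!
# S3510, non-geometric automorphisms of orthogonal groups: a field automorphism in the cover (helper679)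

* `exists_three` : an element of order three of `E Q` which is not a scalar;
* `not_fix_lattice` : an automorphism of `P Q` not induced by a semisimilitude does not fix pointwise the image of the
  orthogonal group of a lattice over a subfield;
* `exists_descent` : descent (helper188) with arbitrary linear elements commuting with the nonlinear members;
* `box_field` : a cover with a non-geometric element of order three and a nonlinear member does not exist.
-/

set_option autoImplicit false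
set_option linter.unusedSimpArgs false
open Cfsg

namespace Cfsg.Agent.H679.RC.TriField

open QuadraticMap MulAction
open Cfsg.Agent.LieClassical.OrthCore Cfsg.Agent.LieClassical.OrthTrans
open Cfsg.Agent.LieClassical.OrthSimple Cfsg.Agent.ClassicalGeometry.OrthSemi
open Cfsg.Agent.ClassicalGeometry.OrthAut1 Cfsg.Agent.H106.RC Cfsg.Agent.H93.RC

section desc

open Cfsg.Agent.H188.RC

variable {F V : Type*} [Field F] [Finite F] [AddCommGroup V] [Module F V] [FiniteDimensional F V]
  {Q : QuadraticForm F V} {G : Type*} [Group G] {N : Subgroup G} {ρ : ↥(E Q) →* G}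

/-- **Descent** (helper188), with arbitrary linear elements commuting with the nonlinear members. -/
theorem exists_descent (hG : Good Q) (hρ : _root_.Cfsg.Agent.H93.RC.Rep Q N ρ) {ι : Type*} [Finite ι] {x : ι → G} {M : ι → Gam Q}
    {r : ι → ℕ} (hl : ∀ i, Lf ρ (x i) (M i)) (hx : PF x r) (hnl : ∃ i, ¬ IsLin (M i)) :
    ∃ (K : Subfield F) (b : Module.Basis (Fin (Module.finrank F V)) F V)
      (Q₀ : QuadraticForm K (Fin (Module.finrank F V) → K)) (d : F),
      ¬ Function.Surjective K.subtype ∧ d ≠ 0 ∧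
      (∀ v, Q (semJ K.subtype b v) = d * K.subtype (Q₀ v)) ∧
      (∀ i, ¬ IsLin (M i) → ∃ s : F, s ≠ 0 ∧ ∀ v, (M i).1 (semJ K.subtype b v) = s • semJ K.subtype b v) ∧
      ∀ (z : G) (Z : Gam Q), Lf ρ z Z → IsLin Z → (∀ i, ¬ IsLin (M i) → z * x i = x i * z) →
        ∃ (s : F) (T : (Fin (Module.finrank F V) → K) ≃ₗ[K] (Fin (Module.finrank F V) → K)),
        s ≠ 0 ∧ ∀ v, Z.1 (semJ K.subtype b v) = s • semJ K.subtype b (T v) := by
  classical
  -- the nonlinear members
  let κ := {i : ι // ¬ IsLin (M i)}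
  have hf : ∀ i : κ, ∃ τ : F ≃+* F, τ ≠ 1 ∧ Fld ρ (x i) τ := by
    rintro ⟨i, hi⟩
    obtain ⟨σ, c, hM⟩ := (M i).2
    refine ⟨σ, ?_, M i, c, hl i, hM⟩
    rintro rfl
    exact hi (isLin_of_ss hM)
  obtain ⟨g, τ, hgc, hgk, ⟨Y, c₀, hY, hYs⟩, hgm⟩ := exists_gen_fld (x := fun i : κ => x i) (r := fun i : κ => r i)
    hG hρ (fun i => hx.prime i) (fun i j h => Subtype.ext (hx.inj h)) (fun i => hx.pow i)
    (fun i j => hx.comm i j) hf
  have hτ1 : τ ≠ 1 := by
    obtain ⟨i, hi⟩ := hnl
    obtain ⟨k, hk⟩ := hgk ⟨i, hi⟩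
    obtain ⟨σ, hσ1, hσ⟩ := hf ⟨i, hi⟩
    rintro rfl
    apply hσ1
    have h1 : Fld ρ (x i) ((1 : F ≃+* F) ^ k) := by
      show Fld ρ (x i) _
      have : x i = g ^ k := hk
      rw [this]
      exact Fld.pow ⟨Y, c₀, hY, hYs⟩ k
    rw [one_pow] at h1
    exact hσ.uniq hG hρ h1
  have hfin : Finite (F ≃+* F) := Finite.of_injective (fun e : F ≃+* F => (e : F → F)) DFunLike.coe_injective
  -- descent
  obtain ⟨c₁, -, hc₁⟩ := hY.pow_scal hG hρ hgm
  obtain ⟨a, ha, b, hb⟩ := descent τ (orderOf τ) (orderOf_pos τ) rfl { Y.1 with map_add' := hYs.add }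
    (fun t v => hYs.smul t v) c₁ (by
      intro v
      have h1 := hc₁ v
      rw [Subgroup.coe_pow, ← Equiv.Perm.iterate_eq_pow] at h1
      exact h1)
  have hb' : ∀ i, Y.1 (b i) = a⁻¹ • b i := by
    intro i
    have h1 : a • Y.1 (b i) = b i := hb i
    rw [← h1, smul_smul, inv_mul_cancel₀ ha, one_smul]
    exact congrArg Y.1 h1
  let K : Subfield F := (τ : F →+* F).eqLocusField (RingHom.id F)
  have hK : ∀ t, t ∈ K ↔ τ t = t := fun t => Iff.rfl
  set J := semJ K.subtype b with hJ
  let Yh : V →+ V := ⟨⟨Y.1, hYs.map_zero⟩, hYs.add⟩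
  have hYh : ∀ v, Yh v = Y.1 v := fun v => rfl
  have hYJ : ∀ v, Y.1 (J v) = a⁻¹ • J v := by
    intro v
    rw [← hYh, hJ, semJ, map_sum, Finset.smul_sum]
    refine Finset.sum_congr rfl fun i _ => ?_
    rw [hYh, hYs.smul, hb']
    have h1 : τ (K.subtype (v i)) = K.subtype (v i) := (v i).2
    rw [h1, smul_comm]
  have hYk : ∀ k : ℕ, ∃ t : F, t ≠ 0 ∧ ∀ v, (Y ^ k).1 (J v) = t • J v := by
    intro k
    induction k with
    | zero => exact ⟨1, one_ne_zero, fun v => by rw [pow_zero, one_smul]; rfl⟩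
    | succ k ih =>
      obtain ⟨t, ht, h⟩ := ih
      refine ⟨τ t * a⁻¹, mul_ne_zero ((map_ne_zero τ).mpr ht) (inv_ne_zero ha), fun v => ?_⟩
      rw [pow_succ']
      show Y.1 ((Y ^ k).1 (J v)) = _
      rw [h, hYs.smul, hYJ, smul_smul]
  -- the form
  have hμ : c₀⁻¹ * (a⁻¹ * a⁻¹) ≠ 0 := mul_ne_zero (inv_ne_zero hYs.ne) (mul_ne_zero (inv_ne_zero ha) (inv_ne_zero ha))
  obtain ⟨Q₀, d, hd, hQ⟩ := exists_form hG hK b hμ (by
    intro v
    have h1 := hYs.form (J v)
    rw [hYJ, QuadraticMap.map_smul, smul_eq_mul] at h1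
    rw [← hJ, mul_assoc, h1, ← mul_assoc, inv_mul_cancel₀ hYs.ne, one_mul])
  refine ⟨K, b, Q₀, d, ?_, hd, hQ, ?_, ?_⟩
  · intro hsurj
    apply hτ1
    ext t
    obtain ⟨u, rfl⟩ := hsurj t
    exact u.2
  · intro i hi
    obtain ⟨k, hk⟩ := hgk ⟨i, hi⟩
    have h1 : Lf ρ (x i) (Y ^ k) := by
      have : x i = g ^ k := hk
      rw [this]
      exact hY.pow k
    obtain ⟨u, hu, h2⟩ := lf_unique hG hρ (hl i) h1
    obtain ⟨t, ht, h3⟩ := hYk k
    refine ⟨u * t, mul_ne_zero hu ht, fun v => ?_⟩
    rw [← hJ, h2, h3, smul_smul]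
  · intro z Z hz hi hzc
    obtain ⟨σ, c, hM⟩ := Z.2
    have hσ := ss_one_of_isLin hG hi hM
    subst hσ
    -- commutation
    have hcg : z * g = g * z := by
      have h1 : Subgroup.closure (Set.range fun j : κ => x j) ≤ Subgroup.centralizer {z} := by
        rw [Subgroup.closure_le]
        rintro _ ⟨j, rfl⟩
        rw [SetLike.mem_coe, Subgroup.mem_centralizer_singleton_iff]
        exact (hzc j j.2).symm
      exact (Subgroup.mem_centralizer_singleton_iff.mp (h1 hgc)).symm
    obtain ⟨l, hl0, hcomm⟩ := hz.comm hG hρ hY hcg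
    let X : V →ₗ[F] V := { toFun := Z.1, map_add' := hM.add, map_smul' := hi }
    have hXa : ∀ v, X v = Z.1 v := fun v => rfl
    let cf : Fin (Module.finrank F V) → Fin (Module.finrank F V) → F := fun k j => b.repr (X (b j)) k
    have hcf : ∀ j, X (b j) = ∑ k, cf k j • b k := fun j => (b.sum_repr (X (b j))).symm
    have hrel : ∀ k j, cf k j = l * τ (cf k j) := by
      intro k j
      have h1 := hcomm (b j)
      rw [hb', hi, ← hXa, hcf, ← hYh, map_sum] at h1
      have h2 : ∀ k, Yh (cf k j • b k) = a⁻¹ • (τ (cf k j) • b k) := fun k => by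
        rw [hYh, hYs.smul, hb', smul_comm]
      rw [Finset.sum_congr rfl fun k _ => h2 k, ← Finset.smul_sum, smul_comm l a⁻¹] at h1
      have h3 := smul_right_injective V (inv_ne_zero ha) h1
      have h4 := congrArg (fun v => b.repr v k) h3
      simp only [Finset.smul_sum, smul_smul, map_sum, map_smul, Finsupp.coe_finsetSum, Finset.sum_apply,
        Finsupp.smul_apply, Module.Basis.repr_self, smul_eq_mul] at h4
      have h5 : ∀ f : Fin (Module.finrank F V) → F, ∑ j, f j * (Finsupp.single j (1 : F)) k = f k := by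
        intro f
        rw [Finset.sum_eq_single k]
        · rw [Finsupp.single_eq_same, mul_one]
        · intro j _ hj
          rw [Finsupp.single_eq_of_ne (by (clear * - hj; tauto)), mul_zero]
        · intro h
          exact (h (Finset.mem_univ k)).elim
      rw [h5, h5] at h4
      exact h4
    obtain ⟨k₀, j₀, hs⟩ : ∃ k j, cf k j ≠ 0 := by
      by_contra hno
      push Not at hno
      obtain ⟨y, z, hyz⟩ := hG.exists_hyp
      have h1 : X = 0 := b.ext fun j => by
        rw [hcf j]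
        simp only [hno, _root_.zero_smul, _root_.Finset.sum_const_zero, _root_.LinearMap.zero_apply]
      have h2 : Z.1 y = Z.1 0 := by
        rw [← hXa, ← hXa, h1]
        rfl
      exact hyz.left_ne (Z.1.injective h2)
    set s := cf k₀ j₀ with hsdef
    have hmem : ∀ k j, cf k j / s ∈ K := by
      intro k j
      rw [hK, map_div₀]
      have h1 := hrel k j
      have h2 := hrel k₀ j₀
      rw [← hsdef] at h2
      have hτs : τ s ≠ 0 := (map_ne_zero τ).mpr hs
      rw [div_eq_div_iff hτs hs]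
      have h3 : cf k j * τ s = l * τ (cf k j) * τ s := by rw [← h1]
      have h4 : τ (cf k j) * s = τ (cf k j) * (l * τ s) := by rw [← h2]
      rw [h3, h4]
      ring
    let T₀ : Matrix (Fin (Module.finrank F V)) (Fin (Module.finrank F V)) K := Matrix.of fun k j => ⟨cf k j / s, hmem k j⟩
    have hT₀ : ∀ k j, (T₀ k j : F) = cf k j / s := fun k j => rfl
    have hXJ : ∀ v, Z.1 (J v) = s • J (T₀.mulVec v) := by
      intro v
      rw [← hXa, hJ, semJ, semJ, map_sum, Finset.smul_sum]
      have h1 : ∀ j, X (K.subtype (v j) • b j) = ∑ k, (cf k j * (v j : F)) • b k := by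
        intro j
        rw [map_smul, hcf, Finset.smul_sum]
        refine Finset.sum_congr rfl fun k _ => ?_
        rw [smul_smul, mul_comm]
        rfl
      rw [Finset.sum_congr rfl fun j _ => h1 j, Finset.sum_comm]
      refine Finset.sum_congr rfl fun k _ => ?_
      rw [← Finset.sum_smul, smul_smul]
      congr 1
      have h2 : K.subtype (T₀.mulVec v k) = ∑ j, (cf k j / s) * (v j : F) := by
        rw [Matrix.mulVec, dotProduct, map_sum]
        rfl
      rw [h2, Finset.mul_sum]
      refine Finset.sum_congr rfl fun j _ => ?_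
      rw [← mul_assoc, mul_div_cancel₀ _ hs]
    refine ⟨s, LinearEquiv.ofInjectiveEndo (Matrix.toLin' T₀) ?_, hs, fun v => ?_⟩
    · rw [← LinearMap.ker_eq_bot, LinearMap.ker_eq_bot']
      intro v hv
      have h1 := hXJ v
      have h2 : T₀.mulVec v = 0 := hv
      rw [h2, hJ, semJ_zero, smul_zero, ← hM.map_zero] at h1
      have h3 := Z.1.injective h1
      rw [← semJ_zero (φ := K.subtype) (b := b)] at h3
      exact semJ_injective h3
    · exact hXJ v

end desc

open Cfsg.Agent.H236.RC Cfsg.Agent.AutOrth.SemiSim Cfsg.Agent.H566.RC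
open scoped commutatorElement

section three

variable {F V : Type*} [Field F] [AddCommGroup V] [Module F V] {Q : QuadraticForm F V}

/-- an element of order three -/
theorem exists_three (hG : Good Q) : ∃ g : ↥(E Q), g ^ 3 = 1 ∧ ¬ ∃ c : F, ∀ v, (g : V ≃ₗ[F] V) v = c • v := by
  obtain ⟨e1, f1, h1⟩ := hG.exists_hyp
  obtain ⟨e2, f2, h2, h3, h4, h5, h6⟩ := hG.exists_hyp2 h1
  have e11 : polar Q e1 e1 = 0 := polar_self_of_sing h1.left
  have f11 : polar Q f1 f1 = 0 := polar_self_of_sing h1.right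
  have e22 : polar Q e2 e2 = 0 := polar_self_of_sing h2.left
  have f22 : polar Q f2 f2 = 0 := polar_self_of_sing h2.right
  have ef1 := h1.pair
  have fe1 := h1.pair'
  have ef2 := h2.pair
  have fe2 := h2.pair'
  have e21 : polar Q e2 e1 = 0 := by rw [polar_comm, h3]
  have f2e1 : polar Q f2 e1 = 0 := by rw [polar_comm, h4]
  have e2f1 : polar Q e2 f1 = 0 := by rw [polar_comm, h5]
  have f2f1 : polar Q f2 f1 = 0 := by rw [polar_comm, h6]
  set X := sg Q e1 f2 h1.left h4 with hX
  set Y := sg Q f1 e2 h1.right h5 with hY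
  have hXz : ∀ z, (X : V ≃ₗ[F] V) z = z + polar Q e1 z • f2 - polar Q f2 z • e1 := by
    intro z
    rw [hX, sg_apply, h2.right, zero_mul, zero_smul, sub_zero]
  have hYz : ∀ z, (Y : V ≃ₗ[F] V) z = z + polar Q f1 z • e2 - polar Q e2 z • f1 := by
    intro z
    rw [hY, sg_apply, h2.left, zero_mul, zero_smul, sub_zero]
  have hA : ∀ z, ((X * Y : ↥(E Q)) : V ≃ₗ[F] V) z = z + (-(polar Q f1 z + polar Q f2 z)) • e1 + polar Q f1 z • e2 +
      (-polar Q e2 z) • f1 + (polar Q e1 z - polar Q e2 z) • f2 := by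
    intro z
    change (X : V ≃ₗ[F] V) ((Y : V ≃ₗ[F] V) z) = _
    rw [hYz, hXz]
    simp only [polar_add_right, polar_sub_right, polar_smul_right, smul_eq_mul, e11, f11, e22, f22, ef1, fe1, ef2, fe2,
      e21, f2e1, e2f1, f2f1, h3, h4, h5, h6]
    module
  have hg : ∀ z, ((X * Y * (X * Y) : ↥(E Q)) : V ≃ₗ[F] V) z = z + (-(2 * polar Q f1 z + polar Q f2 z)) • e1 +
      (polar Q f1 z - polar Q f2 z) • e2 + (-(polar Q e1 z + polar Q e2 z)) • f1 +
      (polar Q e1 z - 2 * polar Q e2 z) • f2 := by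
    intro z
    change ((X * Y : ↥(E Q)) : V ≃ₗ[F] V) (((X * Y : ↥(E Q)) : V ≃ₗ[F] V) z) = _
    rw [hA, hA]
    simp only [polar_add_right, polar_sub_right, polar_smul_right, smul_eq_mul, e11, f11, e22, f22, ef1, fe1, ef2, fe2,
      e21, f2e1, e2f1, f2f1, h3, h4, h5, h6]
    module
  refine ⟨X * Y * (X * Y), ?_, ?_⟩
  · apply Subtype.ext
    apply LinearEquiv.ext
    intro z
    rw [pow_three]
    change ((X * Y * (X * Y) : ↥(E Q)) : V ≃ₗ[F] V) (((X * Y * (X * Y) : ↥(E Q)) : V ≃ₗ[F] V)
      (((X * Y * (X * Y) : ↥(E Q)) : V ≃ₗ[F] V) z)) = z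
    rw [hg, hg, hg]
    simp only [polar_add_right, polar_sub_right, polar_smul_right, smul_eq_mul, e11, f11, e22, f22, ef1, fe1, ef2, fe2,
      e21, f2e1, e2f1, f2f1, h3, h4, h5, h6]
    module
  · rintro ⟨c, hc⟩
    have h7 := congrArg (polar Q f2) (hc e1)
    rw [hg] at h7
    simp only [polar_add_right, polar_sub_right, polar_smul_right, smul_eq_mul, e11, f11, e22, f22, ef1, fe1, ef2, fe2,
      e21, f2e1, e2f1, f2f1, h3, h4, h5, h6] at h7
    apply one_ne_zero (α := F)
    linear_combination h7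

end three

section nofix

variable {F F0 V : Type*} [Field F] [Finite F] [Field F0] [AddCommGroup V] [Module F V] [FiniteDimensional F V] {n : ℕ}
  {φ : F0 →+* F} {b : Module.Basis (Fin n) F V} {Q : QuadraticForm F V} {Q0 : QuadraticForm F0 (Fin n → F0)}
  {d : F}

omit [Finite F] in
/-- a vector orthogonal to a maximal totally singular subspace -/
theorem mem_of_perp (hG : Good Q) (h8 : Module.finrank F V = 8) {W : Submodule F V} (hW : TS Q W)
    (hW4 : Module.finrank F W = 4) {x : V} (hx : Q x = 0) (hxW : ∀ w ∈ W, polar Q x w = 0) : x ∈ W := by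
  by_contra hxn
  have h1 := H955.two_mul_finrank_le hG.nondeg (U := W ⊔ Submodule.span F {x}) (by
    intro u hu
    obtain ⟨w, hw, y, hy, rfl⟩ := Submodule.mem_sup.1 hu
    obtain ⟨c, rfl⟩ := Submodule.mem_span_singleton.1 hy
    rw [Q_add, hW w hw, QuadraticMap.map_smul, hx, polar_smul_right, polar_comm, hxW w hw]
    simp)
  have h2 : W < W ⊔ Submodule.span F {x} := by
    refine lt_of_le_of_ne le_sup_left fun h => hxn ?_
    rw [h]
    exact Submodule.mem_sup_right (Submodule.mem_span_singleton_self x)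
  have h3 := Submodule.finrank_lt_finrank_of_lt h2
  omega

omit [FiniteDimensional F V] in
/-- three orthogonal directions -/
theorem exists_frame (hG : Good Q) (h7 : 7 ≤ Module.finrank F V) : ∃ e1 e2 f2 w : V, Q e1 = 0 ∧ e1 ≠ 0 ∧ Hyp Q e2 f2 ∧
    polar Q e1 e2 = 0 ∧ polar Q e1 f2 = 0 ∧ Q w ≠ 0 ∧ polar Q e1 w = 0 ∧ polar Q e2 w = 0 ∧ polar Q f2 w = 0 := by
  obtain ⟨e1, f1, h1⟩ := hG.exists_hyp
  obtain ⟨e2, f2, h2, h3, h4, h5, h6⟩ := hG.exists_hyp2 h1
  have e10 : e1 ≠ 0 := h1.left_ne
  refine ⟨e1, e2, f2, ?_⟩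
  obtain ⟨w1, hw0, hw, hp⟩ := LieClassical.OrthFinite.exists_sing_perp (Q := Q) (n := 4) ![e1, f1, e2, f2] (by omega)
  have p1 : polar Q e1 w1 = 0 := hp 0
  have p2 : polar Q f1 w1 = 0 := hp 1
  have p3 : polar Q e2 w1 = 0 := hp 2
  have p4 : polar Q f2 w1 = 0 := hp 3
  obtain ⟨z, hz⟩ := hG.nondeg.exists_polar_eq hw0 1
  set w := z - polar Q f1 z • e1 - polar Q e1 z • f1 - polar Q f2 z • e2 - polar Q e2 z • f2 with hwdef
  have e11 : polar Q e1 e1 = 0 := polar_self_of_sing h1.left
  have e22 : polar Q e2 e2 = 0 := polar_self_of_sing h2.left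
  have f22 : polar Q f2 f2 = 0 := polar_self_of_sing h2.right
  have ef1 := h1.pair
  have ef2 := h2.pair
  have fe2 := h2.pair'
  have e21 : polar Q e2 e1 = 0 := by rw [polar_comm, h3]
  have f2e1 : polar Q f2 e1 = 0 := by rw [polar_comm, h4]
  have e2f1 : polar Q e2 f1 = 0 := by rw [polar_comm, h5]
  have f2f1 : polar Q f2 f1 = 0 := by rw [polar_comm, h6]
  have q1 : polar Q e1 w = 0 := by
    rw [hwdef]
    simp only [polar_sub_right, polar_smul_right, smul_eq_mul, e11, ef1, h3, h4]
    ring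
  have q3 : polar Q e2 w = 0 := by
    rw [hwdef]
    simp only [polar_sub_right, polar_smul_right, smul_eq_mul, e22, ef2, e21, e2f1]
    ring
  have q4 : polar Q f2 w = 0 := by
    rw [hwdef]
    simp only [polar_sub_right, polar_smul_right, smul_eq_mul, f22, fe2, f2e1, f2f1]
    ring
  have qw : polar Q w1 w = 1 := by
    rw [hwdef]
    simp only [polar_sub_right, polar_smul_right, smul_eq_mul, hz, polar_comm Q w1 e1, polar_comm Q w1 f1,
      polar_comm Q w1 e2, polar_comm Q w1 f2, p1, p2, p3, p4]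
    ring
  by_cases h0 : Q w = 0
  · refine ⟨w1 + w, h1.left, e10, h2, h3, h4, ?_, ?_, ?_, ?_⟩
    · rw [Q_add, hw, h0, qw]
      simp
    · rw [polar_add_right, p1, q1, add_zero]
    · rw [polar_add_right, p3, q3, add_zero]
    · rw [polar_add_right, p4, q4, add_zero]
  · exact ⟨w, h1.left, e10, h2, h3, h4, h0, q1, q3, q4⟩

/-- **An automorphism which is not induced by a semisimilitude does not fix the group of a lattice pointwise.** -/
theorem not_fix_lattice (hG : Good Q) (h7 : 7 ≤ Module.finrank F V) {α : MulAut (P Q)} (hα : α ∉ (Psi Q).range)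
    (hd : d ≠ 0) (hQ : ∀ v, Q (semJ φ b v) = d * φ (Q0 v))
    (hfix : ∀ g : ↥(E Q0), α ((psiE hd hQ g : ↥(E Q)) : P Q) = ((psiE hd hQ g : ↥(E Q)) : P Q)) : False := by
  have hf0 : Finite F0 := Finite.of_injective φ φ.injective
  have hG0 : Good Q0 := good0 hG hQ
  have hn : 7 ≤ Module.finrank F0 (Fin n → F0) := by
    rw [Module.finrank_fin_fun]
    rwa [Module.finrank_eq_card_basis b, Fintype.card_fin] at h7
  obtain ⟨e1, e2, f2, w, he1, he10, h2, h12, h1f, hw, hw1, hw2, hwf⟩ := exists_frame hG0 hn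
  have hJe : Q (semJ φ b e1) = 0 := by rw [hQ, he1, map_zero, mul_zero]
  have hJ0 : semJ φ b e1 ≠ 0 := fun h => he10 (semJ_injective φ b (by rw [h, semJ_zero]))
  rcases Cfsg.Agent.ClassicalGeometry.OrthAut3.dichotomy hG h7 α hJe hJ0 with ⟨y, hy, hy0, h⟩ | ⟨h8, W, hW, hW4, h⟩
  · exact hα (Cfsg.Agent.AutOrth.Final.mem_range_of_pt hG h7 (H377.RowTri.pt_of_one hG hJe hJ0 hy hy0 h))
  · -- the stabiliser of `e1` leaves `W` invariant
    have hst : ∀ g : ↥(E Q0), (g : (Fin n → F0) ≃ₗ[F0] (Fin n → F0)) e1 = e1 → ∀ x ∈ W,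
        (psiE hd hQ g : V ≃ₗ[F] V) x ∈ W := by
      intro g hg x hx
      have h1 : ((psiE hd hQ g : ↥(E Q)) : P Q) ∈ stab hG (Submodule.span F {semJ φ b e1}) := by
        rw [mem_stab, pact_mk, mapHom_span, psiE_semJ, hg]
      have h3 : ((psiE hd hQ g : ↥(E Q)) : P Q) ∈ stab hG W := by
        rw [← h, Subgroup.mem_map]
        exact ⟨_, h1, hfix g⟩
      exact apply_mem_of_mem_stab h3 hx
    have key : ∀ v' : Fin n → F0, Q0 v' = 0 → polar Q0 e1 v' = 0 → polar Q0 v' w = 0 → semJ φ b v' ∈ W := by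
      intro v' hv' hev hvw
      have hu' : Q (semJ φ b v') = 0 := by rw [hQ, hv', map_zero, mul_zero]
      have hw' : polar Q (semJ φ b v') (d⁻¹ • semJ φ b w) = 0 := by
        rw [polar_smul_right, polar_semJ hQ, hvw, map_zero, mul_zero, smul_zero]
      apply mem_of_perp hG h8 hW hW4 hu'
      intro x hx
      by_contra hne
      have h1 := hst (sg Q0 v' w hv' hvw) (by
        rw [sg_apply, polar_comm Q0 v' e1, polar_comm Q0 w e1, hev, hw1]
        simp) x hx
      have h3 : (psiE hd hQ (sg Q0 v' w hv' hvw) : V ≃ₗ[F] V) x = x + polar Q (semJ φ b v') x • (d⁻¹ • semJ φ b w) -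
          polar Q (d⁻¹ • semJ φ b w) x • semJ φ b v' -
          (Q (d⁻¹ • semJ φ b w) * polar Q (semJ φ b v') x) • semJ φ b v' := by
        rw [psiE_coe]
        change extS φ b (siegel Q0 v' w hv' hvw) x = _
        rw [extS_siegel hd hQ hv' hvw hu' hw', siegel_apply]
      rw [h3] at h1
      have h4 := W.sub_mem h1 hx
      have h5 := hW _ h4
      set t := polar Q (semJ φ b v') x with ht
      set k := Q (d⁻¹ • semJ φ b w) with hk
      have hk0 : k ≠ 0 := by
        rw [hk, QuadraticMap.map_smul, hQ, smul_eq_mul]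
        exact mul_ne_zero (mul_ne_zero (inv_ne_zero hd) (inv_ne_zero hd)) (mul_ne_zero hd ((map_ne_zero φ).2 hw))
      have h7 : ∀ c : F, Q (t • (d⁻¹ • semJ φ b w) + c • semJ φ b v') = t * t * k := by
        intro c
        rw [Q_add, QuadraticMap.map_smul, QuadraticMap.map_smul (a := c), hu', ← hk, polar_smul_right,
          polar_comm Q (t • (d⁻¹ • semJ φ b w)), polar_smul_right, hw']
        simp only [smul_eq_mul, mul_zero, add_zero]
      have h6 : x + t • (d⁻¹ • semJ φ b w) - polar Q (d⁻¹ • semJ φ b w) x • semJ φ b v' - (k * t) • semJ φ b v' - x =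
          t • (d⁻¹ • semJ φ b w) + (-(polar Q (d⁻¹ • semJ φ b w) x) - k * t) • semJ φ b v' := by module
      rw [h6, h7] at h5
      exact (mul_ne_zero (mul_ne_zero hne hne) hk0) h5
    have k1 := key e2 h2.left h12 hw2
    have k2 := key f2 h2.right h1f hwf
    have h9 := hW.polar k1 k2
    rw [polar_semJ hQ, h2.pair, map_one, mul_one] at h9
    exact hd h9

end nofix

section comm

variable {F F0 V : Type*} [Field F] [Field F0] [AddCommGroup V] [Module F V] {n : ℕ}
  {φ : F0 →+* F} {b : Module.Basis (Fin n) F V} {Q : QuadraticForm F V} {Q0 : QuadraticForm F0 (Fin n → F0)}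
  {d : F}

/-- commutators of elements preserving the lattice up to scalars -/
theorem comm_J {s1 s2 : ↥(E Q)} {T1 T2 : (Fin n → F0) ≃ₗ[F0] (Fin n → F0)} {a1 a2 : F} (h1 : a1 ≠ 0) (h2 : a2 ≠ 0)
    (hs1 : ∀ v, (s1 : V ≃ₗ[F] V) (semJ φ b v) = a1 • semJ φ b (T1 v))
    (hs2 : ∀ v, (s2 : V ≃ₗ[F] V) (semJ φ b v) = a2 • semJ φ b (T2 v)) (v : Fin n → F0) :
    ((⁅s1, s2⁆ : ↥(E Q)) : V ≃ₗ[F] V) (semJ φ b v) = semJ φ b (⁅T1, T2⁆ v) := by
  obtain ⟨u, rfl⟩ := (T2 * T1).surjective v
  have e1 : semJ φ b ((T2 * T1) u) = (a1 * a2)⁻¹ • (s2 : V ≃ₗ[F] V) ((s1 : V ≃ₗ[F] V) (semJ φ b u)) := by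
    have h3 : (a1 * a2)⁻¹ * a1 * a2 = 1 := by rw [mul_assoc, inv_mul_cancel₀ (mul_ne_zero h1 h2)]
    rw [hs1, map_smul, hs2, smul_smul, smul_smul, h3, one_smul]
    rfl
  have e2 : ∀ x, ((⁅s1, s2⁆ : ↥(E Q)) : V ≃ₗ[F] V) ((s2 : V ≃ₗ[F] V) ((s1 : V ≃ₗ[F] V) x)) =
      (s1 : V ≃ₗ[F] V) ((s2 : V ≃ₗ[F] V) x) := by
    intro x
    have h3 : ⁅s1, s2⁆ * (s2 * s1) = s1 * s2 := by rw [commutatorElement_def]; group
    exact congrArg (fun g : ↥(E Q) => (g : V ≃ₗ[F] V) x) h3
  have e3 : ⁅T1, T2⁆ ((T2 * T1) u) = T1 (T2 u) := by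
    have h3 : ⁅T1, T2⁆ * (T2 * T1) = T1 * T2 := by rw [commutatorElement_def]; group
    exact congrArg (fun g : (Fin n → F0) ≃ₗ[F0] (Fin n → F0) => g u) h3
  rw [e1, map_smul, e2, e3, hs2, map_smul, hs1, smul_smul, smul_smul]
  have h3 : (a1 * a2)⁻¹ * a2 * a1 = 1 := by
    rw [mul_assoc, mul_comm a2 a1]
    exact inv_mul_cancel₀ (mul_ne_zero h1 h2)
  rw [h3, one_smul]

/-- the commutator of two similitudes is an isometry -/
theorem comm_mem_O {T1 T2 : (Fin n → F0) ≃ₗ[F0] (Fin n → F0)} {c1 c2 : F0} (h1 : ∀ v, Q0 (T1 v) = c1 * Q0 v)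
    (h2 : ∀ v, Q0 (T2 v) = c2 * Q0 v) : ⁅T1, T2⁆ ∈ O Q0 := by
  rw [mem_O]
  intro v
  obtain ⟨u, rfl⟩ := (T2 * T1).surjective v
  have e3 : ⁅T1, T2⁆ ((T2 * T1) u) = T1 (T2 u) := by
    have h3 : ⁅T1, T2⁆ * (T2 * T1) = T1 * T2 := by rw [commutatorElement_def]; group
    exact congrArg (fun g : (Fin n → F0) ≃ₗ[F0] (Fin n → F0) => g u) h3
  have e4 : (T2 * T1) u = T2 (T1 u) := rfl
  rw [e3, e4, h1, h2, h2, h1]
  ring

/-- elements preserving the lattice up to scalars, isometries of the lattice -/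
def DD (Q : QuadraticForm F V) (Q0 : QuadraticForm F0 (Fin n → F0)) (φ : F0 →+* F) (b : Module.Basis (Fin n) F V) :
    Subgroup ↥(E Q) where
  carrier := {s | ∃ (a : F) (T : (Fin n → F0) ≃ₗ[F0] (Fin n → F0)), a ≠ 0 ∧ T ∈ O Q0 ∧
    ∀ v, (s : V ≃ₗ[F] V) (semJ φ b v) = a • semJ φ b (T v)}
  one_mem' := ⟨1, 1, one_ne_zero, one_mem _, fun v => by rw [one_smul]; rfl⟩
  mul_mem' := by
    rintro s t ⟨a, T, ha, hT, h⟩ ⟨a', T', ha', hT', h'⟩
    refine ⟨a * a', T * T', mul_ne_zero ha ha', mul_mem hT hT', fun v => ?_⟩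
    change (s : V ≃ₗ[F] V) ((t : V ≃ₗ[F] V) (semJ φ b v)) = _
    rw [h', map_smul, h, smul_smul, mul_comm]
    rfl
  inv_mem' := by
    rintro s ⟨a, T, ha, hT, h⟩
    refine ⟨a⁻¹, T⁻¹, inv_ne_zero ha, inv_mem hT, fun v => ?_⟩
    obtain ⟨u, rfl⟩ := T.surjective v
    have e1 : semJ φ b (T u) = a⁻¹ • (s : V ≃ₗ[F] V) (semJ φ b u) := by
      rw [h, smul_smul, inv_mul_cancel₀ ha, one_smul]
    have e2 : ∀ x, ((s⁻¹ : ↥(E Q)) : V ≃ₗ[F] V) ((s : V ≃ₗ[F] V) x) = x := fun x =>
      (s : V ≃ₗ[F] V).symm_apply_apply x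
    have e3 : (T⁻¹ : (Fin n → F0) ≃ₗ[F0] (Fin n → F0)) (T u) = u := T.symm_apply_apply u
    rw [e3, e1, map_smul, e2]

theorem comm_DD (hG0 : Good Q0) (hd : d ≠ 0) (hQ : ∀ v, Q (semJ φ b v) = d * φ (Q0 v)) :
    ⁅DD Q Q0 φ b, DD Q Q0 φ b⁆ ≤ (psiE hd hQ).range := by
  rw [Subgroup.commutator_le]
  rintro s ⟨a, T, ha, hT, h⟩ t ⟨a', T', ha', hT', h'⟩
  have h1 : ⁅T, T'⁆ ∈ E Q0 := by
    rw [← hG0.commutator_eq_E]
    exact Subgroup.commutator_mem_commutator hT hT'
  refine ⟨⟨⁅T, T'⁆, h1⟩, ?_⟩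
  apply Subtype.ext
  refine equiv_ext φ b fun v => ?_
  rw [psiE_semJ, comm_J ha ha' h h']

end comm

section main

variable {F F0 V G Ω ι : Type} [Field F] [Finite F] [Field F0] [AddCommGroup V] [Module F V]
  [FiniteDimensional F V] {Q : QuadraticForm F V} [Group G] [Finite G] [MulAction G Ω] [Nonempty Ω]
  {N : Subgroup G} {σ : P Q →* G}

/-- **The box, after the descent.** -/
theorem box_of_descent (hG : Good Q) (h7 : 7 ≤ Module.finrank F V) (hE : Env G Ω N) (hσ : Rp Q N σ)
    (hIH : IH (Nat.card (P Q))) [Finite ι] {x : ι → G} {r : ι → ℕ} (hx : PF x r) (hcov : Cov Ω x) {i₁ : ι}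
    (h3 : r i₁ = 3) {α : MulAut (P Q)} (hα : La σ (x i₁) α) (hα' : α ∉ (Psi Q).range) {M : ι → Gam Q}
    (hl : ∀ i, i ≠ i₁ → Lf (up σ) (x i) (M i))
    {n : ℕ} {φ : F0 →+* F} {b : Module.Basis (Fin n) F V}
    {Q0 : QuadraticForm F0 (Fin n → F0)} {d : F} (hd : d ≠ 0) (hQ : ∀ v, Q (semJ φ b v) = d * φ (Q0 v))
    (hnl : ∀ i, i ≠ i₁ → ¬ IsLin (M i) → ∃ s : F, s ≠ 0 ∧ ∀ v, (M i).1 (semJ φ b v) = s • semJ φ b v)
    (hlin : ∀ (z : G) (Z : Gam Q), Lf (up σ) z Z → IsLin Z →
      (∀ i, i ≠ i₁ → ¬ IsLin (M i) → z * x i = x i * z) →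
      ∃ (s : F) (T : (Fin n → F0) ≃ₗ[F0] (Fin n → F0)), s ≠ 0 ∧ ∀ v, Z.1 (semJ φ b v) = s • semJ φ b (T v))
    (hex : ∃ i, i ≠ i₁ ∧ ¬ IsLin (M i)) : False := by
  classical
  have hρ : _root_.Cfsg.Agent.H93.RC.Rep Q N (up σ) := hσ.rep
  set ρ := up σ with hρdef
  have hfV : Finite V := Module.finite_of_finite F
  have hf0 : Finite F0 := Finite.of_injective φ φ.injective
  have hG0 : Good Q0 := good0 hG hQ
  have hn : 7 ≤ Module.finrank F0 (Fin n → F0) := by
    rw [Module.finrank_fin_fun]
    rwa [Module.finrank_eq_card_basis b, Fintype.card_fin] at h7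
  have hnt : Nontrivial V := Module.nontrivial_of_finrank_pos (R := F) (by omega)
  -- the similitudes `T i`
  have hT : ∀ i, ∃ (s : F) (T : Gam Q0), i ≠ i₁ → s ≠ 0 ∧ (∀ v, (M i).1 (semJ φ b v) = s • semJ φ b (T.1 v)) ∧
      (¬ IsLin (M i) → T = 1) := by
    intro i
    by_cases hi1 : i = i₁
    · exact ⟨0, 1, fun h => absurd hi1 h⟩
    by_cases hi : IsLin (M i)
    · obtain ⟨s, T, hs, hT⟩ := hlin (x i) (M i) (hl i hi1) hi fun j _ _ => hx.comm i j
      obtain ⟨T', hT'⟩ := exists_T hG0.exists_hyp hd hQ hi hs hT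
      exact ⟨s, T', fun _ => ⟨hs, fun v => by rw [hT, hT'], fun h => absurd hi h⟩⟩
    · obtain ⟨s, hs, h⟩ := hnl i hi1 hi
      exact ⟨s, 1, fun _ => ⟨hs, h, fun _ => rfl⟩⟩
  choose s T hT using hT
  let θ : ↥(E Q0) →* G := ρ.comp (psiE hd hQ)
  have hθ : ∀ g, θ g = ρ (psiE hd hQ g) := fun g => rfl
  have hker : θ.ker ≤ Subgroup.center ↥(E Q0) := by
    intro g hg
    apply mem_center_of_psiE hd hQ
    rw [← hρ.ker, MonoidHom.mem_ker]
    exact hg
  have hconj : ∀ i, i ≠ i₁ → ∀ g, x i * θ g * (x i)⁻¹ = θ (_root_.Cfsg.Agent.ClassicalGeometry.OrthSemi.conjE Q0 (T i) g) := by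
    intro i hi g
    rw [hθ, hl i hi, conjE_psiE hd hQ (hT i hi).1 (hT i hi).2.1]
    rfl
  have hcentn : ∀ i, i ≠ i₁ → ¬ IsLin (M i) → ∀ m ∈ θ.range, x i * m = m * x i := by
    rintro i hi1 hi _ ⟨g, rfl⟩
    have h1 := hconj i hi1 g
    rw [(hT i hi1).2.2 hi, map_one, MulAut.one_apply] at h1
    exact mul_inv_eq_iff_eq_mul.1 h1
  have hcentl : ∀ i, i ≠ i₁ → (∀ m ∈ θ.range, x i * m = m * x i) → ¬ IsLin (M i) := by
    intro i hi1 hi hlin'
    have h1 : ∀ g, θ (_root_.Cfsg.Agent.ClassicalGeometry.OrthSemi.conjE Q0 (T i) g) = θ g := by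
      intro g
      rw [← hconj i hi1, hi _ ⟨g, rfl⟩, mul_inv_cancel_right]
    have h2 : Psi Q0 (T i) = 1 := by
      ext t
      have hob_ := QuotientGroup.mk_surjective t
      obtain ⟨t, rfl⟩ := hob_
      simp only [Psi_mk]
      show (QuotientGroup.mk (_root_.Cfsg.Agent.ClassicalGeometry.OrthSemi.conjE Q0 (T i) t) : P Q0) = QuotientGroup.mk t
      rw [eq_comm, QuotientGroup.eq]
      apply hker
      rw [MonoidHom.mem_ker, map_mul, map_inv, h1]
      group
    have h3 : _root_.Cfsg.Agent.ClassicalGeometry.OrthSemi.conjE Q0 (T i) = 1 := eq_one_of_quotAut (commutator_E hG0) _ h2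
    obtain ⟨a, ha, h4⟩ := exists_scalar_of_conjE hG0 (T i) h3
    have h5 : IsScal (M i) := by
      refine ⟨s i * φ a, mul_ne_zero (hT i hi1).1 ((map_ne_zero φ).2 ha), fun v => ?_⟩
      let f : V →ₗ[F] V :=
        { toFun := (M i).1
          map_add' := add_of_mem (M i).2
          map_smul' := hlin' }
      have h6 : f = (s i * φ a) • LinearMap.id := by
        refine lin_ext φ b fun v => ?_
        show (M i).1 (semJ φ b v) = (s i * φ a) • semJ φ b v
        rw [(hT i hi1).2.1, h4, semJ_smul, smul_smul]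
      exact LinearMap.congr_fun h6 v
    exact hx.ne i ((hl i hi1).eq_one_iff hG hE hρ |>.2 h5)
  -- the group `MM`
  have hMN : θ.range ≤ N := by
    rintro _ ⟨g, rfl⟩
    rw [← hρ.range]
    exact ⟨_, rfl⟩
  have hMne : θ.range ≠ N := by
    intro h
    obtain ⟨i, hi1, hi⟩ := hex
    apply hx.ne i
    have h1 : x i ∈ Subgroup.centralizer (N : Set G) := by
      rw [Subgroup.mem_centralizer_iff]
      intro m hm
      exact (hcentn i hi1 hi m (by rw [h]; exact hm)).symm
    rw [hE.cent] at h1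
    exact Subgroup.mem_bot.1 h1
  have hperf : ⁅θ.range, θ.range⁆ = θ.range := by
    have h1 : commutator ↥(E Q0) = ⊤ := commutator_E hG0
    rw [commutator_def] at h1
    rw [MonoidHom.range_eq_map θ, ← Subgroup.map_commutator, h1]
  -- `x i₁` does not centralise `θ.range`
  have hcent1 : ¬ ∀ m ∈ θ.range, x i₁ * m = m * x i₁ := by
    intro h
    refine not_fix_lattice hG h7 hα' hd hQ fun g => ?_
    apply hσ.inj
    rw [← hα]
    have h1 := h _ ⟨g, rfl⟩
    rw [hθ] at h1
    exact mul_inv_eq_iff_eq_mul.2 h1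
  -- the characterisation of `θ.range`
  let C : Subgroup G := N ⊓ Subgroup.centralizer {z | ∃ i, i ≠ i₁ ∧ ¬ IsLin (M i) ∧ z = x i}
  have hCmem : ∀ z, z ∈ C ↔ z ∈ N ∧ ∀ i, i ≠ i₁ → ¬ IsLin (M i) → z * x i = x i * z := by
    intro z
    change z ∈ N ∧ z ∈ Subgroup.centralizer _ ↔ _
    rw [Subgroup.mem_centralizer_iff]
    constructor
    · rintro ⟨h1, h2⟩
      exact ⟨h1, fun i hi hi' => (h2 _ ⟨i, hi, hi', rfl⟩).symm⟩
    · rintro ⟨h1, h2⟩
      refine ⟨h1, ?_⟩
      rintro _ ⟨i, hi, hi', rfl⟩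
      exact (h2 i hi hi').symm
  have hθC : θ.range ≤ C := by
    intro m hm
    rw [hCmem]
    exact ⟨hMN hm, fun i hi hi' => (hcentn i hi hi' m hm).symm⟩
  have hCs : ∀ z ∈ C, ∃ (t : ↥(E Q)) (a : F) (T : (Fin n → F0) ≃ₗ[F0] (Fin n → F0)) (c : F0), ρ t = z ∧ a ≠ 0 ∧
      (∀ v, Q0 (T v) = c * Q0 v) ∧ ∀ v, (t : V ≃ₗ[F] V) (semJ φ b v) = a • semJ φ b (T v) := by
    intro z hz
    rw [hCmem] at hz
    have hz1 := hz.1
    rw [← hρ.range] at hz1
    obtain ⟨t, rfl⟩ := hz1
    have htl : IsLin (tg Q t) := fun a v => map_smul (t : V ≃ₗ[F] V) a v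
    obtain ⟨a, T, ha, hT⟩ := hlin (ρ t) (tg Q t) (Lf.tg t) htl hz.2
    obtain ⟨T', hT'⟩ := exists_T hG0.exists_hyp hd hQ htl ha hT
    obtain ⟨τ, c, hS⟩ := T'.2
    have hτ : τ = 1 := H188.RC.ss_one_of_isLin hG0 (M := T') (fun k v => by rw [hT', hT', map_smul]) hS
    subst hτ
    exact ⟨t, a, T, c, rfl, ha, fun v => by rw [← hT']; exact hS.form v, hT⟩
  have hchar : ⁅⁅C, C⁆, ⁅C, C⁆⁆ = θ.range := by
    apply le_antisymm
    · have h1 : ⁅C, C⁆ ≤ (DD Q Q0 φ b).map ρ := by
        rw [Subgroup.commutator_le]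
        intro z1 hz1 z2 hz2
        obtain ⟨t1, a1, T1, c1, rfl, ha1, hc1, h1⟩ := hCs z1 hz1
        obtain ⟨t2, a2, T2, c2, rfl, ha2, hc2, h2⟩ := hCs z2 hz2
        refine ⟨⁅t1, t2⁆, ⟨1, ⁅T1, T2⁆, one_ne_zero, comm_mem_O hc1 hc2, fun v => ?_⟩, map_commutatorElement ρ t1 t2⟩
        rw [one_smul]
        exact comm_J ha1 ha2 h1 h2 v
      refine (Subgroup.commutator_mono h1 h1).trans ?_
      rw [← Subgroup.map_commutator]
      refine (Subgroup.map_mono (comm_DD hG0 hd hQ)).trans ?_
      rintro _ ⟨_, ⟨g, rfl⟩, rfl⟩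
      exact ⟨g, rfl⟩
    · have h1 : θ.range ≤ ⁅C, C⁆ := by
        rw [← hperf]
        exact Subgroup.commutator_mono hθC hθC
      rw [← hperf]
      exact Subgroup.commutator_mono h1 h1
  have hC1 : ∀ z ∈ C, x i₁ * z * (x i₁)⁻¹ ∈ C := by
    intro z hz
    rw [hCmem] at hz ⊢
    refine ⟨hE.norm.conj_mem z hz.1 _, fun i hi hi' => ?_⟩
    have e1 := hz.2 i hi hi'
    have e2 := hx.comm i₁ i
    have e3 : (x i₁)⁻¹ * x i = x i * (x i₁)⁻¹ := by
      rw [inv_mul_eq_iff_eq_mul, ← mul_assoc, e2, mul_inv_cancel_right]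
    calc x i₁ * z * (x i₁)⁻¹ * x i = x i₁ * z * ((x i₁)⁻¹ * x i) := by group
      _ = x i₁ * (z * x i) * (x i₁)⁻¹ := by rw [e3]; group
      _ = (x i₁ * x i) * z * (x i₁)⁻¹ := by rw [e1]; group
      _ = x i * (x i₁ * z * (x i₁)⁻¹) := by rw [e2]; group
  have hC2 : C.map (MulAut.conj (x i₁)).toMonoidHom = C := by
    apply Subgroup.eq_of_le_of_card_ge
    · rintro _ ⟨z, hz, rfl⟩
      exact hC1 z hz
    · rw [Nat.card_congr (C.equivMapOfInjective (MulAut.conj (x i₁)).toMonoidHom (MulAut.conj (x i₁)).injective).toEquiv]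
  have hθ1 : θ.range.map (MulAut.conj (x i₁)).toMonoidHom = θ.range := by
    rw [← hchar, Subgroup.map_commutator, Subgroup.map_commutator, hC2]
  have hnorm : ∀ i, x i ∈ Subgroup.normalizer ((θ.range : Subgroup G) : Set G) := by
    intro i
    by_cases hi1 : i = i₁
    · subst hi1
      rw [Subgroup.mem_normalizer_iff]
      intro m
      constructor
      · intro hm
        rw [← hθ1]
        exact ⟨m, hm, rfl⟩
      · intro hm
        rw [← hθ1] at hm
        obtain ⟨m', hm', h⟩ := hm
        have h1 : m' = m := (MulAut.conj (x i)).injective h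
        rw [← h1]
        exact hm'
    rw [Subgroup.mem_normalizer_iff]
    intro m
    constructor
    · rintro ⟨g, rfl⟩
      exact ⟨_, (hconj i hi1 g).symm⟩
    · rintro ⟨g, hg⟩
      refine ⟨(_root_.Cfsg.Agent.ClassicalGeometry.OrthSemi.conjE Q0 (T i))⁻¹ g, ?_⟩
      have h2 := hconj i hi1 ((_root_.Cfsg.Agent.ClassicalGeometry.OrthSemi.conjE Q0 (T i))⁻¹ g)
      rw [MulAut.apply_inv_self] at h2
      exact mul_left_cancel (mul_right_cancel (h2.trans hg))
  let πL : ↥(E Q0) ⧸ θ.ker →* P Q0 :=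
    QuotientGroup.lift θ.ker (QuotientGroup.mk' (Subgroup.center ↥(E Q0))) (fun g hg =>
      (QuotientGroup.eq_one_iff g).2 (hker hg))
  let π : ↥θ.range →* P Q0 := πL.comp (QuotientGroup.quotientKerEquivRange θ).symm.toMonoidHom
  have hπθ : ∀ g, π ⟨θ g, ⟨g, rfl⟩⟩ = QuotientGroup.mk g := by
    intro g
    have h1 : (QuotientGroup.quotientKerEquivRange θ).symm ⟨θ g, ⟨g, rfl⟩⟩ = QuotientGroup.mk g := by
      rw [MulEquiv.symm_apply_eq]
      rfl
    show πL ((QuotientGroup.quotientKerEquivRange θ).symm ⟨θ g, ⟨g, rfl⟩⟩) = _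
    rw [h1]
    rfl
  have hπs : Function.Surjective π := by
    intro y
    obtain ⟨g, rfl⟩ := QuotientGroup.mk_surjective y
    exact ⟨_, hπθ g⟩
  have hπk : π.ker ≤ Subgroup.center ↥θ.range := by
    rintro ⟨_, g, rfl⟩ hm
    rw [MonoidHom.mem_ker, hπθ] at hm
    have h1 : g ∈ Subgroup.center ↥(E Q0) := (QuotientGroup.eq_one_iff g).1 hm
    rw [Subgroup.mem_center_iff]
    rintro ⟨_, k, rfl⟩
    apply Subtype.ext
    show θ k * θ g = θ g * θ k
    rw [← map_mul, ← map_mul, Subgroup.mem_center_iff.1 h1 k]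
  have hfP := finite_P (Q := Q0)
  have hfP' : Finite (P Q) := finite_P
  obtain ⟨hs1, hs2, hs3, hs4⟩ := box_id hG0
  have hs4' : ¬ Exc (P Q0) := by
    rcases hs4 with ⟨-, h, -⟩ | h
    · omega
    · exact h
  obtain ⟨e⟩ := exists_equiv_P hρ
  have hrule := mrule_IH hIH e hMN hMne hperf π hπs hπk hs1 hs2 hs3 hs4' hx hcov hnorm
  -- the element of order three
  obtain ⟨g, hg3, hgs⟩ := exists_three hG0
  have hgc : ρ (psiE hd hQ g) ≠ 1 := by
    intro h
    have h1 : psiE hd hQ g ∈ Subgroup.center ↥(E Q) := by rw [← hρ.ker, MonoidHom.mem_ker]; exact h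
    obtain ⟨a, -, ha⟩ := H188.RC.scal_of_center hG0 (mem_center_of_psiE hd hQ h1)
    exact hgs ⟨a, ha⟩
  -- the new cover
  let J := {i : ι // i ≠ i₁ ∧ ¬ IsLin (M i)}
  let x' : Option J → G := fun o => o.elim (ρ (psiE hd hQ g)) fun i => x i
  let M' : Option J → Gam Q := fun o => o.elim (tg Q (psiE hd hQ g)) fun i => M i
  let r' : Option J → ℕ := fun o => o.elim 3 fun i => r i
  obtain ⟨j0, hj0, hj0'⟩ := hex
  refine box_FA' (x := x') (M := M') (r := r') hG h7 hE hρ ?_ ⟨?_, ?_, ?_, ?_, ?_⟩ ?_ hIH ⟨some ⟨j0, hj0, hj0'⟩, hj0'⟩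
  · rintro (_ | i)
    · exact Lf.tg _
    · exact hl i i.2.1
  · rintro (_ | i)
    · exact Nat.prime_three
    · exact hx.prime i
  · rintro (_ | i) (_ | j) hij
    · rfl
    · exact absurd (hx.inj (h3.trans hij)) (Ne.symm j.2.1)
    · exact absurd (hx.inj (h3.trans hij.symm)) (Ne.symm i.2.1)
    · exact congrArg some (Subtype.ext (hx.inj hij))
  · rintro (_ | i)
    · show ρ (psiE hd hQ g) ^ 3 = 1
      rw [← map_pow, ← map_pow, hg3, map_one, map_one]
    · exact hx.pow i
  · rintro (_ | i)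
    · exact hgc
    · exact hx.ne i
  · rintro (_ | i) (_ | j)
    · rfl
    · exact (hcentn j j.2.1 j.2.2 _ ⟨g, rfl⟩).symm
    · exact hcentn i i.2.1 i.2.2 _ ⟨g, rfl⟩
    · exact hx.comm i j
  · intro ω
    rcases hrule ω with h | ⟨j, hj, hjω⟩
    · exact ⟨none, h ⟨g, rfl⟩⟩
    · have hj1 : j ≠ i₁ := by
        rintro rfl
        exact hcent1 hj
      exact ⟨some ⟨j, hj1, hcentl j hj1 hj⟩, hjω⟩

end main

section final

/-- **A cover with a non-geometric member of order three and a nonlinear member does not exist** (all orthogonal groups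
in dimension at least seven). -/
theorem box_gen {F V G Ω ι : Type} [Field F] [Finite F] [AddCommGroup V] [Module F V]
    [FiniteDimensional F V] {Q : QuadraticForm F V} [Group G] [Finite G] [MulAction G Ω] [Nonempty Ω]
    {N : Subgroup G} {σ : P Q →* G} (hG : Good Q) (h7 : 7 ≤ Module.finrank F V) (hE : Env G Ω N) (hσ : Rp Q N σ)
    (hIH : IH (Nat.card (P Q))) [Finite ι] {x : ι → G} {r : ι → ℕ} (hx : PF x r) (hcov : Cov Ω x) {i₁ : ι}
    (h3 : r i₁ = 3) {α : MulAut (P Q)} (hα : La σ (x i₁) α) (hα' : α ∉ (Psi Q).range) {M : ι → Gam Q}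
    (hl : ∀ i, i ≠ i₁ → Lf (up σ) (x i) (M i)) (hex : ∃ i, i ≠ i₁ ∧ ¬ IsLin (M i)) : False := by
  obtain ⟨i0, hi0, hi0'⟩ := hex
  obtain ⟨K, b, Q0, d, -, hd, hQ, hnl, hlin⟩ := exists_descent (x := fun i : {i : ι // i ≠ i₁} => x i)
    (M := fun i : {i : ι // i ≠ i₁} => M i) (r := fun i : {i : ι // i ≠ i₁} => r i) hG hσ.rep
    (fun i => hl i i.2) ⟨fun i => hx.prime i, fun i j h => Subtype.ext (hx.inj h), fun i => hx.pow i,
      fun i => hx.ne i, fun i j => hx.comm i j⟩ ⟨⟨i0, hi0⟩, hi0'⟩
  exact box_of_descent hG h7 hE hσ hIH hx hcov h3 hα hα' hl hd hQ (fun i hi h => hnl ⟨i, hi⟩ h)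
    (fun z Z hz hZ h => hlin z Z hz hZ fun i hi => h i i.2 hi) ⟨i0, hi0, hi0'⟩

open Cfsg.Agent.LieClassical.QuadForms Cfsg.Agent.ClassicalGeometry.TrialityOct
  Cfsg.Agent.ClassicalGeometry.Triality Cfsg.Agent.ClassicalGeometry.TrialitySpaces Cfsg.Agent.H198.TriBase
  Cfsg.Agent.H198.TriAut Cfsg.Agent.H206.Balance

/-- **Case 0 of the triality part**: a field automorphism in the cover, all types of triality elements. -/
theorem box_field {F G Ω ι : Type} [Field F] [Finite F] [Group G] [Finite G] [MulAction G Ω] [Nonempty Ω]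
    {N : Subgroup G} {σ : P8 F →* G} (hG : _root_.Cfsg.Agent.LieClassical.OrthTrans.Good (plusForm 4 F)) (hE : Env G Ω N) (hσ : Rp (plusForm 4 F) N σ)
    [Finite ι] {x : ι → G} {r : ι → ℕ} (hx : PF x r) (hcov : Cov Ω x) (hIH : IH (Nat.card (P (plusForm 4 F))))
    {i₁ : ι} (h3 : r i₁ = 3) {α : MulAut (P8 F)} (hα : La σ (x i₁) α) (hα' : α ∉ (Psi (plusForm 4 F)).range)
    {M : ι → G8 F} (hl : ∀ i, i ≠ i₁ → Lf (up σ) (x i) (M i)) (hne : ∃ i, i ≠ i₁ ∧ ¬ IsLin (M i)) : False :=
  box_gen hG (by simp) hE hσ hIH hx hcov h3 hα hα' hl hne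

theorem lin_iff {F : Type} [Field F] (hG : _root_.Cfsg.Agent.LieClassical.OrthTrans.Good (plusForm 4 F)) {M : G8 F} (h : IsLin M) : H198.TriDia.IsLin M := by
  obtain ⟨τ, c, hS⟩ := M.2
  have hτ : τ = 1 := H188.RC.ss_one_of_isLin hG h hS
  subst hτ
  exact ⟨c, hS⟩

end final

end Cfsg.Agent.H679.RC.TriField
end

-- part: H721/RC/Row8
section
/-!
# S3510, row `PΩ₈⁺(q)`: assembly from the types (helper721)

* `noN_of`, `noK_of` : `NoN`, `NoK` (helper864) from `NoCovEven`;
* `t3_of` : the frame (helper675) of type iii is a `T3` (helper864);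
* `TypeI`, `TypeII`, `TypeIII`, `TypeIV` : the statements of the four types; `row8_of`.
-/

set_option autoImplicit false
open Cfsg

namespace Cfsg.Agent.H721.RC

open Module QuadraticMap MulAction
open Cfsg.Agent.LieClassical.OrthCore Cfsg.Agent.LieClassical.OrthTrans
open Cfsg.Agent.LieClassical.OrthSimple Cfsg.Agent.ClassicalGeometry.OrthSemi
open Cfsg.Agent.ClassicalGeometry.OrthAut1 Cfsg.Agent.H106.RC Cfsg.Agent.H93.RC Cfsg.Agent.H566.RC
open Cfsg.Agent.LieClassical.QuadForms Cfsg.Agent.ClassicalGeometry.TrialityOct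
open Cfsg.Agent.ClassicalGeometry.Triality Cfsg.Agent.ClassicalGeometry.TrialitySpaces
open Cfsg.Agent.H198.TriBase Cfsg.Agent.H198.TriAut Cfsg.Agent.H198.TriDia
open Cfsg.Agent.H206.Balance hiding Good
open Cfsg.Agent.H864.RC Cfsg.Agent.AutOrth.Main

section eng

variable {F : Type} [Field F] [Finite F] {G Ω : Type} [Group G] [Finite G] [MulAction G Ω] [Nonempty Ω]
  {N : Subgroup G} {σ : P8 F →* G}

theorem card_N (hσ : Rp (plusForm 4 F) N σ) : Nat.card (P8 F) = Nat.card N := by
  have h := MonoidHom.ofInjective hσ.inj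
  rw [hσ.range] at h
  exact Nat.card_congr h.toEquiv

theorem fin8 : finrank F (V8 F) = 8 := by
  rw [Module.finrank_fintype_fun_eq_card]; simp

/-- the engine with `up σ` -/
theorem no_cov_up (hN : NoCovEven) (hG : Good (plusForm 4 F)) (hE : Env G Ω N) (hσ : Rp (plusForm 4 F) N σ)
    (hIH : IH (Nat.card (P8 F))) {ι : Type} [Finite ι] {x : ι → G} {r : ι → ℕ} (hx : PF x r) (hcov : Cov Ω x)
    (hl : ∀ i, ∃ M : G8 F, Lf (up σ) (x i) M) : False := by
  choose M hM using hl
  exact hN hG hE hσ.rep hIH hM hx hcov (by rw [fin8]) (by rw [fin8]; decide)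

theorem noN_of (hN : NoCovEven) (hG : Good (plusForm 4 F)) (hE : Env G Ω N) (hσ : Rp (plusForm 4 F) N σ)
    (hIH : IH (Nat.card (P8 F))) : NoN Ω N := by
  intro κ _ y t hy hcov hmem
  refine no_cov_up hN hG hE hσ hIH hy hcov fun i => ?_
  have h1 : y i ∈ (up σ).range := by rw [hσ.rep.range]; exact hmem i
  obtain ⟨e, he⟩ := h1
  exact ⟨tg _ e, he ▸ Lf.tg e⟩

/-- the frame of type iii is a `T3` -/
theorem t3_of (hG : Good (plusForm 4 F)) (hE : Env G Ω N) {ι : Type} [Finite ι] {x : ι → G} {r : ι → ℕ}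
    (hx : PF x r) (hcov : Cov Ω x) {i₁ : ι} {ν : F ≃+* F} (hν : ν ≠ RingEquiv.refl F)
    (h3 : ∀ a, ν (ν (ν a)) = a) {M : ι → G8 F} (fr : H675.RC.Fr hG N x r σ i₁ (fG ν) M)
    (hl : ∀ j, H198.TriDia.IsLin (M j)) :
    ∃ g : {j // j ≠ i₁} → (V8 F ≃ₗ[F] V8 F),
      T3 hG N σ ν Ω (x i₁) (fun j : {j // j ≠ i₁} => x j) (fun j => r j) g := by
  have hm := fun j : {j // j ≠ i₁} => fr.mem hE j.2 (hl j)
  choose g hg hgM hgx using hm
  have hinj : ∀ a b : ↥(E (plusForm 4 F)), tg (plusForm 4 F) a = tg (plusForm 4 F) b → a = b := by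
    intro a b h
    apply Subtype.ext
    apply LinearEquiv.ext
    intro v
    have := congrArg (fun M : G8 F => M.1 v) h
    exact this
  have hgp : ∀ j : {j // j ≠ i₁}, g j ^ r j = 1 := by
    intro j
    apply hinj
    rw [map_pow, hgM, fr.pow, map_one]
  have hgc : ∀ i j : {j // j ≠ i₁}, g i * g j = g j * g i := by
    intro i j
    apply hinj
    rw [map_mul, map_mul, hgM, hgM, fr.comm]
  have hg1 : ∀ j : {j // j ≠ i₁}, g j ≠ 1 := by
    intro j h
    apply fr.ne j j.2
    rw [← hgM, h, map_one]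
  refine ⟨fun j => (g j : V8 F ≃ₗ[F] V8 F), ?_⟩
  exact
    { env := hE
      rp := fr.rp
      cube := h3
      ne := hν
      tri := fr.la
      prime := fun i => hx.prime i
      inj := fun i j h => Subtype.ext (hx.inj h)
      three := fun i h => i.2 (hx.inj (h.trans fr.three.symm))
      mem := hg
      lift := fun i => hgx i
      pow := fun i => by
        have := congrArg Subtype.val (hgp i)
        simpa only [_root_.ne_eq, _root_.SubmonoidClass.coe_pow, _root_.OneMemClass.coe_one] using this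
      ne1 := fun i h => hg1 i (Subtype.ext h)
      comm := fun i j => by
        have := congrArg Subtype.val (hgc i j)
        exact this
      cov := fun ω => by
        obtain ⟨i, hi⟩ := hcov ω
        by_cases h : i = i₁
        · left; rw [← h]; exact hi
        · exact Or.inr ⟨⟨i, h⟩, hi⟩ }

end eng

/-- type i: `τ = 1` -/
def TypeI : Prop :=
  ∀ {F : Type} [Field F] [Finite F] {G Ω : Type} [Group G] [Finite G] [MulAction G Ω] [Nonempty Ω]
    {N : Subgroup G} {σ : P8 F →* G} (hG : Good (plusForm 4 F)) (_ : Env G Ω N)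
    (_ : IH (Nat.card (P (plusForm 4 F)))) {ι : Type} [Finite ι] {x : ι → G} {r : ι → ℕ} (_ : PF x r)
    (_ : Cov Ω x) {i₁ : ι} {M : ι → G8 F} (_ : H675.RC.Fr hG N x r σ i₁ 1 M)
    (_ : ∀ j, H198.TriDia.IsLin (M j)), False

/-- type ii: `τ = tauB`, `p ≠ 3` -/
def TypeII : Prop :=
  ∀ {F : Type} [Field F] [Finite F] {G Ω : Type} [Group G] [Finite G] [MulAction G Ω] [Nonempty Ω]
    {N : Subgroup G} {σ : P8 F →* G} (hG : Good (plusForm 4 F)) (_ : Env G Ω N)
    (_ : IH (Nat.card (P (plusForm 4 F)))) {ι : Type} [Finite ι] {x : ι → G} {r : ι → ℕ} (_ : PF x r)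
    (_ : Cov Ω x) {i₁ : ι} {M : ι → G8 F} (_ : H675.RC.Fr hG N x r σ i₁ (tauB F) M) (_ : (3 : F) ≠ 0)
    (_ : ∀ j, H198.TriDia.IsLin (M j)), False

/-- type iii: `τ` is a field automorphism -/
def TypeIII : Prop :=
  ∀ {F : Type} [Field F] {G Ω ι : Type} [Group G] [MulAction G Ω] {N : Subgroup G} {hG : Good (plusForm 4 F)}
    {κ : P8 F →* G} {s : F ≃+* F} {x₁ : G} {x : ι → G} {r : ι → ℕ} {g : ι → (V8 F ≃ₗ[F] V8 F)}
    [Finite F] [Finite G] [Finite ι] [Nonempty Ω] (_ : T3 hG N κ s Ω x₁ x r g)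
    (_ : IH (Nat.card N)) (_ : NoN Ω N), False

/-- type iv: `τ ≠ 1` linear, `p = 3` -/
def TypeIV : Prop :=
  ∀ {F : Type} [Field F] [Finite F] {G Ω : Type} [Group G] [Finite G] [MulAction G Ω] [Nonempty Ω]
    {N : Subgroup G} {σ : P8 F →* G} (hG : Good (plusForm 4 F)) (_ : Env G Ω N)
    (_ : IH (Nat.card (P (plusForm 4 F)))) {ι : Type} [Finite ι] {x : ι → G} {r : ι → ℕ} (_ : PF x r)
    (_ : Cov Ω x) {i₁ : ι} {τ : G8 F} {M : ι → G8 F} (_ : H675.RC.Fr hG N x r σ i₁ τ M) (_ : (3 : F) = 0)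
    (_ : H198.TriDia.IsLin τ) (_ : τ ≠ 1) (_ : ∀ j, H198.TriDia.IsLin (M j)) (_ : ∃ j, j ≠ i₁), False

/-- no cover of `PΩ₈⁺(q)` at all -/
theorem no_cov8 (hN : NoCovEven) (h1 : TypeI) (h2 : TypeII) (h3 : TypeIII) (h4 : TypeIV)
    {F : Type} [Field F] [Finite F] {G Ω : Type} [Group G] [Finite G] [MulAction G Ω] [Nonempty Ω]
    {N : Subgroup G} {σ : P8 F →* G} (hG : Good (plusForm 4 F)) (hE : Env G Ω N) (hσ : Rp (plusForm 4 F) N σ)
    (hIH : IH (Nat.card (P8 F))) {ι : Type} [Finite ι] {x : ι → G} {r : ι → ℕ} (hx : PF x r) (hcov : Cov Ω x) :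
    False := by
  by_cases hno : ∃ σ' : P8 F →* G, Rp (plusForm 4 F) N σ' ∧ ∀ i, ∃ M : G8 F, Lf (up σ') (x i) M
  · obtain ⟨σ', hσ', hl⟩ := hno
    exact no_cov_up hN hG hE hσ' hIH hx hcov hl
  obtain ⟨x', σ', i₁, τ, M, -, -, hx', hfix, fr⟩ := H675.RC.frame hG hE hσ hx hno
  have hcov' : Cov Ω x' := fun ω => by
    obtain ⟨i, hi⟩ := hcov ω
    exact ⟨i, (hfix i ω).2 hi⟩
  by_cases hnl : ∃ i, i ≠ i₁ ∧ ¬ Cfsg.Agent.H93.RC.IsLin (M i)
  · exact H679.RC.TriField.box_field hG hE fr.rp hx' hcov' hIH fr.three fr.la (xt_not_mem hG τ) fr.lf hnl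
  push Not at hnl
  have hl : ∀ j, H198.TriDia.IsLin (M j) := by
    intro j
    by_cases hj : j = i₁
    · rw [hj, fr.one]
      exact H679.RC.TriField.lin_iff hG (fun a v => rfl)
    · exact H679.RC.TriField.lin_iff hG (hnl j hj)
  rcases fr.nf with h | ⟨h30, h⟩ | ⟨ν, hν, hν3, h⟩ | ⟨h30, hτl, hτ1, -⟩
  · subst h
    exact h1 hG hE hIH hx' hcov' fr hl
  · subst h
    exact h2 hG hE hIH hx' hcov' fr h30 hl
  · subst h
    obtain ⟨g, hg⟩ := t3_of hG hE hx' hcov' hν hν3 fr hl
    exact h3 hg (by rw [← card_N fr.rp]; exact hIH) (noN_of hN hG hE fr.rp hIH)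
  · by_cases hex : ∃ j, j ≠ i₁
    · exact h4 hG hE hIH hx' hcov' fr h30 hτl hτ1 hl hex
    · push Not at hex
      exact hx'.ne i₁ (hE.single fun ω => by
        obtain ⟨i, hi⟩ := hcov' ω
        rwa [hex i] at hi)

theorem row8_of (hN : NoCovEven) (h1 : TypeI) (h2 : TypeII) (h3 : TypeIII) (h4 : TypeIV) : Row8 := by
  intro S _ _ hS hSn hP hEx hIH
  obtain ⟨F, i1, i2, ⟨f⟩⟩ := hP
  have hG : Good (LieClassical.QuadForms.plusForm 4 F) := good_plus (by omega)
  have f' : S ≃* Cfsg.POmega F ⇑(LieClassical.QuadForms.plusForm 4 F) := by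
    rw [LieClassical.QuadForms.coe_plusForm]
    exact f
  have f8 : S ≃* P8 F := f'.trans (pe hG)
  apply rc_of_set hS hSn
  intro G _ _ Ω _ _ _ N hE e g
  by_contra hno
  push Not at hno
  obtain ⟨ι, _, x, r, hx, hcov, -, -⟩ := exists_cover hno
  obtain ⟨σ, hσ⟩ := exists_rp e f8
  exact no_cov8 hN h1 h2 h3 h4 hG hE hσ (by rw [← Nat.card_congr f8.toEquiv]; exact hIH) hx hcov

end Cfsg.Agent.H721.RC
end

private theorem dce_4151f8991470 : _root_.True := by
  try have : _root_.True := by simp only [_root_.Cfsg.Agent.H377.Elt.congr_simp]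
  exact _root_.True.intro
end

-- part: H579/RC/Opg_mg
section
prune_inst 0x30000008000000000000100000020000000000000004000403050600000c0800000040a90004014000000000000000000000200000000000200000000000000000000420000000800010000000000000000000000000000000000000010000000000000
set_option linter.all false
open scoped Cfsg.Agent.FastGrp

-- part: H579/RC/Opg
section
/-!
# S3510, triality type iii: one-parameter groups commuting with a `p'`-family (helper579)

`exists_opg` : an element of order `p` of `E Q` commuting with the `p'`-family `g` gives a one-parameter group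
`1 + t X + t² Y` in `E Q` commuting with the `g i`.
-/

set_option autoImplicit false
open Cfsg

namespace Cfsg.Agent.H579.RC.Opg

open Module QuadraticMap MulAction
open Cfsg.Agent.LieClassical.OrthCore Cfsg.Agent.LieClassical.OrthTrans
open Cfsg.Agent.H890.SpParity

variable {F V : Type*} [Field F] [AddCommGroup V] [Module F V] {Q : QuadraticForm F V}

/-- the linear map `1 + t X + t² Y` -/
def fo (X Y : V →ₗ[F] V) (t : F) : V →ₗ[F] V := LinearMap.id + t • X + t ^ 2 • Y

theorem fo_apply (X Y : V →ₗ[F] V) (t : F) (v : V) : fo X Y t v = v + t • X v + t ^ 2 • Y v := rfl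

/-- the group law -/
theorem fo_add {X Y : V →ₗ[F] V} (h2 : ∀ v, X (X v) = (2 : F) • Y v) (h3 : ∀ v, X (Y v) = 0) (h3' : ∀ v, Y (X v) = 0)
    (h4 : ∀ v, Y (Y v) = 0) (t u : F) (v : V) : fo X Y t (fo X Y u v) = fo X Y (t + u) v := by
  simp only [fo_apply, map_add, map_smul, h2, h3, h3', h4]
  module

/-- the linear equivalence -/
def ao (X Y : V →ₗ[F] V) (h : ∀ (t u : F) (v : V), fo X Y t (fo X Y u v) = fo X Y (t + u) v) (t : F) : V ≃ₗ[F] V :=
  LinearEquiv.ofLinearMap (fo X Y t) (fo X Y (-t))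
    (LinearMap.ext fun v => by
      rw [LinearMap.comp_apply, h, add_neg_cancel, fo_apply]
      simp)
    (LinearMap.ext fun v => by
      rw [LinearMap.comp_apply, h, neg_add_cancel, fo_apply]
      simp)

theorem ao_apply (X Y : V →ₗ[F] V) (h : ∀ (t u : F) (v : V), fo X Y t (fo X Y u v) = fo X Y (t + u) v) (t : F) (v : V) :
    ao X Y h t v = v + t • X v + t ^ 2 • Y v := rfl

/-- the conclusion of the box -/
def Res (Q : QuadraticForm F V) {ι : Type*} (p : ℕ) (g : ι → (V ≃ₗ[F] V)) : Prop :=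
  ∃ (X Y : V →ₗ[F] V) (a : F → (V ≃ₗ[F] V)), X ≠ 0 ∧ (p = 2 → finrank F (LinearMap.range Y) ≤ 1) ∧
      (∀ t v, a t v = v + t • X v + t ^ 2 • Y v) ∧ (∀ t, a t ∈ E Q) ∧
      (∀ t u, a (t + u) = a t * a u) ∧ ∀ t i, a t * g i = g i * a t

theorem res_of {ι : Type*} {p : ℕ} {g : ι → (V ≃ₗ[F] V)} {X Y : V →ₗ[F] V} (hX : X ≠ 0)
    (hY : p = 2 → finrank F (LinearMap.range Y) ≤ 1)
    (h : ∀ (t u : F) (v : V), fo X Y t (fo X Y u v) = fo X Y (t + u) v) (hE : ∀ t, ao X Y h t ∈ E Q)
    (hcX : ∀ i v, X (g i v) = g i (X v)) (hcY : ∀ i v, Y (g i v) = g i (Y v)) : Res Q p g := by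
  refine ⟨X, Y, ao X Y h, hX, hY, fun t v => rfl, hE, fun t u => ?_, fun t i => ?_⟩
  · ext v
    exact (h t u v).symm
  · ext v
    change ao X Y h t (g i v) = g i (ao X Y h t v)
    rw [ao_apply, ao_apply, hcX, hcY, map_add, map_add, map_smul, map_smul]

/-- squares are in `E` -/
theorem sq_mem_E [FiniteDimensional F V] (hG : Good Q) {g : V ≃ₗ[F] V} (hg : g ∈ O Q) : g * g ∈ E Q := by
  have hcomm : ∀ g ∈ O Q, ∀ h ∈ O Q, g * h * g⁻¹ * h⁻¹ ∈ E Q := by
    intro g hg h hh
    rw [← hG.commutator_eq_E]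
    exact Subgroup.commutator_mem_commutator hg hh
  rw [O_eq_closure hG.nondeg] at hg
  have hle : ∀ x ∈ Subgroup.closure (reflSet Q ∪ siegelSet Q), x ∈ O Q := fun x hx => by
    rw [O_eq_closure hG.nondeg]; exact hx
  induction hg using Subgroup.closure_induction with
  | mem x hx =>
    rcases hx with ⟨v, hv, rfl⟩ | hx
    · rw [refl_mul_self]; exact one_mem _
    · exact mul_mem (Subgroup.subset_closure hx) (Subgroup.subset_closure hx)
  | one => rw [one_mul]; exact one_mem _
  | mul g h hg hh h1 h2 =>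
    have e : g * h * (g * h) = (g * g) * (g⁻¹ * h * g⁻¹⁻¹ * h⁻¹) * (h * h) := by group
    rw [e]
    exact mul_mem (mul_mem h1 (hcomm _ (inv_mem (hle g hg)) _ (hle h hh))) h2
  | inv g hg h =>
    have e : g⁻¹ * g⁻¹ = (g * g)⁻¹ := by group
    rw [e]
    exact inv_mem h

theorem two_Q (x : V) : polar Q x x = 2 * Q x := by
  rw [QuadraticMap.polar_self, nsmul_eq_mul, Nat.cast_ofNat]

/-- `p` odd: a nonzero skew `X` with `X³ = 0` -/
theorem res_of_skew [FiniteDimensional F V] (hG : Good Q) (h2 : (2 : F) ≠ 0) {ι : Type*} {p : ℕ} (hp2 : p ≠ 2)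
    {g : ι → (V ≃ₗ[F] V)} {X : V →ₗ[F] V} (hX : X ≠ 0) (hs : ∀ v w, polar Q (X v) w = - polar Q v (X w))
    (h3 : ∀ v, X (X (X v)) = 0) (hcX : ∀ i v, X (g i v) = g i (X v)) : Res Q p g := by
  let Y : V →ₗ[F] V := (2 : F)⁻¹ • (X ∘ₗ X)
  have hY : ∀ v, Y v = (2 : F)⁻¹ • X (X v) := fun v => rfl
  have h : ∀ (t u : F) (v : V), fo X Y t (fo X Y u v) = fo X Y (t + u) v := by
    refine fo_add (fun v => ?_) (fun v => ?_) (fun v => ?_) (fun v => ?_)
    · rw [hY, smul_smul, mul_inv_cancel₀ h2, one_smul]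
    · rw [hY, map_smul, h3, smul_zero]
    · rw [hY, h3, smul_zero]
    · rw [hY, hY, map_smul, map_smul, h3, smul_zero, smul_zero]
  have hYs : ∀ v w, polar Q (Y v) w = polar Q v (Y w) := by
    intro v w
    rw [hY, hY, polar_smul_left, polar_smul_right, hs, hs, neg_neg]
  have hadj : ∀ t v w, polar Q (fo X Y t v) w = polar Q v (fo X Y (-t) w) := by
    intro t v w
    rw [fo_apply, fo_apply, polar_add_left, polar_add_left, polar_add_right, polar_add_right, polar_smul_left,
      polar_smul_left, polar_smul_right, polar_smul_right, hs, hYs]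
    simp only [smul_eq_mul]
    ring
  have hO : ∀ t, ao X Y h t ∈ O Q := by
    intro t v
    have h5 : polar Q (fo X Y t v) (fo X Y t v) = polar Q v v := by
      rw [hadj, h, neg_add_cancel, fo_apply]
      simp
    rw [two_Q, two_Q] at h5
    exact mul_left_cancel₀ h2 h5
  refine res_of hX (fun h => absurd h hp2) h (fun t => ?_) hcX (fun i v => ?_)
  · have h6 : ao X Y h t = ao X Y h (t / 2) * ao X Y h (t / 2) := by
      ext v
      change fo X Y t v = fo X Y (t / 2) (fo X Y (t / 2) v)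
      rw [h]
      congr 2
      field_simp
      ring
    rw [h6]
    exact sq_mem_E hG (hO _)
  · rw [hY, hY, hcX, hcX, map_smul]

/-- the case of odd characteristic -/
theorem odd_case [FiniteDimensional F V] (hG : Good Q) {ι : Type*} {p : ℕ} [CharP F p] (hp : p.Prime) (hp2 : p ≠ 2)
    {g : ι → (V ≃ₗ[F] V)} {c : V ≃ₗ[F] V} (hcE : c ∈ O Q) (hcp : c ^ p = 1) (hc1 : c ≠ 1)
    (hcc : ∀ i, c * g i = g i * c) : Res Q p g := by
  have := Fact.mk hp
  have h2 : (2 : F) ≠ 0 := by
    intro h
    have h1 := (CharP.cast_eq_zero_iff F p 2).1 (by exact_mod_cast h)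
    exact hp2 ((Nat.prime_dvd_prime_iff_eq hp Nat.prime_two).1 h1)
  have hnt : Nontrivial V := Module.nontrivial_of_finrank_pos (R := F) (by have := hG.dim; omega)
  have hch : CharP (Module.End F V) p :=
    charP_of_injective_algebraMap (FaithfulSMul.algebraMap_injective F (Module.End F V)) p
  have hpol : ∀ v w, polar Q (c v) (c w) = polar Q v w := by
    intro v w
    simp only [QuadraticMap.polar]
    rw [← map_add, hcE, hcE, hcE]
  let C : Module.End F V := (c : V →ₗ[F] V)
  let D : Module.End F V := ((c⁻¹ : V ≃ₗ[F] V) : V →ₗ[F] V)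
  have hCD : C * D = 1 := by
    ext v
    exact c.apply_symm_apply v
  have hDC : D * C = 1 := by
    ext v
    exact c.symm_apply_apply v
  have hcomm : Commute C D := by
    change C * D = D * C
    rw [hCD, hDC]
  have hpw : ∀ (n : ℕ) (v : V), (C ^ n) v = (c ^ n : V ≃ₗ[F] V) v := by
    intro n
    induction n with
    | zero => intro v; rfl
    | succ n ih => intro v; rw [pow_succ, Module.End.mul_apply, ih, pow_succ]; rfl
  have hCp : C ^ p = 1 := by
    ext v
    rw [hpw, hcp]; rfl
  have hDp : D ^ p = 1 := by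
    have h1 : (C * D) ^ p = C ^ p * D ^ p := hcomm.mul_pow p
    rw [hCD, one_pow, hCp, one_mul] at h1
    exact h1.symm
  set X : Module.End F V := C - D with hXdef
  have hXp : X ^ p = 0 := by
    rw [hXdef, sub_pow_char_of_commute p hcomm, hCp, hDp, sub_self]
  have hX1 : X ≠ 0 := by
    intro h
    have h3 : C = D := sub_eq_zero.1 h
    apply hc1
    have h4 : c ^ 2 = 1 := by
      ext v
      rw [← hpw, pow_two]
      have h5 : C * C = 1 := by nth_rw 2 [h3]; exact hCD
      rw [h5]; rfl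
    have h5 := pow_gcd_eq_one.2 ⟨h4, hcp⟩
    have h6 : Nat.gcd 2 p = 1 := (Nat.coprime_primes Nat.prime_two hp).2 (Ne.symm hp2)
    rwa [h6, pow_one] at h5
  have hXs : ∀ v w, polar Q (X v) w = - polar Q v (X w) := by
    intro v w
    have e1 : ∀ v, X v = c v - c.symm v := fun v => rfl
    rw [e1, e1, polar_sub_left, polar_sub_right]
    have e2 : ∀ v w, polar Q (c v) w = polar Q v (c.symm w) := by
      intro v w
      have := hpol v (c.symm w)
      rwa [LinearEquiv.apply_symm_apply] at this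
    have e3 : polar Q (c.symm v) w = polar Q v (c w) := by
      have := e2 w v
      rw [polar_comm Q v (c w), this, polar_comm]
    rw [e2, e3]
    ring
  have hXpow : ∀ (m : ℕ) (v w : V), polar Q ((X ^ m) v) w = (-1) ^ m * polar Q v ((X ^ m) w) := by
    intro m
    induction m with
    | zero => intro v w; simp
    | succ m ih =>
      intro v w
      have e1 : (X ^ (m + 1)) v = X ((X ^ m) v) := by rw [pow_succ', Module.End.mul_apply]
      have e2 : (X ^ (m + 1)) w = (X ^ m) (X w) := by rw [pow_succ, Module.End.mul_apply]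
      rw [e1, e2, hXs, ih, pow_succ (-1 : F)]
      ring
  -- the index
  classical
  have hex : ∃ k, X ^ k = 0 := ⟨p, hXp⟩
  obtain ⟨k, hk, hmin⟩ : ∃ k, X ^ k = 0 ∧ ∀ m < k, X ^ m ≠ 0 := ⟨Nat.find hex, Nat.find_spec hex, fun m hm => Nat.find_min hex hm⟩
  have hk2 : 2 ≤ k := by
    rcases Nat.lt_or_ge k 2 with h | h
    · interval_cases k
      · rw [pow_zero] at hk
        exact absurd hk one_ne_zero
      · rw [pow_one] at hk
        exact absurd hk hX1
    · exact h
  obtain ⟨m, hm1, hm2, hm3⟩ : ∃ m, Odd m ∧ m < k ∧ k ≤ 3 * m := by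
    rcases Nat.even_or_odd k with h | h
    · exact ⟨k - 1, Nat.Even.sub_odd (by omega) h odd_one, by omega, by omega⟩
    · obtain ⟨j, rfl⟩ := h
      exact ⟨2 * j - 1, ⟨j - 1, by omega⟩, by omega, by omega⟩
  refine res_of_skew hG h2 hp2 (X := X ^ m) (hmin m hm2) (fun v w => ?_) (fun v => ?_) (fun i v => ?_)
  · rw [hXpow, hm1.neg_one_pow]
    ring
  · have e1 : X ^ (3 * m) = 0 := by
      obtain ⟨j, hj⟩ := Nat.exists_eq_add_of_le hm3
      rw [hj, pow_add, hk, zero_mul]
    have e2 : (X ^ m) ((X ^ m) ((X ^ m) v)) = (X ^ (3 * m)) v := by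
      rw [← Module.End.mul_apply, ← Module.End.mul_apply, ← pow_add, ← pow_add]
      congr 2
      ring
    rw [e2, e1]; rfl
  · have e1 : ∀ v, X (g i v) = g i (X v) := by
      intro v
      have e2 : ∀ v, c (g i v) = g i (c v) := fun v => LinearEquiv.congr_fun (hcc i) v
      have e3 : ∀ v, c.symm (g i v) = g i (c.symm v) := by
        intro v
        apply c.injective
        rw [LinearEquiv.apply_symm_apply, e2, LinearEquiv.apply_symm_apply]
      change c (g i v) - c.symm (g i v) = g i (c v - c.symm v)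
      rw [e2, e3, map_sub]
    have e4 : ∀ (n : ℕ) (v : V), (X ^ n) (g i v) = g i ((X ^ n) v) := by
      intro n
      induction n with
      | zero => intro v; rfl
      | succ n ih => intro v; rw [pow_succ, Module.End.mul_apply, Module.End.mul_apply, e1, ih]
    exact e4 m v

/-! ### Characteristic two -/

/-- in even characteristic the isometries of the right parity are in `E Q` -/
theorem mem_E_of_even [Finite F] (hG : Good Q) (h2 : (2 : F) = 0) {g : V ≃ₗ[F] V} (hg : g ∈ O Q)
    (he : Even (finrank F (fix g) + finrank F V)) : g ∈ E Q := by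
  have : FiniteDimensional F V := Module.finite_of_finrank_pos (by have := hG.dim; omega)
  obtain ⟨x, y, hxy⟩ := hG.exists_hyp
  obtain ⟨w, hw0, _, hw1, hw2⟩ := hG.perp x y hxy
  have hsq : ∀ x : F, ∃ y, y ^ 2 = x := by
    have hinj : Function.Injective (fun y : F => y ^ 2) := by
      intro a b hab
      have h3 : (a - b) ^ 2 = 0 := by
        have h4 : a ^ 2 = b ^ 2 := hab
        linear_combination h4 + (b ^ 2 - a * b) * h2
      exact sub_eq_zero.1 (eq_zero_of_pow_eq_zero h3)
    exact fun x => Finite.injective_iff_surjective.1 hinj x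
  have H : Hyp2 Q x y := ⟨h2, hsq, hG.nondeg, hxy.left, hxy.right, hxy.pair, w, hw0, hw1, hw2⟩
  rcases H.mem_O_cases hg with h | ⟨e, he', rfl⟩
  · exact h
  · exact absurd he (odd_refl_E H.nd he' _)

section two

variable {N : V →ₗ[F] V}

/-- the isometry `1 + N` -/
structure Inv (Q : QuadraticForm F V) (N : V →ₗ[F] V) : Prop where
  two : (2 : F) = 0
  sq : ∀ v, N (N v) = 0
  form : ∀ v, Q (N v) = polar Q v (N v)

theorem dbl (h2 : (2 : F) = 0) (x : V) : x + x = 0 := by
  rw [← two_smul F, h2, zero_smul]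

theorem dblF (h2 : (2 : F) = 0) (x : F) : x + x = 0 := by
  rw [← two_mul, h2, zero_mul]

theorem Inv.iso (h : Inv Q N) (v : V) : Q (v + N v) = Q v := by
  rw [Q_add, h.form]
  have := dblF h.two (polar Q v (N v))
  linear_combination this

theorem Inv.pol (h : Inv Q N) (v w : V) : polar Q (v + N v) (w + N w) = polar Q v w := by
  have e : v + N v + (w + N w) = (v + w) + N (v + w) := by rw [map_add]; abel
  simp only [QuadraticMap.polar]
  rw [e, h.iso, h.iso, h.iso]

theorem Inv.nn (h : Inv Q N) (v w : V) : polar Q (N v) (N w) = 0 := by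
  have h1 := h.pol (N v) w
  rw [h.sq, add_zero, polar_add_right] at h1
  linear_combination h1

theorem Inv.sym (h : Inv Q N) (v w : V) : polar Q (N v) w = polar Q v (N w) := by
  have h1 := h.pol v w
  rw [polar_add_left, polar_add_right, polar_add_right, h.nn] at h1
  have := dblF h.two (polar Q v (N w))
  linear_combination h1 - this

/-- `Q N` is additive -/
theorem Inv.add (h : Inv Q N) (v w : V) : Q (N (v + w)) = Q (N v) + Q (N w) := by
  rw [map_add, Q_add, h.nn, add_zero]

/-- the isometry -/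
def Inv.eqv (h : Inv Q N) : V ≃ₗ[F] V :=
  LinearEquiv.ofLinearMap (LinearMap.id + N) (LinearMap.id + N)
    (LinearMap.ext fun v => by
      change (v + N v) + N (v + N v) = v
      rw [map_add, h.sq, add_zero, add_assoc, dbl h.two, add_zero])
    (LinearMap.ext fun v => by
      change (v + N v) + N (v + N v) = v
      rw [map_add, h.sq, add_zero, add_assoc, dbl h.two, add_zero])

theorem Inv.eqv_apply (h : Inv Q N) (v : V) : h.eqv v = v + N v := rfl

theorem Inv.mem_O (h : Inv Q N) : h.eqv ∈ O Q := fun v => h.iso v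

theorem Inv.fix_eq (h : Inv Q N) : fix h.eqv = LinearMap.ker N := by
  ext v
  rw [mem_fix, h.eqv_apply, LinearMap.mem_ker]
  constructor
  · intro h1
    exact left_eq_add.1 h1.symm
  · intro h1
    rw [h1, add_zero]

/-- alternating: even rank -/
theorem Inv.even [FiniteDimensional F V] (hQ : Nondeg Q) (h : Inv Q N) (h0 : ∀ v, Q (N v) = 0) :
    Even (finrank F (LinearMap.ker N) + finrank F V) := by
  let B : LinearMap.BilinForm F V := (polarBilin Q).compl₁₂ LinearMap.id N
  have hB : ∀ v w, B v w = polar Q v (N w) := fun v w => rfl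
  have halt : B.IsAlt := by
    intro v
    rw [hB, ← h.form, h0]
  obtain ⟨m, hm⟩ := Cfsg.Agent.ClassicalGeometry.TwoFamilies.exists_finrank_eq_ker_add B halt
  have hker : LinearMap.ker B = LinearMap.ker N := by
    ext v
    rw [LinearMap.mem_ker, LinearMap.mem_ker]
    constructor
    · intro h1
      apply hQ
      intro w
      rw [h.sym, ← hB, h1]
      rfl
    · intro h1
      ext w
      rw [hB, ← h.sym, h1]
      simp
  rw [hker] at hm
  exact ⟨finrank F (LinearMap.ker N) + m, by rw [hm]; ring⟩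

end two

/-- `p = 2`, `Q N = 0` -/
theorem two_a [Finite F] (hG : Good Q) {ι : Type*} {p : ℕ} {g : ι → (V ≃ₗ[F] V)} {N : V →ₗ[F] V} (h : Inv Q N)
    (hN0 : N ≠ 0) (h0 : ∀ v, Q (N v) = 0) (hcN : ∀ i v, N (g i v) = g i (N v)) : Res Q p g := by
  have : FiniteDimensional F V := Module.finite_of_finrank_pos (by have := hG.dim; omega)
  have hgr : ∀ (t u : F) (v : V), fo N 0 t (fo N 0 u v) = fo N 0 (t + u) v :=
    fo_add (fun v => by rw [h.sq, LinearMap.zero_apply, smul_zero]) (fun v => by simp) (fun v => by simp) (fun v => by simp)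
  refine res_of hN0 (fun _ => ?_) hgr (fun t => ?_) hcN (fun i v => by simp only [_root_.LinearMap.zero_apply, _root_.map_zero])
  · rw [LinearMap.range_zero, finrank_bot]; exact Nat.zero_le _
  · have ht : Inv Q (t • N) := by
      refine ⟨h.two, fun v => ?_, fun v => ?_⟩
      · rw [LinearMap.smul_apply, LinearMap.smul_apply, map_smul, h.sq, smul_zero, smul_zero]
      · rw [LinearMap.smul_apply, QuadraticMap.map_smul, h0, smul_zero, polar_smul_right, ← h.form, h0, smul_zero]
    have e : ao N 0 hgr t = ht.eqv := by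
      ext v
      rw [ao_apply, ht.eqv_apply, LinearMap.zero_apply, smul_zero, add_zero, LinearMap.smul_apply]
    rw [e]
    apply mem_E_of_even hG h.two ht.mem_O
    rw [ht.fix_eq]
    refine ht.even hG.nondeg (fun v => ?_)
    rw [LinearMap.smul_apply, QuadraticMap.map_smul, h0, smul_zero]

/-- `p = 2`, two independent fixed vectors -/
theorem two_b (hG : Good Q) {ι : Type*} {p : ℕ} {g : ι → (V ≃ₗ[F] V)} (hg : ∀ i v, Q (g i v) = Q v) {e b : V}
    (he : Q e = 0) (he0 : e ≠ 0) (heb : polar Q e b = 0) (hb : ∀ a : F, b ≠ a • e) (hge : ∀ i, g i e = e)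
    (hgb : ∀ i, g i b = b) : Res Q p g := by
  let X : V →ₗ[F] V := (polarBilin Q e).smulRight b - (polarBilin Q b).smulRight e
  let Y : V →ₗ[F] V := -(Q b) • (polarBilin Q e).smulRight e
  have hX : ∀ v, X v = polar Q e v • b - polar Q b v • e := fun v => rfl
  have hY : ∀ v, Y v = -(Q b) • polar Q e v • e := fun v => rfl
  have hw : ∀ t : F, polar Q e (t • b) = 0 := fun t => by rw [polar_smul_right, heb, smul_zero]
  have hgp : ∀ i v w, polar Q (g i v) (g i w) = polar Q v w := by
    intro i v w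
    simp only [QuadraticMap.polar]
    rw [← map_add, hg, hg, hg]
  have happ : ∀ (t : F) (v : V), siegel Q e (t • b) he (hw t) v = v + t • X v + t ^ 2 • Y v := by
    intro t v
    rw [siegel_apply, hX, hY, QuadraticMap.map_smul, polar_smul_left]
    simp only [smul_eq_mul]
    module
  refine ⟨X, Y, fun t => siegel Q e (t • b) he (hw t), ?_, fun _ => ?_, happ, fun t => siegel_mem_E _ _, fun t u => ?_,
    fun t i => ?_⟩
  · intro h
    have h1 : ∃ v, polar Q e v ≠ 0 := by
      by_contra hcon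
      push Not at hcon
      exact he0 (hG.nondeg e hcon)
    obtain ⟨v, hv⟩ := h1
    apply hb ((polar Q e v)⁻¹ * polar Q b v)
    have h2 := hX v
    rw [h, LinearMap.zero_apply] at h2
    rw [mul_smul, ← sub_eq_zero.1 h2.symm, smul_smul, inv_mul_cancel₀ hv, one_smul]
  · have h1 : LinearMap.range Y ≤ Submodule.span F {e} := by
      rintro _ ⟨v, rfl⟩
      rw [hY]
      exact Submodule.smul_mem _ _ (Submodule.smul_mem _ _ (Submodule.mem_span_singleton_self e))
    exact (Submodule.finrank_mono h1).trans (finrank_span_singleton he0).le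
  · have h1 : (t + u) • b = t • b + u • b := add_smul _ _ _
    have h2 : polar Q e (t • b + u • b) = 0 := by rw [← h1]; exact hw _
    beta_reduce
    rw [siegel_mul he (hw t) (hw u) h2]
    congr 1
  · ext v
    change siegel Q e (t • b) he (hw t) (g i v) = g i (siegel Q e (t • b) he (hw t) v)
    rw [happ, happ, hX, hX, hY, hY]
    have e1 : polar Q e (g i v) = polar Q e v := by
      have := hgp i e v
      rwa [hge] at this
    have e2 : polar Q b (g i v) = polar Q b v := by
      have := hgp i b v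
      rwa [hgb] at this
    rw [e1, e2]
    simp only [map_add, map_sub, map_smul, hge, hgb]

/-- the case of even characteristic -/
theorem two_case [Finite F] (hG : Good Q) {ι : Type*} [Finite ι] (h2 : (2 : F) = 0) {p : ℕ} {g : ι → (V ≃ₗ[F] V)}
    (hg : ∀ i v, Q (g i v) = Q v) {r : ι → ℕ} (hr : ∀ i, Odd (r i)) (hpow : ∀ i, g i ^ r i = 1)
    (hc : ∀ i j, g i * g j = g j * g i) {c : V ≃ₗ[F] V} (hcE : c ∈ E Q) (hcp : c ^ 2 = 1) (hc1 : c ≠ 1)
    (hcc : ∀ i, c * g i = g i * c) : Res Q p g := by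
  classical
  have : FiniteDimensional F V := Module.finite_of_finrank_pos (by have := hG.dim; omega)
  have hVf : Finite V := Module.finite_of_finite F
  have hfin : Finite (V ≃ₗ[F] V) := Finite.of_injective (fun f : V ≃ₗ[F] V => (f : V → V)) DFunLike.coe_injective
  have := Fintype.ofFinite ι
  let A : Subgroup (V ≃ₗ[F] V) := Subgroup.closure (Set.range g)
  have := Fintype.ofFinite A
  have hAg : ∀ i, g i ∈ A := fun i => Subgroup.subset_closure ⟨i, rfl⟩
  have hcg : ∀ (y : V ≃ₗ[F] V), (∀ i, y * g i = g i * y) → ∀ a ∈ A, y * a = a * y := by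
    intro y hy a ha
    have h1 : A ≤ Subgroup.centralizer {y} := by
      rw [Subgroup.closure_le]
      rintro _ ⟨i, rfl⟩
      change g i ∈ Subgroup.centralizer {y}
      rw [Subgroup.mem_centralizer_singleton_iff]
      exact (hy i).symm
    exact ((Subgroup.mem_centralizer_singleton_iff.1 (h1 ha))).symm
  have hAA : ∀ a ∈ A, ∀ b ∈ A, a * b = b * a := by
    intro a ha b hb
    exact hcg a (fun i => (hcg (g i) (fun j => hc i j) a ha).symm) b hb
  -- the order of `A` is odd
  have hm : Odd (∏ i, r i) := Finset.prod_induction r Odd (fun a b ha hb => ha.mul hb) odd_one (fun i _ => hr i)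
  have hAm : ∀ a ∈ A, a ^ (∏ i, r i) = 1 := by
    intro a ha
    induction ha using Subgroup.closure_induction with
    | mem x hx =>
      obtain ⟨i, rfl⟩ := hx
      obtain ⟨k, hk⟩ := Finset.dvd_prod_of_mem r (Finset.mem_univ i)
      rw [hk, pow_mul, hpow, one_pow]
    | one => exact one_pow _
    | mul x y hx hy h1 h2 =>
      have h3 : Commute x y := hAA x hx y hy
      rw [h3.mul_pow, h1, h2, one_mul]
    | inv x hx h1 => rw [inv_pow, h1, inv_one]
  have hodd : Odd (Fintype.card A) := by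
    rw [← Nat.not_even_iff_odd]
    intro hev
    have := Fact.mk Nat.prime_two
    obtain ⟨a, ha⟩ := exists_prime_orderOf_dvd_card 2 hev.two_dvd
    have h1 := orderOf_dvd_of_pow_eq_one (Subtype.ext (hAm a a.2) : a ^ (∏ i, r i) = 1)
    rw [ha] at h1
    exact (Nat.not_even_iff_odd.2 hm) (even_iff_two_dvd.2 h1)
  have hcardF : ((Fintype.card A : ℕ) : F) = 1 := by
    obtain ⟨k, hk⟩ := hodd
    rw [hk]
    push_cast
    rw [h2, zero_mul, zero_add]
  have hcardV : ∀ v : V, (Fintype.card A) • v = v := by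
    intro v
    rw [← Nat.cast_smul_eq_nsmul F, hcardF, one_smul]
  -- the average
  let ev : V →ₗ[F] V := ∑ a : A, ((a : V ≃ₗ[F] V) : V →ₗ[F] V)
  have hev : ∀ v, ev v = ∑ a : A, (a : V ≃ₗ[F] V) v := fun v => by
    change (∑ a : A, ((a : V ≃ₗ[F] V) : V →ₗ[F] V)) v = _
    rw [LinearMap.sum_apply]
    rfl
  have he1 : ∀ b ∈ A, ∀ v, b (ev v) = ev v := by
    intro b hb v
    rw [hev, map_sum]
    exact Fintype.sum_equiv (Equiv.mulLeft (⟨b, hb⟩ : A)) _ _ (fun a => rfl)
  have he2 : ∀ v, ev (ev v) = ev v := by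
    intro v
    rw [hev (ev v), Finset.sum_congr rfl (fun (a : A) _ => he1 a a.2 v), Finset.sum_const, Finset.card_univ, hcardV]
  have hpol : ∀ a ∈ A, ∀ v, Q (a v) = Q v := by
    intro a ha
    have h1 : A ≤ O Q := by
      rw [Subgroup.closure_le]
      rintro _ ⟨i, rfl⟩
      exact hg i
    exact h1 ha
  have hpol' : ∀ a ∈ A, ∀ v w, polar Q (a v) (a w) = polar Q v w := by
    intro a ha v w
    simp only [QuadraticMap.polar]
    rw [← map_add, hpol a ha, hpol a ha, hpol a ha]
  have he4 : ∀ v w, polar Q (ev v) w = polar Q v (ev w) := by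
    intro v w
    have e1 : polar Q (ev v) w = ∑ a : A, polar Q ((a : V ≃ₗ[F] V) v) w := by
      rw [hev]
      have := map_sum ((polarBilin Q).flip w) (fun a : A => (a : V ≃ₗ[F] V) v) Finset.univ
      exact this
    have e2 : polar Q v (ev w) = ∑ a : A, polar Q v ((a : V ≃ₗ[F] V) w) := by
      rw [hev]
      exact map_sum (polarBilin Q v) (fun a : A => (a : V ≃ₗ[F] V) w) Finset.univ
    rw [e1, e2]
    refine Fintype.sum_equiv (Equiv.inv A) _ _ (fun a => ?_)
    have h1 := hpol' a a.2 v (((a⁻¹ : A) : V ≃ₗ[F] V) w)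
    have h2 : (a : V ≃ₗ[F] V) (((a⁻¹ : A) : V ≃ₗ[F] V) w) = w := (a : V ≃ₗ[F] V).apply_symm_apply w
    rw [h2] at h1
    exact h1
  -- the nilpotent map
  let N : V →ₗ[F] V := (c : V →ₗ[F] V) - LinearMap.id
  have hN : ∀ v, N v = c v - v := fun v => rfl
  have hcO : ∀ v, Q (c v) = Q v := E_le_O hcE
  have hneg : ∀ v : V, -v = v := fun v => by
    rw [neg_eq_iff_add_eq_zero]; exact dbl h2 v
  have hInv : Inv Q N := by
    refine ⟨h2, fun v => ?_, fun v => ?_⟩
    · have e1 : c (c v) = v := by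
        have := LinearEquiv.congr_fun hcp v
        rw [pow_two] at this
        exact this
      rw [hN, hN, map_sub, e1]
      have e2 := dbl h2 (v - c v)
      rw [← e2]; abel
    · have e1 : Q (c v - v) = Q (c v) + Q v - polar Q (c v) v := by
        rw [sub_eq_add_neg, Q_add, QuadraticMap.map_neg, polar_neg_right]; ring
      rw [hN, e1, hcO, polar_sub_right, two_Q, polar_comm Q v (c v)]
      linear_combination (2 * Q v - polar Q (c v) v) * h2
  have hN0 : N ≠ 0 := by
    intro h
    apply hc1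
    ext v
    have := LinearMap.congr_fun h v
    rw [hN, LinearMap.zero_apply] at this
    exact sub_eq_zero.1 this
  have hcA : ∀ a ∈ A, ∀ v, N (a v) = a (N v) := by
    intro a ha v
    have h1 : c (a v) = a (c v) := LinearEquiv.congr_fun (hcg c hcc a ha) v
    rw [hN, hN, h1, map_sub]
  have hNe : ∀ v, N (ev v) = ev (N v) := by
    intro v
    rw [hev, hev, map_sum]
    exact Finset.sum_congr rfl (fun a _ => hcA a a.2 v)
  by_cases h0 : ∀ v, Q (N v) = 0
  · exact two_a hG hInv hN0 h0 (fun i v => hcA _ (hAg i) v)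
  push Not at h0
  obtain ⟨v0, hv0⟩ := h0
  -- `φ v = Q (N v)`
  let φ : V →+ F :=
    { toFun := fun v => Q (N v)
      map_zero' := by rw [map_zero, QuadraticMap.map_zero]
      map_add' := hInv.add }
  have hφ : ∀ v, φ v = Q (N v) := fun v => rfl
  have hφe : ∀ v, φ (ev v) = φ v := by
    intro v
    rw [hev, map_sum]
    have : ∀ a : A, φ ((a : V ≃ₗ[F] V) v) = φ v := fun a => by
      rw [hφ, hφ, hcA a a.2, hpol a a.2]
    rw [Finset.sum_congr rfl (fun a _ => this a), Finset.sum_const, Finset.card_univ, nsmul_eq_mul, hcardF, one_mul]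
  let N1 : V →ₗ[F] V := N ∘ₗ ev
  let N2 : V →ₗ[F] V := N + N ∘ₗ ev
  have hN1 : ∀ v, N1 v = N (ev v) := fun v => rfl
  have hN2 : ∀ v, N2 v = N (v + ev v) := fun v => by rw [map_add]; rfl
  have h1 : Inv Q N1 := by
    refine ⟨h2, fun v => ?_, fun v => ?_⟩
    · rw [hN1, hN1, ← hNe, hInv.sq]
    · rw [hN1, hInv.form, he4, ← hNe, he2]
  have h2' : Inv Q N2 := by
    refine ⟨h2, fun v => ?_, fun v => ?_⟩
    · rw [hN2, hN2, map_add, ← hNe, hInv.sq, hInv.sq, add_zero]
    · have e1 : polar Q (ev v) (N (v + ev v)) = 0 := by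
        rw [he4, ← hNe, map_add ev, he2, dbl h2, map_zero]
        simp
      rw [hN2, hInv.form, polar_add_left, e1, add_zero]
  have h20 : ∀ v, Q (N2 v) = 0 := by
    intro v
    rw [hN2, ← hφ, map_add, hφe, dblF h2]
  have hmul : c = h1.eqv * h2'.eqv := by
    ext v
    change c v = h1.eqv (h2'.eqv v)
    rw [h2'.eqv_apply, h1.eqv_apply, map_add N1, hN1 (N2 v), hN2, ← hNe, hInv.sq, add_zero, hN1, map_add N, hN]
    have e1 := dbl h2 (N (ev v))
    calc c v = v + (c v - v) + 0 := by abel
      _ = v + (c v - v) + (N (ev v) + N (ev v)) := by rw [e1]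
      _ = _ := by abel
  have hE2 : h2'.eqv ∈ E Q := by
    apply mem_E_of_even hG h2 h2'.mem_O
    rw [h2'.fix_eq]
    exact h2'.even hG.nondeg h20
  have hE1 : h1.eqv ∈ E Q := by
    have : h1.eqv = c * h2'.eqv⁻¹ := by rw [hmul, mul_inv_cancel_right]
    rw [this]
    exact mul_mem hcE (inv_mem hE2)
  have hev1 := even_E hG.nondeg hE1
  rw [h1.fix_eq] at hev1
  have hrk : Even (finrank F (LinearMap.range N1)) := by
    have h3 := LinearMap.finrank_range_add_finrank_ker N1
    rw [← h3] at hev1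
    rw [Nat.even_iff] at hev1 ⊢
    omega
  -- two independent vectors
  have hx0 : N1 v0 ≠ 0 := by
    intro h
    apply hv0
    rw [← hφ, ← hφe, hφ, ← hN1, h, QuadraticMap.map_zero]
  obtain ⟨w0, hw0⟩ : ∃ w0, ∀ a : F, N1 w0 ≠ a • N1 v0 := by
    by_contra hcon
    push Not at hcon
    have h3 : LinearMap.range N1 ≤ Submodule.span F {N1 v0} := by
      rintro _ ⟨w, rfl⟩
      obtain ⟨a, ha⟩ := hcon w
      rw [ha]
      exact Submodule.smul_mem _ _ (Submodule.mem_span_singleton_self _)
    have h4 := Submodule.finrank_mono h3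
    rw [finrank_span_singleton hx0] at h4
    have h5 : finrank F (LinearMap.range N1) ≠ 0 := by
      intro h
      rw [Submodule.finrank_eq_zero] at h
      have : N1 v0 ∈ LinearMap.range N1 := ⟨v0, rfl⟩
      rw [h] at this
      exact hx0 this
    rw [Nat.even_iff] at hrk
    omega
  have hfx : ∀ i v, g i (N1 v) = N1 v := by
    intro i v
    rw [hN1, hNe]
    exact he1 _ (hAg i) _
  have hpp : ∀ v w, polar Q (N1 v) (N1 w) = 0 := h1.nn
  by_cases hq : Q (N1 v0) = 0
  · exact two_b hG hg hq hx0 (hpp _ _) hw0 (fun i => hfx i _) (fun i => hfx i _)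
  · have hsq : ∀ x : F, ∃ y, y ^ 2 = x := by
      have hinj : Function.Injective (fun y : F => y ^ 2) := by
        intro a b hab
        have h3 : (a - b) ^ 2 = 0 := by
          have h4 : a ^ 2 = b ^ 2 := hab
          linear_combination h4 + (b ^ 2 - a * b) * h2
        exact sub_eq_zero.1 (eq_zero_of_pow_eq_zero h3)
      exact fun x => Finite.injective_iff_surjective.1 hinj x
    obtain ⟨t, ht⟩ := hsq (Q (N1 w0) / Q (N1 v0))
    refine two_b hG hg (e := t • N1 v0 + N1 w0) (b := N1 v0) ?_ ?_ ?_ ?_ (fun i => ?_) (fun i => hfx i _)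
    · rw [Q_add, QuadraticMap.map_smul, polar_smul_left, hpp, smul_zero, add_zero, smul_eq_mul, ← pow_two, ht,
        div_mul_cancel₀ _ hq, dblF h2]
    · intro h
      apply hw0 t
      rw [← hneg (t • N1 v0)]
      exact eq_neg_of_add_eq_zero_right h
    · rw [polar_add_left, polar_smul_left, hpp, hpp, smul_zero, add_zero]
    · intro s hs
      by_cases hs0 : s = 0
      · rw [hs0, zero_smul] at hs
        exact hx0 hs
      · apply hw0 (s⁻¹ - t)
        have h5 : s⁻¹ • N1 v0 = t • N1 v0 + N1 w0 := by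
          rw [inv_smul_eq_iff₀ hs0]
          exact hs
        rw [sub_smul, h5]
        abel
    · rw [map_add, map_smul, hfx, hfx]

end Cfsg.Agent.H579.RC.Opg

namespace Cfsg.Agent.H864.RC

open Module QuadraticMap MulAction
open Cfsg.Agent.LieClassical.OrthCore Cfsg.Agent.LieClassical.OrthTrans
open Cfsg.Agent.LieClassical.OrthSimple Cfsg.Agent.ClassicalGeometry.OrthSemi
open Cfsg.Agent.ClassicalGeometry.OrthAut1 Cfsg.Agent.H106.RC Cfsg.Agent.H93.RC Cfsg.Agent.H566.RC
open Cfsg.Agent.LieClassical.QuadForms Cfsg.Agent.ClassicalGeometry.TrialityOct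
open Cfsg.Agent.ClassicalGeometry.Triality Cfsg.Agent.ClassicalGeometry.TrialitySpaces
open Cfsg.Agent.H198.TriBase Cfsg.Agent.H198.TriAut Cfsg.Agent.H198.TriDia
open Cfsg.Agent.H206.Balance hiding Good
open Cfsg.Agent.H198.TwComp Cfsg.Agent.H198

variable {F : Type} [Field F]

/-- existence: an element of order `p` commuting with the `p'`-family `g` gives a one-parameter group in `E Q` -/
theorem exists_opg [Finite F] {ι : Type} [Finite ι] {p : ℕ} [CharP F p] (hp : p.Prime)
    (hG : Good (plusForm 4 F)) {g : ι → (V8 F ≃ₗ[F] V8 F)} (hg : ∀ i, g i ∈ E (plusForm 4 F)) {r : ι → ℕ}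
    (hr : ∀ i, (r i).Prime) (hrp : ∀ i, r i ≠ p) (hpow : ∀ i, g i ^ r i = 1) (hc : ∀ i j, g i * g j = g j * g i)
    {c : V8 F ≃ₗ[F] V8 F} (hcE : c ∈ E (plusForm 4 F)) (hcp : c ^ p = 1) (hc1 : c ≠ 1)
    (hcc : ∀ i, c * g i = g i * c) :
    ∃ (X Y : V8 F →ₗ[F] V8 F) (a : F → (V8 F ≃ₗ[F] V8 F)), X ≠ 0 ∧ (p = 2 → finrank F (LinearMap.range Y) ≤ 1) ∧
      (∀ t v, a t v = v + t • X v + t ^ 2 • Y v) ∧ (∀ t, a t ∈ E (plusForm 4 F)) ∧
      (∀ t u, a (t + u) = a t * a u) ∧ ∀ t i, a t * g i = g i * a t := by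
  have : FiniteDimensional F (V8 F) := inferInstance
  by_cases hp2 : p = 2
  · subst hp2
    have h2 : (2 : F) = 0 := by exact_mod_cast CharP.cast_eq_zero F 2
    exact H579.RC.Opg.two_case hG h2 (fun i v => E_le_O (hg i) v) (fun i => (hr i).odd_of_ne_two (hrp i)) hpow hc hcE
      hcp hc1 hcc
  · exact H579.RC.Opg.odd_case hG hp hp2 (E_le_O hcE) hcp hc1 hcc

end Cfsg.Agent.H864.RC
end

-- part: H256/RC/TwW
section
/-!
# S3510, triality type (iii): weights of an automorphism of the twisted product (helper256)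

`Ei N c` : the eigenspace; `Wt φ l a e` : `e : ZMod l → K` parametrises the `l`-th roots of unity, `φ (e i) = e (a i)`.
-/

set_option autoImplicit false

namespace Cfsg.Agent.H256.RC

open Module QuadraticMap Cfsg.Agent.LieClassical.OrthCore Cfsg.Agent.LieClassical.OrthTrans

universe u v

variable {K : Type u} {V : Type v} [Field K] [AddCommGroup V] [Module K V]

/-- the eigenspace -/
abbrev Ei (N : V →ₗ[K] V) (c : K) : Submodule K V := Module.End.eigenspace N c

theorem mem_Ei {N : V →ₗ[K] V} {c : K} {x : V} : x ∈ Ei N c ↔ N x = c • x := Module.End.mem_eigenspace_iff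

/-- an isometric automorphism of the twisted product, of order dividing `l`, defined over the small field -/
structure Au3 (Q : QuadraticForm K V) (g : V → V) (m : V → V → V) (l : ℕ) (N : V →ₗ[K] V) : Prop where
  mul : ∀ a b, N (m a b) = m (N a) (N b)
  iso : ∀ a, Q (N a) = Q a
  comm : ∀ a, N (g a) = g (N a)
  pow : N ^ l = 1

/-- the roots of unity -/
structure Wt (φ : K ≃+* K) (l : ℕ) (a : ZMod l) (e : ZMod l → K) : Prop where
  zero : e 0 = 1
  add : ∀ i j, e (i + j) = e i * e j
  inj : Function.Injective e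
  phi : ∀ i, φ (e i) = e (a * i)
  surj : ∀ c : K, c ^ l = 1 → ∃ i, e i = c

variable {Q : QuadraticForm K V} {φ : K ≃+* K} {g : V → V} {m : V → V → V} {l : ℕ} {N : V →ₗ[K] V}

section au

theorem Au3.polar_map (hN : Au3 Q g m l N) (x y : V) : polar Q (N x) (N y) = polar Q x y := by
  simp only [QuadraticMap.polar]
  rw [← map_add, hN.iso, hN.iso, hN.iso]

theorem mul_mem (h : TK Q φ g m) (hN : Au3 Q g m l N) {c d : K} {x y : V} (hx : x ∈ Ei N c) (hy : y ∈ Ei N d) :
    m x y ∈ Ei N (φ.symm c * φ d) := by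
  rw [mem_Ei] at *
  rw [hN.mul, hx, hy, h.smul_left, h.smul_right, smul_smul]

theorem g_mem (h : TK Q φ g m) (hN : Au3 Q g m l N) {c : K} {x : V} (hx : x ∈ Ei N c) :
    g x ∈ Ei N (φ.symm (φ.symm (φ.symm c))) := by
  rw [mem_Ei] at *
  rw [hN.comm, hx, h.g_smul]

theorem polar_zero (hN : Au3 Q g m l N) {c d : K} {x y : V} (hx : x ∈ Ei N c) (hy : y ∈ Ei N d) (hcd : c * d ≠ 1) :
    polar Q x y = 0 := by
  rw [mem_Ei] at *
  have h1 := hN.polar_map x y
  rw [hx, hy, polar_smul_left, polar_smul_right, smul_eq_mul, smul_eq_mul, ← mul_assoc] at h1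
  have h2 : (c * d - 1) * polar Q x y = 0 := by rw [sub_mul, h1, one_mul, sub_self]
  exact (mul_eq_zero.1 h2).resolve_left (sub_ne_zero.2 hcd)

end au

section wt

variable {a : ZMod l} {e : ZMod l → K}

theorem Wt.ne (he : Wt φ l a e) (i : ZMod l) : e i ≠ 0 := by
  intro h0
  have h1 := he.add i (-i)
  rw [h0, zero_mul, add_neg_cancel, he.zero] at h1
  exact one_ne_zero h1

theorem Wt.symm (he : Wt φ l a e) {b : ZMod l} (hb : a * b = 1) (i : ZMod l) : φ.symm (e i) = e (b * i) := by
  rw [RingEquiv.symm_apply_eq, he.phi, ← mul_assoc, hb, one_mul]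

theorem Wt.mul_mem (he : Wt φ l a e) (h : TK Q φ g m) (hN : Au3 Q g m l N) {b : ZMod l} (hb : a * b = 1) {i j : ZMod l}
    {x y : V} (hx : x ∈ Ei N (e i)) (hy : y ∈ Ei N (e j)) : m x y ∈ Ei N (e (b * i + a * j)) := by
  have h1 := RC.mul_mem h hN hx hy
  rwa [he.symm hb, he.phi, ← he.add] at h1

theorem Wt.g_mem (he : Wt φ l a e) (h : TK Q φ g m) (hN : Au3 Q g m l N) {b : ZMod l} (hb : a * b = 1) {i : ZMod l}
    {x : V} (hx : x ∈ Ei N (e i)) : g x ∈ Ei N (e (b * (b * (b * i)))) := by
  have h1 := RC.g_mem h hN hx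
  rwa [he.symm hb, he.symm hb, he.symm hb] at h1

theorem Wt.polar_zero (he : Wt φ l a e) (hN : Au3 Q g m l N) {i j : ZMod l} {x y : V} (hx : x ∈ Ei N (e i))
    (hy : y ∈ Ei N (e j)) (hij : i + j ≠ 0) : polar Q x y = 0 := by
  apply RC.polar_zero hN hx hy
  rw [← he.add, ← he.zero]
  exact fun h => hij (he.inj h)

/-- the sum of the weight spaces -/
theorem Wt.iSup_eq [IsAlgClosed K] [FiniteDimensional K V] (he : Wt φ l a e) (hl : (l : K) ≠ 0) (hN : N ^ l = 1) :
    ⨆ i, Ei N (e i) = ⊤ := by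
  have hl0 : 0 < l := Nat.pos_of_ne_zero (by rintro rfl; exact hl Nat.cast_zero)
  have hs : (Polynomial.X ^ l - 1 : Polynomial K).Separable := by
    have := Polynomial.separable_X_pow_sub_C (F := K) (n := l) 1 hl one_ne_zero
    rwa [map_one] at this
  have h1 : Module.End.IsSemisimple N := by
    refine Module.End.isSemisimple_of_squarefree_aeval_eq_zero (p := (Polynomial.X ^ l - 1 : Polynomial K)) hs.squarefree ?_
    rw [map_sub, map_pow, Polynomial.aeval_X, map_one, hN, sub_self]
  rw [← h1.iSup_eigenspace_eq_top]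
  apply le_antisymm
  · exact iSup_le fun i => le_iSup (fun c => Module.End.eigenspace N c) (e i)
  · refine iSup_le fun c => ?_
    intro x hx
    by_cases hx0 : x = 0
    · rw [hx0]; exact Submodule.zero_mem _
    have h2 : ∀ n : ℕ, (N ^ n) x = c ^ n • x := by
      intro n
      induction n with
      | zero => rw [pow_zero, pow_zero, one_smul]; rfl
      | succ n ih => rw [pow_succ, Module.End.mul_apply, Module.End.mem_eigenspace_iff.1 hx, map_smul, ih, smul_smul, pow_succ,
          mul_comm]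
    have h3 := h2 l
    rw [hN] at h3
    have h4 : (c ^ l - 1) • x = 0 := by rw [sub_smul, ← h3, one_smul]; exact sub_self x
    have h5 := sub_eq_zero.1 ((smul_eq_zero.1 h4).resolve_right hx0)
    obtain ⟨i, rfl⟩ := he.surj c h5
    exact (le_iSup (fun i => Ei N (e i)) i) hx

theorem Wt.indep (he : Wt φ l a e) (N : V →ₗ[K] V) : iSupIndep (fun i => Ei N (e i)) :=
  (Module.End.eigenspaces_iSupIndep N).comp he.inj

/-- dimension of a weight space -/
noncomputable def dd (N : V →ₗ[K] V) (e : ZMod l → K) (i : ZMod l) : ℕ := finrank K (Ei N (e i))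

theorem Wt.sum_dd [NeZero l] [IsAlgClosed K] [FiniteDimensional K V] (he : Wt φ l a e) (hl : (l : K) ≠ 0)
    (hN : N ^ l = 1) : ∑ i, dd N e i = finrank K V := by
  classical
  have h1 : DirectSum.IsInternal (fun i => Ei N (e i)) :=
    DirectSum.isInternal_submodule_of_iSupIndep_of_iSup_eq_top (he.indep N) (he.iSup_eq hl hN)
  rw [← (LinearEquiv.ofBijective (DirectSum.coeLinearMap (fun i => Ei N (e i))) h1).finrank_eq, Module.finrank_directSum]
  rfl

/-- a vector orthogonal to `E_(-i)` in `E_i` is zero -/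
theorem Wt.perp [IsAlgClosed K] [FiniteDimensional K V] (he : Wt φ l a e) (hl : (l : K) ≠ 0) (hN : Au3 Q g m l N)
    (hQ : Nondeg Q) {i : ZMod l} {x : V} (hx : x ∈ Ei N (e i)) (hxy : ∀ y ∈ Ei N (e (-i)), polar Q x y = 0) : x = 0 := by
  apply hQ
  intro y
  have hy : y ∈ ⨆ j, Ei N (e j) := by rw [he.iSup_eq hl hN.pow]; exact Submodule.mem_top
  induction hy using Submodule.iSup_induction' with
  | mem j y hy =>
    by_cases hj : i + j = 0
    · rw [eq_neg_of_add_eq_zero_right hj] at hy
      exact hxy y hy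
    · exact he.polar_zero hN hx hy hj
  | zero => exact polar_zero_right Q x
  | add y z _ _ h1 h2 => rw [polar_add_right, h1, h2, add_zero]

theorem Wt.exists_dual [IsAlgClosed K] [FiniteDimensional K V] (he : Wt φ l a e) (hl : (l : K) ≠ 0)
    (hN : Au3 Q g m l N) (hQ : Nondeg Q) {i : ZMod l} {x : V} (hx : x ∈ Ei N (e i)) (hx0 : x ≠ 0) :
    ∃ y ∈ Ei N (e (-i)), polar Q x y ≠ 0 := by
  by_contra hcon
  push Not at hcon
  exact hx0 (he.perp hl hN hQ hx hcon)

theorem Wt.dd_neg_le [IsAlgClosed K] [FiniteDimensional K V] (he : Wt φ l a e) (hl : (l : K) ≠ 0)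
    (hN : Au3 Q g m l N) (hQ : Nondeg Q) (i : ZMod l) : dd N e i ≤ dd N e (-i) := by
  let f : Ei N (e i) →ₗ[K] Module.Dual K (Ei N (e (-i))) :=
    ((Submodule.subtype _).dualMap).comp ((polarBilin Q).comp (Submodule.subtype _))
  have hf : Function.Injective f := by
    rw [injective_iff_map_eq_zero]
    intro x hx
    apply Subtype.ext
    exact he.perp hl hN hQ x.2 (fun y hy => congrArg (fun w : Module.Dual K (Ei N (e (-i))) => w ⟨y, hy⟩) hx)
  have h1 := LinearMap.finrank_le_finrank_of_injective hf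
  rwa [Subspace.dual_finrank_eq] at h1

theorem Wt.dd_neg [IsAlgClosed K] [FiniteDimensional K V] (he : Wt φ l a e) (hl : (l : K) ≠ 0)
    (hN : Au3 Q g m l N) (hQ : Nondeg Q) (i : ZMod l) : dd N e (-i) = dd N e i := by
  apply le_antisymm _ (he.dd_neg_le hl hN hQ i)
  have := he.dd_neg_le hl hN hQ (-i)
  rwa [neg_neg] at this

/-- a function on `ZMod l` which does not decrease under a multiplication is invariant -/
theorem inv_of_le [Fact l.Prime] {f : ZMod l → ℕ} {c : ZMod l} (hc : c ≠ 0) (hf : ∀ i, f i ≤ f (c * i)) (i : ZMod l) :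
    f (c * i) = f i := by
  have h1 : ∀ n : ℕ, ∀ j, f j ≤ f (c ^ n * j) := by
    intro n
    induction n with
    | zero => intro j; rw [pow_zero, one_mul]
    | succ n ih => intro j; exact (ih j).trans (by have := hf (c ^ n * j); rwa [← mul_assoc, ← pow_succ'] at this)
  apply le_antisymm _ (hf i)
  have h2 := h1 (l - 2) (c * i)
  rw [← mul_assoc, ← pow_succ] at h2
  have h3 : l - 2 + 1 = l - 1 := by
    have := (Fact.out : l.Prime).two_le
    omega
  rwa [h3, ZMod.pow_card_sub_one_eq_one hc, one_mul] at h2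

theorem Wt.dd_g [Fact l.Prime] [FiniteDimensional K V] (he : Wt φ l a e)
    (h : TK Q φ g m) (hN : Au3 Q g m l N) (hQ : Nondeg Q) {b : ZMod l} (hb : a * b = 1) (i : ZMod l) :
    dd N e (b * (b * (b * i))) = dd N e i := by
  have hb0 : b ≠ 0 := by
    rintro rfl
    rw [mul_zero] at hb
    exact zero_ne_one hb
  have h1 : ∀ j, dd N e j ≤ dd N e (b * b * b * j) := by
    intro j
    rw [mul_assoc, mul_assoc]
    exact semi_finrank_le (K := K) (ψ := φ.symm.trans (φ.symm.trans φ.symm))
      (fun x : Ei N (e j) => (⟨g x, he.g_mem h hN hb x.2⟩ : Ei N (e (b * (b * (b * j))))))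
      (fun x y => Subtype.ext (h.g_add _ _)) (fun k x => Subtype.ext (h.g_smul _ _))
      (fun x hx => Subtype.ext (h.g_inj hQ (congrArg Subtype.val hx)))
  have h2 := inv_of_le (mul_ne_zero (mul_ne_zero hb0 hb0) hb0) h1 i
  rwa [mul_assoc, mul_assoc] at h2

/-- a nonzero weight vector is singular -/
theorem Wt.sing (he : Wt φ l a e) (hN : Au3 Q g m l N) {i : ZMod l} (hi : 2 * i ≠ 0) {x : V} (hx : x ∈ Ei N (e i)) :
    Q x = 0 := by
  have h1 : N x = e i • x := mem_Ei.1 hx
  have h2 := hN.iso x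
  rw [h1, QuadraticMap.map_smul, smul_eq_mul, ← he.add, ← two_mul] at h2
  have h3 : (e (2 * i) - 1) * Q x = 0 := by rw [sub_mul, h2, one_mul, sub_self]
  refine (mul_eq_zero.1 h3).resolve_left (sub_ne_zero.2 ?_)
  rw [← he.zero]
  exact fun h0 => hi (he.inj h0)

end wt

/-- `u ⋄ A ≤ C`, `A` nondegenerate: `dim A ≤ 2 dim C` -/
theorem dim_le_two_mul [FiniteDimensional K V] (h : TK Q φ g m) {A C : Submodule K V} {u : V} (hu : u ≠ 0)
    (hA : ∀ x ∈ A, (∀ y ∈ A, polar Q x y = 0) → x = 0) (hm : ∀ x ∈ A, m u x ∈ C) :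
    finrank K A ≤ 2 * finrank K C := by
  let K0 : Submodule K A :=
    { carrier := {x | m u x = 0}
      zero_mem' := h.zero_right u
      add_mem' := fun {x y} hx hy => by
        change m u ((x : V) + y) = 0
        rw [h.add_right, show m u (x : V) = 0 from hx, show m u (y : V) = 0 from hy, add_zero]
      smul_mem' := fun k x hx => by
        change m u (k • (x : V)) = 0
        rw [h.smul_right, show m u (x : V) = 0 from hx, smul_zero] }
  obtain ⟨B, hB⟩ := Submodule.exists_isCompl K0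
  have h1 : finrank K B ≤ finrank K C := by
    refine semi_finrank_le (K := K) (ψ := φ) (fun x : B => (⟨m u (x : A), hm _ (x : A).2⟩ : C))
      (fun x y => Subtype.ext (h.add_right _ _ _)) (fun k x => Subtype.ext (h.smul_right _ _ _)) (fun x hx => ?_)
    have h2 : (x : A) ∈ K0 := congrArg Subtype.val hx
    have h3 := hB.disjoint.le_bot ⟨h2, x.2⟩
    exact Subtype.ext h3
  have h2 : finrank K K0 ≤ finrank K B := by
    let f : K0 →ₗ[K] Module.Dual K B :=
      (((Submodule.subtype A).comp (Submodule.subtype B)).dualMap).comp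
        ((polarBilin Q).comp ((Submodule.subtype A).comp (Submodule.subtype K0)))
    have hf : Function.Injective f := by
      rw [injective_iff_map_eq_zero]
      intro x hx
      apply Subtype.ext
      apply Subtype.ext
      refine hA _ (x : A).2 (fun y hy => ?_)
      obtain ⟨k, hk, c, hc, hkc⟩ : ∃ k ∈ K0, ∃ c ∈ B, k + c = ⟨y, hy⟩ := by
        have : (⟨y, hy⟩ : A) ∈ K0 ⊔ B := by rw [hB.sup_eq_top]; exact Submodule.mem_top
        exact Submodule.mem_sup.1 this
      have e1 : polar Q ((x : A) : V) (c : V) = 0 := congrArg (fun w : Module.Dual K B => w ⟨c, hc⟩) hx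
      have e2 : polar Q ((x : A) : V) (k : V) = 0 := h.sing_left hu x.2 hk
      have e3 : (k : V) + c = y := congrArg Subtype.val hkc
      rw [← e3, polar_add_right, e1, e2, add_zero]
    have h3 := LinearMap.finrank_le_finrank_of_injective hf
    rwa [Subspace.dual_finrank_eq] at h3
  have h3 := Submodule.finrank_add_eq_of_isCompl hB
  omega

end Cfsg.Agent.H256.RC
end

-- part: H256/RC/BaseCh
section
/-!
# S3510, triality type (iii): base change to a larger field (helper256)

* `gK φ` : coordinatewise `φ⁻³`; `tk_dia` : `dia (fG φ)` is a `TK` over any field;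
* `io` : `V8 F → V8 K`; `exists_bc` : the extension of an element of `AutD (fG s)`;
* `exists_wt` : the roots of unity.
-/

set_option autoImplicit false

namespace Cfsg.Agent.H256.RC

open Module QuadraticMap Cfsg.Agent.LieClassical.OrthCore Cfsg.Agent.LieClassical.OrthTrans
  Cfsg.Agent.LieClassical.OrthSimple Cfsg.Agent.ClassicalGeometry.OrthAut1
  Cfsg.Agent.ClassicalGeometry.OrthSemi Cfsg.Agent.H198.Classes
  Cfsg.Agent.LieClassical.QuadForms Cfsg.Agent.H198.ClassesPlus
  Cfsg.Agent.ClassicalGeometry.TrialityOct Cfsg.Agent.ClassicalGeometry.Triality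
  Cfsg.Agent.ClassicalGeometry.TrialitySpaces Cfsg.Agent.H198.TriBase Cfsg.Agent.H198.TriAut
  Cfsg.Agent.H198.TriDia Cfsg.Agent.H198.TriTC Cfsg.Agent.H198.TwComp

universe u

section tk

variable {K : Type u} [Field K] (φ : K ≃+* K)

/-- coordinatewise `φ⁻³` -/
def gK (v : V8 K) : V8 K := fP φ.symm (fP φ.symm (fP φ.symm v))

theorem fP_add (x y : V8 K) : fP φ (x + y) = fP φ x + fP φ y := funext fun _ => map_add φ _ _

theorem fP_smul (k : K) (x : V8 K) : fP φ (k • x) = φ k • fP φ x := funext fun _ => map_mul φ _ _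

theorem fP_oconj (x : V8 K) : fP φ (oconj x) = oconj (fP φ x) := aut_oconj (tri_fG φ) x

theorem fP_norm (x : V8 K) : plusForm 4 K (fP φ x) = φ (plusForm 4 K x) := by
  rw [(isSS_fP φ).form, one_mul]

theorem fP_symm (x : V8 K) : fP φ (fP φ.symm x) = x := funext fun _ => φ.apply_symm_apply _

theorem fP_symm' (x : V8 K) : fP φ.symm (fP φ x) = x := funext fun _ => φ.symm_apply_apply _

theorem dia_fP (u w : V8 K) : dia (fG φ) u w = omul (fP φ.symm (oconj u)) (fP φ (oconj w)) := rfl

/-- the twisted product over any field -/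
theorem tk_dia : TK (plusForm 4 K) φ (gK φ) (dia (fG φ)) := by
  refine ⟨fun a b c => ?_, fun a b c => ?_, fun k a b => ?_, fun k a b => ?_, fun a b => ?_, fun a b => ?_,
    fun a b => ?_, fun k a => ?_, fun v => ⟨fP φ (fP φ (fP φ v)), ?_⟩, fun a => ?_⟩
  · rw [dia_fP, dia_fP, dia_fP, oconj_add, fP_add, add_omul]
  · rw [dia_fP, dia_fP, dia_fP, oconj_add, fP_add, omul_add]
  · rw [dia_fP, dia_fP, oconj_smul, fP_smul, smul_omul]
  · rw [dia_fP, dia_fP, oconj_smul, fP_smul, omul_smul]
  · have e1 : fP φ.symm (oconj (dia (fG φ) a b)) = omul b (fP φ.symm (fP φ.symm a)) := by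
      rw [dia_fP, oconj_omul, ← fP_oconj, ← fP_oconj, oconj_oconj, oconj_oconj, fP_omul, fP_symm']
    have e2 : fP φ (oconj (gK φ a)) = oconj (fP φ.symm (fP φ.symm a)) := by
      rw [gK, fP_oconj, fP_symm]
    rw [dia_fP, e1, e2, omul_omul_oconj, fP_norm, fP_norm]
  · have e1 : fP φ (oconj (dia (fG φ) b (gK φ a))) = omul (fP φ.symm a) b := by
      rw [dia_fP, oconj_omul, ← fP_oconj, ← fP_oconj, oconj_oconj, oconj_oconj, fP_omul, fP_symm, gK, fP_symm, fP_symm]
    rw [dia_fP φ a, e1, fP_oconj, oconj_omul_omul, fP_norm]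
  · rw [gK, fP_add, fP_add, fP_add]; rfl
  · rw [gK, fP_smul, fP_smul, fP_smul]; rfl
  · rw [gK, fP_symm', fP_symm', fP_symm']
  · rw [gK, fP_norm, fP_norm, fP_norm]

end tk

section bc

variable {F K : Type u} [Field F] [Field K] [Algebra F K]

/-- the inclusion -/
def io (K : Type u) [Field K] [Algebra F K] (x : V8 F) : V8 K := fun i => algebraMap F K (x i)

theorem io_add (x y : V8 F) : io K (x + y) = io K x + io K y := funext fun _ => map_add _ _ _

theorem io_smul (c : F) (x : V8 F) : io K (c • x) = algebraMap F K c • io K x := funext fun _ => map_mul _ _ _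

theorem io_inj {x y : V8 F} (h : io K x = io K y) : x = y :=
  funext fun i => (algebraMap F K).injective (congrFun h i)

theorem io_norm (x : V8 F) : plusForm 4 K (io K x) = algebraMap F K (plusForm 4 F x) := by
  rw [norm8, norm8]
  simp only [map_add, map_mul]
  rfl

theorem io_oconj (x : V8 F) : oconj (io K x) = io K (oconj x) := by
  apply ext8 <;> simp only [io, oconj_l0, oconj_l1, oconj_l2, oconj_l3, oconj_r0, oconj_r1, oconj_r2, oconj_r3, _root_.Fin.isValue, _root_.map_neg]

theorem io_omul (x y : V8 F) : omul (io K x) (io K y) = io K (omul x y) := by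
  apply ext8 <;> simp only [io, omul_l0, omul_l1, omul_l2, omul_l3, omul_r0, omul_r1, omul_r2, omul_r3, _root_.Fin.isValue, _root_.map_sub, _root_.map_mul, _root_.map_add]

variable {s : F ≃+* F} {φ : K ≃+* K}

theorem io_fP (hφ : ∀ a, φ (algebraMap F K a) = algebraMap F K (s a)) (x : V8 F) : fP φ (io K x) = io K (fP s x) :=
  funext fun _ => hφ _

theorem hsymm (hφ : ∀ a, φ (algebraMap F K a) = algebraMap F K (s a)) (a : F) :
    φ.symm (algebraMap F K a) = algebraMap F K (s.symm a) := by
  rw [RingEquiv.symm_apply_eq, hφ, RingEquiv.apply_symm_apply]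

theorem io_dia (hφ : ∀ a, φ (algebraMap F K a) = algebraMap F K (s a)) (u w : V8 F) :
    dia (fG φ) (io K u) (io K w) = io K (dia (fG s) u w) := by
  rw [dia_fP, dia_fP, io_oconj, io_oconj, io_fP hφ, io_fP (hsymm hφ), io_omul]

/-- induction -/
theorem io_induction {P : V8 K → Prop} (h0 : ∀ x : V8 F, P (io K x)) (hadd : ∀ x y, P x → P y → P (x + y))
    (hsmul : ∀ (k : K) x, P x → P (k • x)) (v : V8 K) : P v := by
  have h1 : v = ∑ i, v i • io K (Pi.single i (1 : F)) := by
    funext j
    rw [Finset.sum_apply, Finset.sum_eq_single j]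
    · simp [io]
    · intro i _ hij
      simp [io, hij.symm]
    · intro h
      exact absurd (Finset.mem_univ j) h
  rw [h1]
  have h2 : P 0 := by
    have := h0 0
    have e : io K (0 : V8 F) = 0 := funext fun _ => map_zero _
    rwa [e] at this
  refine Finset.sum_induction _ P hadd h2 (fun i _ => hsmul _ _ (h0 _))

/-- the extension of a linear map -/
noncomputable def exN (K : Type u) [Field K] [Algebra F K] (c : V8 F →ₗ[F] V8 F) : V8 K →ₗ[K] V8 K :=
  (Pi.basisFun K (Fin 4 ⊕ Fin 4)).constr K (fun i => io K (c (Pi.single i (1 : F))))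

theorem exN_io (c : V8 F →ₗ[F] V8 F) (x : V8 F) : exN K c (io K x) = io K (c x) := by
  have h1 : x = ∑ i, x i • (Pi.single i (1 : F) : V8 F) := by
    funext j
    rw [Finset.sum_apply, Finset.sum_eq_single j]
    · simp
    · intro i _ hij
      simp [hij.symm]
    · intro h
      exact absurd (Finset.mem_univ j) h
  rw [exN, Basis.constr_apply_fintype]
  conv_rhs => rw [h1]
  rw [map_sum]
  have h2 : ∀ (t : Finset (Fin 4 ⊕ Fin 4)) (f : Fin 4 ⊕ Fin 4 → V8 F), io K (∑ i ∈ t, f i) = ∑ i ∈ t, io K (f i) := by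
    intro t f
    classical
    induction t using Finset.induction_on with
    | empty => exact funext fun _ => map_zero _
    | insert a t ha ih => rw [Finset.sum_insert ha, Finset.sum_insert ha, io_add, ih]
  rw [h2]
  refine Finset.sum_congr rfl fun i _ => ?_
  rw [map_smul, io_smul]
  rfl

/-- base change of an automorphism of the twisted product -/
theorem exists_bc (h3 : ∀ a, s (s (s a)) = a) (hφ : ∀ a, φ (algebraMap F K a) = algebraMap F K (s a))
    {c : V8 F ≃ₗ[F] V8 F} (hc : c ∈ AutD (fG s)) {n : ℕ} (hcn : c ^ n = 1) :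
    Au3 (plusForm 4 K) (gK φ) (dia (fG φ)) n (exN K (c : V8 F →ₗ[F] V8 F)) := by
  have hN : ∀ x : V8 F, exN K (c : V8 F →ₗ[F] V8 F) (io K x) = io K (c x) := fun x => exN_io _ x
  set N := exN K (c : V8 F →ₗ[F] V8 F) with hNdef
  have ht := tk_dia φ
  refine ⟨?_, ?_, ?_, ?_⟩
  · intro a b
    refine io_induction (F := F) (P := fun a => N (dia (fG φ) a b) = dia (fG φ) (N a) (N b)) ?_ ?_ ?_ a
    · intro x
      refine io_induction (F := F) (P := fun b => N (dia (fG φ) (io K x) b) = dia (fG φ) (N (io K x)) (N b)) ?_ ?_ ?_ b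
      · intro y
        rw [io_dia hφ, hN, hN, hN, io_dia hφ, hc.2]
      · intro y z hy hz
        rw [ht.add_right, map_add, map_add, ht.add_right, hy, hz]
      · intro k y hy
        rw [ht.smul_right, map_smul, map_smul, ht.smul_right, hy]
    · intro y z hy hz
      rw [ht.add_left, map_add, map_add, ht.add_left, hy, hz]
    · intro k y hy
      rw [ht.smul_left, map_smul, map_smul, ht.smul_left, hy]
  · have hpol : ∀ x y : V8 K, polar (plusForm 4 K) (N x) (N y) = polar (plusForm 4 K) x y := by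
      intro x y
      refine io_induction (F := F) (P := fun x => polar (plusForm 4 K) (N x) (N y) = polar (plusForm 4 K) x y)
        ?_ ?_ ?_ x
      · intro x
        refine io_induction (F := F) (P := fun y => polar (plusForm 4 K) (N (io K x)) (N y) =
          polar (plusForm 4 K) (io K x) y) ?_ ?_ ?_ y
        · intro y
          have e : ∀ x y : V8 F, polar (plusForm 4 K) (io K x) (io K y) =
              algebraMap F K (polar (plusForm 4 F) x y) := by
            intro x y
            simp only [QuadraticMap.polar]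
            rw [← io_add, io_norm, io_norm, io_norm, map_sub, map_sub]
          rw [hN, hN, e, e, AutD_polar hc]
        · intro y z hy hz
          rw [map_add, polar_add_right, polar_add_right, hy, hz]
        · intro k y hy
          rw [map_smul, polar_smul_right, polar_smul_right, hy]
      · intro x z hx hz
        rw [map_add, polar_add_left, polar_add_left, hx, hz]
      · intro k x hx
        rw [map_smul, polar_smul_left, polar_smul_left, hx]
    intro v
    refine io_induction (F := F) (P := fun v => plusForm 4 K (N v) = plusForm 4 K v) ?_ ?_ ?_ v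
    · intro x
      rw [hN, io_norm, io_norm, AutD_norm hc]
    · intro x y hx hy
      have h1 := hpol x y
      rw [map_add, Q_add, Q_add, h1, hx, hy]
    · intro k x hx
      rw [map_smul, QuadraticMap.map_smul, QuadraticMap.map_smul, hx]
  · intro v
    refine io_induction (F := F) (P := fun v => N (gK φ v) = gK φ (N v)) ?_ ?_ ?_ v
    · intro x
      have e : gK φ (io K x) = io K x := by
        rw [gK, io_fP (hsymm hφ), io_fP (hsymm hφ), io_fP (hsymm hφ)]
        congr 1
        funext i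
        change s.symm (s.symm (s.symm (x i))) = x i
        rw [RingEquiv.symm_apply_eq, RingEquiv.symm_apply_eq, RingEquiv.symm_apply_eq, h3]
      have e' : gK φ (io K (c x)) = io K (c x) := by
        rw [gK, io_fP (hsymm hφ), io_fP (hsymm hφ), io_fP (hsymm hφ)]
        congr 1
        funext i
        change s.symm (s.symm (s.symm (c x i))) = c x i
        rw [RingEquiv.symm_apply_eq, RingEquiv.symm_apply_eq, RingEquiv.symm_apply_eq, h3]
      rw [e, hN, e']
    · intro x y hx hy
      rw [ht.g_add, map_add, map_add, ht.g_add, hx, hy]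
    · intro k x hx
      rw [ht.g_smul, map_smul, map_smul, ht.g_smul, hx]
  · have h1 : ∀ (i : ℕ) (x : V8 F), (N ^ i) (io K x) = io K ((c ^ i) x) := by
      intro i
      induction i with
      | zero => intro x; rfl
      | succ i ih =>
        intro x
        rw [pow_succ, pow_succ]
        change (N ^ i) (N (io K x)) = _
        rw [hN, ih]
        rfl
    apply LinearMap.ext
    intro v
    refine io_induction (F := F) (P := fun v => (N ^ n) v = (1 : Module.End K (V8 K)) v) ?_ ?_ ?_ v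
    · intro x
      rw [h1, hcn]
      rfl
    · intro x y hx hy
      rw [map_add, map_add, hx, hy]
    · intro k x hx
      rw [map_smul, map_smul, hx]

end bc

/-! ### roots of unity -/

theorem exists_wt {K : Type u} [Field K] [IsAlgClosed K] {φ : K ≃+* K} {l : ℕ} [Fact l.Prime] (hl : (l : K) ≠ 0) {k : ℕ}
    (hk : ∀ c : K, c ^ l = 1 → φ c = c ^ k) : ∃ e : ZMod l → K, Wt φ l (k : ZMod l) e := by
  have hp : l.Prime := Fact.out
  have : NeZero (l : K) := ⟨hl⟩
  obtain ⟨ζ, hζ⟩ := HasEnoughRootsOfUnity.exists_primitiveRoot K l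
  have hmod : ∀ n : ℕ, ζ ^ n = ζ ^ (n % l) := by
    intro n
    conv_lhs => rw [← Nat.mod_add_div n l, pow_add, pow_mul, hζ.pow_eq_one, one_pow, mul_one]
  refine ⟨fun i => ζ ^ i.val, ?_, ?_, ?_, ?_, ?_⟩
  · change ζ ^ (0 : ZMod l).val = 1
    rw [ZMod.val_zero, pow_zero]
  · intro i j
    change ζ ^ (i + j).val = ζ ^ i.val * ζ ^ j.val
    rw [ZMod.val_add, ← hmod, pow_add]
  · intro i j hij
    exact ZMod.val_injective l (hζ.pow_inj (ZMod.val_lt i) (ZMod.val_lt j) hij)
  · intro i
    change φ (ζ ^ i.val) = ζ ^ ((k : ZMod l) * i).val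
    rw [ZMod.val_mul, ZMod.val_natCast, hk _ (by rw [← pow_mul, mul_comm, pow_mul, hζ.pow_eq_one, one_pow]), ← pow_mul,
      mul_comm, hmod, Nat.mul_mod, Nat.mod_eq_of_lt (ZMod.val_lt i)]
  · intro c hc
    obtain ⟨i, hi, rfl⟩ := hζ.eq_pow_of_pow_eq_one hc
    exact ⟨(i : ZMod l), by
      change ζ ^ (i : ZMod l).val = ζ ^ i
      rw [ZMod.val_natCast, Nat.mod_eq_of_lt hi]⟩

end Cfsg.Agent.H256.RC
end

-- part: H256/RC/ZFourK
section
/-!
# S3510, triality type (iii): no automorphism of prime order `l ∣ q₀² + 1`, `l` odd; `K`-level (helper256)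
-/

set_option autoImplicit false

namespace Cfsg.Agent.H256.RC

open Module QuadraticMap Cfsg.Agent.LieClassical.OrthCore Cfsg.Agent.LieClassical.OrthTrans

universe u v

variable {K : Type u} {V : Type v} [Field K] [AddCommGroup V] [Module K V]
variable {Q : QuadraticForm K V} {φ : K ≃+* K} {g : V → V} {m : V → V → V} {l : ℕ} {N : V →ₗ[K] V}
variable {a : ZMod l} {e : ZMod l → K}

/-- a sum over a subset given by an injective family -/
theorem sum_le_of_inj [NeZero l] {ι : Type*} [Fintype ι] (f : ZMod l → ℕ) (h : ι → ZMod l) (hi : Function.Injective h) :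
    ∑ i, f (h i) ≤ ∑ i, f i := by
  classical
  rw [← Finset.sum_image (s := Finset.univ) (g := h) (fun x _ y _ hxy => hi hxy)]
  exact Finset.sum_le_sum_of_subset (Finset.subset_univ _)

theorem zmod_num [Fact l.Prime] {n : ℕ} (hn : (n : ZMod l) = 0) : l ∣ n := (ZMod.natCast_eq_zero_iff n l).1 hn

theorem no3 : ∀ a : ZMod 3, a * a ≠ -1 := by decide

/-- the four powers of `a` -/
theorem four_inj [Fact l.Prime] (h2 : l ≠ 2) (ha : a * a = -1) : Function.Injective (fun i : Fin 4 => a ^ (i : ℕ)) := by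
  have hp : l.Prime := Fact.out
  have ha0 : a ≠ 0 := by
    rintro rfl
    rw [mul_zero] at ha
    exact one_ne_zero (neg_eq_zero.1 ha.symm)
  have h2' : (2 : ZMod l) ≠ 0 := by
    intro h
    have := (Nat.prime_dvd_prime_iff_eq hp Nat.prime_two).1 (zmod_num (l := l) (n := 2) (by exact_mod_cast h))
    exact h2 this
  have hne : a ≠ 1 := by
    rintro rfl
    apply h2'
    linear_combination ha
  have hne' : a ≠ -1 := by
    rintro rfl
    apply h2'
    linear_combination ha
  intro i i' h6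
  have e3 : a ^ 3 = -a := by linear_combination a * ha
  have e2 : a ^ 2 = -1 := by linear_combination ha
  have f1 : (-1 : ZMod l) ≠ 1 := fun h => h2' (by linear_combination -h)
  have f2 : -a ≠ 1 := fun h => hne' (by linear_combination -h)
  have f3 : -a ≠ a := fun h => (mul_ne_zero h2' ha0) (by linear_combination -h)
  have f4 : -a ≠ -1 := fun h => hne (by linear_combination -h)
  fin_cases i <;> fin_cases i' <;> simp [e3, e2] at h6 ⊢
  · exact hne h6.symm
  · exact f1 h6.symm
  · exact f2 h6.symm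
  · exact hne h6
  · exact hne' h6
  · exact f3 h6.symm
  · exact f1 h6
  · exact hne' h6.symm
  · exact hne h6.symm
  · exact f2 h6
  · exact f3 h6
  · exact hne h6

/-- the twelve classes `± a^k (1 + a)^j t` -/
theorem twelve [Fact l.Prime] (h2 : l ≠ 2) (h5 : l ≠ 5) (ha : a * a = -1) {t : ZMod l} (ht : t ≠ 0) :
    Function.Injective (fun x : Fin 4 × Fin 3 => a ^ (x.1 : ℕ) * ((1 + a) ^ (x.2 : ℕ) * t)) := by
  have hp : l.Prime := Fact.out
  have ha0 : a ≠ 0 := by
    rintro rfl
    rw [mul_zero] at ha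
    exact one_ne_zero (neg_eq_zero.1 ha.symm)
  have ha4 : a ^ 4 = 1 := by linear_combination (a * a - 1) * ha
  have h2' : (2 : ZMod l) ≠ 0 := by
    intro h
    have := (Nat.prime_dvd_prime_iff_eq hp Nat.prime_two).1 (zmod_num (l := l) (n := 2) (by exact_mod_cast h))
    exact h2 this
  have h3' : (3 : ZMod l) ≠ 0 := by
    intro h
    have h3 : l = 3 := (Nat.prime_dvd_prime_iff_eq hp Nat.prime_three).1 (zmod_num (l := l) (n := 3) (by exact_mod_cast h))
    subst h3
    exact no3 a ha
  have h5' : (5 : ZMod l) ≠ 0 := by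
    intro h
    exact h5 ((Nat.prime_dvd_prime_iff_eq hp Nat.prime_five).1 (zmod_num (l := l) (n := 5) (by exact_mod_cast h)))
  have h14 : (1 + a) ^ 4 = -4 := by linear_combination (a * a + 4 * a + 5) * ha
  rintro ⟨i, j⟩ ⟨i', j'⟩ hij
  have hij' : a ^ (i : ℕ) * ((1 + a) ^ (j : ℕ) * t) = a ^ (i' : ℕ) * ((1 + a) ^ (j' : ℕ) * t) := hij
  have h4 : (-4 : ZMod l) ^ (j : ℕ) = (-4 : ZMod l) ^ (j' : ℕ) := by
    have e1 := congrArg (fun z => z ^ 4) hij'
    beta_reduce at e1
    have e2 : ∀ (i j : ℕ), (a ^ i * ((1 + a) ^ j * t)) ^ 4 = (-4) ^ j * t ^ 4 := by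
      intro i j
      rw [mul_pow, mul_pow, ← pow_mul, mul_comm i 4, pow_mul, ha4, one_pow, one_mul, ← pow_mul, mul_comm j 4, pow_mul, h14]
    rw [e2, e2] at e1
    exact mul_right_cancel₀ (pow_ne_zero 4 ht) e1
  have hj : j = j' := by
    have e5 : (5 : ZMod l) ≠ 0 := h5'
    have e15 : (15 : ZMod l) ≠ 0 := by
      intro h
      have : (3 : ZMod l) * 5 = 0 := by rw [← h]; norm_num
      exact (mul_ne_zero h3' h5') this
    have e20 : (20 : ZMod l) ≠ 0 := by
      intro h
      have : (2 : ZMod l) * 2 * 5 = 0 := by rw [← h]; norm_num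
      exact (mul_ne_zero (mul_ne_zero h2' h2') h5') this
    have hv : ∀ k : Fin 3, (-4 : ZMod l) ^ (k : ℕ) = ![1, -4, 16] k := by
      intro k
      fin_cases k
      · exact pow_zero _
      · exact pow_one _
      · change (-4 : ZMod l) ^ 2 = 16
        norm_num
    rw [hv, hv] at h4
    fin_cases j <;> fin_cases j'
    · rfl
    · exact absurd (show (1 : ZMod l) = -4 from h4) (fun h => e5 (by linear_combination h))
    · exact absurd (show (1 : ZMod l) = 16 from h4) (fun h => e15 (by linear_combination -h))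
    · exact absurd (show (-4 : ZMod l) = 1 from h4) (fun h => e5 (by linear_combination -h))
    · rfl
    · exact absurd (show (-4 : ZMod l) = 16 from h4) (fun h => e20 (by linear_combination -h))
    · exact absurd (show (16 : ZMod l) = 1 from h4) (fun h => e15 (by linear_combination h))
    · exact absurd (show (16 : ZMod l) = -4 from h4) (fun h => e20 (by linear_combination h))
    · rfl
  subst hj
  have h1a : (1 + a) ≠ 0 := by
    intro h0
    rw [h0] at h14
    have : (2 : ZMod l) * 2 = 0 := by linear_combination h14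
    exact (mul_ne_zero h2' h2') this
  have h6 : a ^ (i : ℕ) = a ^ (i' : ℕ) :=
    mul_right_cancel₀ (mul_ne_zero (pow_ne_zero _ h1a) ht) hij'
  have hi : i = i' := four_inj h2 ha h6
  rw [hi]


section main

variable [Fact l.Prime] [IsAlgClosed K] [FiniteDimensional K V]

/-- `Z4` over the algebraic closure -/
theorem z4_K (h : TK Q φ g m) (hQ : Nondeg Q) (h8 : finrank K V = 8) (he : Wt φ l a e) (hN : Au3 Q g m l N)
    (ha : a * a = -1) (hl2 : l ≠ 2) (hl : (l : K) ≠ 0) : N = 1 := by
  have hp : l.Prime := Fact.out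
  have hb : a * (-a) = 1 := by rw [mul_neg, ha, neg_neg]
  have ha0 : a ≠ 0 := by
    rintro rfl
    rw [mul_zero] at ha
    exact one_ne_zero (neg_eq_zero.1 ha.symm)
  have h2' : (2 : ZMod l) ≠ 0 := by
    intro h
    have := (Nat.prime_dvd_prime_iff_eq hp Nat.prime_two).1 (zmod_num (l := l) (n := 2) (by exact_mod_cast h))
    exact hl2 this
  have hneg : ∀ i, dd N e (-i) = dd N e i := he.dd_neg hl hN hQ
  have hda : ∀ i, dd N e (a * i) = dd N e i := by
    intro i
    have h1 := he.dd_g h hN hQ hb i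
    have h2 : -a * (-a * (-a * i)) = a * i := by linear_combination -a * i * ha
    rwa [h2] at h1
  have hsum : ∑ i, dd N e i = 8 := by rw [he.sum_dd hl hN.pow, h8]
  by_cases h0 : dd N e 0 = 0
  · exfalso
    have hE0 : ∀ x ∈ Ei N (e 0), x = 0 := by
      intro x hx
      have h1 : finrank K (Ei N (e 0)) = 0 := h0
      rw [Submodule.finrank_eq_zero] at h1
      rw [h1] at hx
      exact (Submodule.mem_bot K).1 hx
    -- no zero divisors
    have hnz : ∀ t : ZMod l, ∀ u ∈ Ei N (e t), ∀ w ∈ Ei N (e (-t)), u ≠ 0 → w ≠ 0 → m u w ≠ 0 := by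
      intro t u hu w hw hu0 hw0 h1
      obtain ⟨x, hx, hxu⟩ := he.exists_dual hl hN hQ hu hu0
      have h2 : m x w = 0 := by
        apply hE0
        have h3 := he.mul_mem h hN hb hx hw
        have h4 : -a * -t + a * -t = 0 := by ring
        rwa [h4] at h3
      exact hw0 (h.eq_zero_of hxu h1 h2)
    have hC : ∀ t : ZMod l, ∀ u ∈ Ei N (e t), ∀ w ∈ Ei N (e (-t)), m u w ∈ Ei N (e (-(a * (2 * t)))) := by
      intro t u hu w hw
      have h3 := he.mul_mem h hN hb hu hw
      have h4 : -a * t + a * -t = -(a * (2 * t)) := by ring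
      rwa [h4] at h3
    have hle : ∀ t, dd N e t ≤ dd N e (2 * t) := by
      intro t
      by_cases ht : dd N e t = 0
      · omega
      have h5 : 0 < finrank K (Ei N (e t)) := Nat.pos_of_ne_zero ht
      have : Nontrivial (Ei N (e t)) := Module.finrank_pos_iff.1 h5
      obtain ⟨u, hu⟩ := exists_ne (0 : Ei N (e t))
      rw [← hneg t, ← hda (2 * t), ← hneg (a * (2 * t))]
      exact semi_finrank_le (K := K) (ψ := φ)
        (fun w : Ei N (e (-t)) => (⟨m u w, hC t u u.2 w w.2⟩ : Ei N (e (-(a * (2 * t))))))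
        (fun x y => Subtype.ext (h.add_right _ _ _)) (fun k x => Subtype.ext (h.smul_right _ _ _))
        (fun w hw => by
          by_contra hw0
          exact hnz t u u.2 w w.2 (fun h6 => hu (Subtype.ext h6)) (fun h6 => hw0 (Subtype.ext h6))
            (congrArg Subtype.val hw))
    have heq : ∀ t, dd N e (2 * t) = dd N e t := inv_of_le h2' hle
    have hone : ∀ t, dd N e t ≤ 1 := by
      intro t
      by_contra hcon
      push Not at hcon
      obtain ⟨x, hx, y, hy, hx0, hy0, hxy⟩ := h.exists_zero (A := Ei N (e t)) (B := Ei N (e (-t)))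
        (C := Ei N (e (-(a * (2 * t))))) (hC t) hcon (by
          have := hneg t
          change finrank K (Ei N (e (-t))) = finrank K (Ei N (e t)) at this
          have h7 : 1 < finrank K (Ei N (e t)) := hcon
          omega) (by
          have h7 : dd N e (-(a * (2 * t))) = dd N e (-t) := by rw [hneg, hda, heq, hneg]
          exact le_of_eq h7)
      exact hnz t x hx y hy hx0 hy0 hxy
    -- closure under `1 + a`
    have hplus : ∀ t, dd N e t ≠ 0 → dd N e ((1 + a) * t) ≠ 0 := by
      intro t ht h9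
      have h5 : 0 < finrank K (Ei N (e t)) := Nat.pos_of_ne_zero ht
      have : Nontrivial (Ei N (e t)) := Module.finrank_pos_iff.1 h5
      obtain ⟨u, hu⟩ := exists_ne (0 : Ei N (e t))
      have h6 : 0 < finrank K (Ei N (e (a * t))) := by
        have := hda t
        change finrank K (Ei N (e (a * t))) = finrank K (Ei N (e t)) at this
        omega
      have : Nontrivial (Ei N (e (a * t))) := Module.finrank_pos_iff.1 h6
      obtain ⟨w, hw⟩ := exists_ne (0 : Ei N (e (a * t)))
      obtain ⟨w', hw', hww⟩ := he.exists_dual hl hN hQ w.2 (fun h7 => hw (Subtype.ext h7))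
      have hz : ∀ j, dd N e j = 0 → ∀ x ∈ Ei N (e j), x = 0 := by
        intro j hj x hx
        have h1 : finrank K (Ei N (e j)) = 0 := hj
        rw [Submodule.finrank_eq_zero] at h1
        rw [h1] at hx
        exact (Submodule.mem_bot K).1 hx
      have e1 : m u w = 0 := by
        refine hz (-((1 + a) * t)) (by rw [hneg, h9]) _ ?_
        have h3 := he.mul_mem h hN hb u.2 w.2
        have h4 : -a * t + a * (a * t) = -((1 + a) * t) := by linear_combination t * ha
        rwa [h4] at h3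
      have e2 : m u w' = 0 := by
        refine hz (-(a * ((1 + a) * t))) (by rw [hneg, hda, h9]) _ ?_
        have h3 := he.mul_mem h hN hb u.2 hw'
        have h4 : -a * t + a * -(a * t) = -(a * ((1 + a) * t)) := by linear_combination (0 : ZMod l) * ha
        rwa [h4] at h3
      exact hww (h.sing_left (fun h7 => hu (Subtype.ext h7)) e1 e2)
    -- a weight
    obtain ⟨t, ht⟩ : ∃ t, dd N e t ≠ 0 := by
      by_contra hcon
      push Not at hcon
      rw [Finset.sum_congr rfl (fun i _ => hcon i)] at hsum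
      simp at hsum
    have ht0 : t ≠ 0 := by
      rintro rfl
      exact ht h0
    have h5 : l ≠ 5 := by
      rintro rfl
      have h10 : ∑ i, dd N e i ≤ 5 := by
        calc ∑ i, dd N e i ≤ ∑ _i : ZMod 5, 1 := Finset.sum_le_sum (fun i _ => hone i)
          _ = 5 := by simp
      omega
    have hinj := twelve hl2 h5 ha ht0
    have h11 := sum_le_of_inj (dd N e) _ hinj
    have h12 : ∀ x : Fin 4 × Fin 3, 1 ≤ dd N e (a ^ (x.1 : ℕ) * ((1 + a) ^ (x.2 : ℕ) * t)) := by
      rintro ⟨i, j⟩
      have e1 : ∀ k : ℕ, dd N e ((1 + a) ^ k * t) ≠ 0 := by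
        intro k
        induction k with
        | zero => rwa [pow_zero, one_mul]
        | succ k ih => rw [pow_succ', mul_assoc]; exact hplus _ ih
      have e2 : ∀ (k : ℕ) (s : ZMod l), dd N e s ≠ 0 → dd N e (a ^ k * s) ≠ 0 := by
        intro k s hs
        induction k with
        | zero => rwa [pow_zero, one_mul]
        | succ k ih => rw [pow_succ', mul_assoc, hda]; exact ih
      exact Nat.one_le_iff_ne_zero.2 (e2 _ _ (e1 _))
    have h13 : 12 ≤ ∑ x : Fin 4 × Fin 3, dd N e (a ^ (x.1 : ℕ) * ((1 + a) ^ (x.2 : ℕ) * t)) := by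
      calc 12 = ∑ _x : Fin 4 × Fin 3, 1 := by simp
        _ ≤ _ := Finset.sum_le_sum (fun x _ => h12 x)
    omega
  · have hE : ∀ x ∈ Ei N (e 0), (∀ y ∈ Ei N (e 0), polar Q x y = 0) → x = 0 := by
      intro x hx hxy
      refine he.perp hl hN hQ hx (fun y hy => hxy y ?_)
      rwa [neg_zero] at hy
    by_cases hall : ∀ t, t ≠ 0 → dd N e t = 0
    · have h1 : dd N e 0 = 8 := by
        rw [← hsum]
        exact (Finset.sum_eq_single 0 (fun t _ ht => hall t ht) (fun h => absurd (Finset.mem_univ _) h)).symm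
      have h2 : Ei N (e 0) = ⊤ := by
        apply Submodule.eq_top_of_finrank_eq
        rw [h8]
        exact h1
      apply LinearMap.ext
      intro x
      have h3 : x ∈ Ei N (e 0) := by rw [h2]; exact Submodule.mem_top
      rw [mem_Ei, he.zero, one_smul] at h3
      exact h3
    · exfalso
      push Not at hall
      obtain ⟨t, ht0, ht⟩ := hall
      have hpow : ∀ (k : ℕ) (s : ZMod l), dd N e (a ^ k * s) = dd N e s := by
        intro k s
        induction k with
        | zero => rw [pow_zero, one_mul]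
        | succ k ih => rw [pow_succ', mul_assoc, hda]; exact ih
      have hle : ∀ s, dd N e s ≠ 0 → dd N e 0 ≤ 2 * dd N e s := by
        intro s hs
        have h5 : 0 < finrank K (Ei N (e s)) := Nat.pos_of_ne_zero hs
        have : Nontrivial (Ei N (e s)) := Module.finrank_pos_iff.1 h5
        obtain ⟨u, hu⟩ := exists_ne (0 : Ei N (e s))
        have h6 := dim_le_two_mul h (A := Ei N (e 0)) (C := Ei N (e (-(a * s)))) (u := (u : V))
          (fun h7 => hu (Subtype.ext h7)) hE (fun x hx => by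
            have h3 := he.mul_mem h hN hb u.2 hx
            have h4 : -a * s + a * 0 = -(a * s) := by ring
            rwa [h4] at h3)
        have h7 : dd N e (-(a * s)) = dd N e s := by rw [hneg, hda]
        rw [← h7]
        exact h6
      -- the orbit of `t`
      let f : Option (Fin 4) → ZMod l := fun o => o.elim 0 (fun i => a ^ (i : ℕ) * t)
      have hf : Function.Injective f := by
        rintro (_ | i) (_ | j) hij
        · rfl
        · exact absurd (show (0 : ZMod l) = a ^ (j : ℕ) * t from hij).symm (mul_ne_zero (pow_ne_zero _ ha0) ht0)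
        · exact absurd (show a ^ (i : ℕ) * t = 0 from hij) (mul_ne_zero (pow_ne_zero _ ha0) ht0)
        · exact congrArg some (four_inj hl2 ha (mul_right_cancel₀ ht0 (show a ^ (i : ℕ) * t = a ^ (j : ℕ) * t from hij)))
      have hfs : ∑ o, dd N e (f o) = dd N e 0 + 4 * dd N e t := by
        rw [Fintype.sum_option]
        change dd N e 0 + ∑ i : Fin 4, dd N e (a ^ (i : ℕ) * t) = _
        have h8' : ∑ i : Fin 4, dd N e (a ^ (i : ℕ) * t) = ∑ _i : Fin 4, dd N e t :=
          Finset.sum_congr rfl (fun i _ => hpow i t)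
        rw [h8']
        simp
      have h9 := sum_le_of_inj (dd N e) f hf
      have h10 := hle t ht
      by_cases hrest : ∀ s, (∀ o, s ≠ f o) → dd N e s = 0
      · have h11 : ∑ i, dd N e i = ∑ o, dd N e (f o) := by
          classical
          rw [← Finset.sum_image (s := Finset.univ) (g := f) (fun x _ y _ hxy => hf hxy)]
          symm
          apply Finset.sum_subset (Finset.subset_univ _)
          intro s _ hs
          apply hrest
          intro o ho
          exact hs (Finset.mem_image.2 ⟨o, Finset.mem_univ _, ho.symm⟩)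
        omega
      · push Not at hrest
        obtain ⟨s, hs, hs'⟩ := hrest
        have hs0 : s ≠ 0 := hs none
        have hst : ∀ i : ℕ, i < 4 → s ≠ a ^ i * t := fun i hi => hs (some ⟨i, hi⟩)
        have ha4 : a ^ 4 = 1 := by linear_combination (a * a - 1) * ha
        let f2 : Option (Fin 4) ⊕ Fin 4 → ZMod l := Sum.elim f (fun i => a ^ (i : ℕ) * s)
        have hf2 : Function.Injective f2 := by
          rintro (o | i) (o' | j) hij
          · exact congrArg Sum.inl (hf hij)
          · exfalso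
            have h12 : f o = a ^ (j : ℕ) * s := hij
            rcases o with _ | i
            · exact (mul_ne_zero (pow_ne_zero _ ha0) hs0) h12.symm
            · have h13 : a ^ (i : ℕ) * t = a ^ (j : ℕ) * s := h12
              have h14 : s = a ^ ((i + (4 - j)) % 4 : ℕ) * t := by
                have e1 : a ^ ((i + (4 - j)) % 4 : ℕ) = a ^ ((i : ℕ) + (4 - (j : ℕ))) := by
                  conv_rhs => rw [← Nat.mod_add_div ((i : ℕ) + (4 - (j : ℕ))) 4, pow_add, pow_mul, ha4, one_pow, mul_one]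
                rw [e1, pow_add, mul_assoc, mul_comm (a ^ (4 - (j : ℕ))), ← mul_assoc, h13, mul_comm (a ^ (j : ℕ)),
                  mul_assoc, ← pow_add]
                have e2 : (j : ℕ) + (4 - (j : ℕ)) = 4 := by omega
                rw [e2, ha4, mul_one]
              exact hst _ (Nat.mod_lt _ (by norm_num)) h14
          · exfalso
            have h12 : f o' = a ^ (i : ℕ) * s := hij.symm
            rcases o' with _ | j
            · exact (mul_ne_zero (pow_ne_zero _ ha0) hs0) h12.symm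
            · have h13 : a ^ (j : ℕ) * t = a ^ (i : ℕ) * s := h12
              have h14 : s = a ^ ((j + (4 - i)) % 4 : ℕ) * t := by
                have e1 : a ^ ((j + (4 - i)) % 4 : ℕ) = a ^ ((j : ℕ) + (4 - (i : ℕ))) := by
                  conv_rhs => rw [← Nat.mod_add_div ((j : ℕ) + (4 - (i : ℕ))) 4, pow_add, pow_mul, ha4, one_pow, mul_one]
                rw [e1, pow_add, mul_assoc, mul_comm (a ^ (4 - (i : ℕ))), ← mul_assoc, h13, mul_comm (a ^ (i : ℕ)),
                  mul_assoc, ← pow_add]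
                have e2 : (i : ℕ) + (4 - (i : ℕ)) = 4 := by omega
                rw [e2, ha4, mul_one]
              exact hst _ (Nat.mod_lt _ (by norm_num)) h14
          · exact congrArg Sum.inr (four_inj hl2 ha (mul_right_cancel₀ hs0 hij))
        have h15 := sum_le_of_inj (dd N e) f2 hf2
        rw [Fintype.sum_sum_type] at h15
        have h16 : ∑ i : Fin 4, dd N e (f2 (Sum.inr i)) = 4 * dd N e s := by
          have h8' : ∑ i : Fin 4, dd N e (a ^ (i : ℕ) * s) = ∑ _i : Fin 4, dd N e s :=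
            Finset.sum_congr rfl (fun i _ => hpow i s)
          refine h8'.trans ?_
          simp
        have h17 : ∑ o, dd N e (f2 (Sum.inl o)) = dd N e 0 + 4 * dd N e t := hfs
        omega

end main

end Cfsg.Agent.H256.RC
end

-- part: H256/RC/ZFour
section
/-!
# S3510, triality type (iii): `ZN4` (helper256)
-/

set_option autoImplicit false

namespace Cfsg.Agent.H256.RC

open Module QuadraticMap Cfsg.Agent.LieClassical.OrthCore Cfsg.Agent.LieClassical.OrthTrans
  Cfsg.Agent.LieClassical.OrthSimple Cfsg.Agent.ClassicalGeometry.OrthAut1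
  Cfsg.Agent.ClassicalGeometry.OrthSemi Cfsg.Agent.H198.Classes
  Cfsg.Agent.LieClassical.QuadForms Cfsg.Agent.H198.ClassesPlus
  Cfsg.Agent.ClassicalGeometry.TrialityOct Cfsg.Agent.ClassicalGeometry.Triality
  Cfsg.Agent.ClassicalGeometry.TrialitySpaces Cfsg.Agent.H198.TriBase Cfsg.Agent.H198.TriAut
  Cfsg.Agent.H198.TriDia Cfsg.Agent.H198.TriTC Cfsg.Agent.H198.TwComp

universe u

variable {F : Type u} [Field F]

/-- an extension of `s` to the algebraic closure acting on the `l`-th roots of unity as the `k`-th power,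
`k = q₀` or `q₀ k = 1` modulo `l` -/
theorem exists_phi [Finite F] {s : F ≃+* F} {q0 : ℕ} (hq0 : IsPrimePow q0) (hq : Nat.card F = q0 ^ 3)
    (hs : (∀ a : F, s a = a ^ q0) ∨ ∀ a : F, s a = a ^ (q0 ^ 2)) {l : ℕ} (hl : l.Prime) (hlq : ¬ l ∣ q0) :
    ∃ (φ : AlgebraicClosure F ≃+* AlgebraicClosure F) (k : ℕ),
      (∀ a, φ (algebraMap F (AlgebraicClosure F) a) = algebraMap F (AlgebraicClosure F) (s a)) ∧
      (∀ c : AlgebraicClosure F, c ^ l = 1 → φ c = c ^ k) ∧
      ((k : ZMod l) = (q0 : ZMod l) ∨ (k : ZMod l) * (q0 : ZMod l) = 1) := by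
  obtain ⟨p, n, hp, hn, hpn⟩ := hq0
  have hpp : p.Prime := hp.nat_prime
  have hfin : ∀ a : F, a ^ Nat.card F = a := fun a => by
    have := Fintype.ofFinite F
    rw [Nat.card_eq_fintype_card]; exact FiniteField.pow_card a
  have hchar : CharP F p := by
    obtain ⟨r, hr⟩ := CharP.exists F
    have hrp : r.Prime := (CharP.char_is_prime_or_zero F r).resolve_right
      (fun h0 => CharP.char_ne_zero_of_finite F r h0)
    have : Fact r.Prime := ⟨hrp⟩
    have := Fintype.ofFinite F
    obtain ⟨m, -, hm⟩ := FiniteField.card F r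
    have h1 : r ∣ p := by
      have h2 : r ∣ Nat.card F := by
        rw [Nat.card_eq_fintype_card, hm]
        exact dvd_pow_self r m.pos.ne'
      rw [hq, ← hpn, ← pow_mul] at h2
      exact hrp.dvd_of_dvd_pow h2
    rwa [(Nat.prime_dvd_prime_iff_eq hrp hpp).1 h1] at hr
  have : Fact p.Prime := ⟨hpp⟩
  have : CharP (AlgebraicClosure F) p := charP_of_injective_algebraMap (algebraMap F (AlgebraicClosure F)).injective p
  have : ExpChar (AlgebraicClosure F) p := ExpChar.prime hpp
  have : Fact l.Prime := ⟨hl⟩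
  set fr : AlgebraicClosure F ≃+* AlgebraicClosure F := iterateFrobeniusEquiv (AlgebraicClosure F) p n with hfr
  have hfr' : ∀ x, fr x = x ^ q0 := by
    intro x
    rw [hfr, iterateFrobeniusEquiv_def, hpn]
  rcases hs with hs | hs
  · exact ⟨fr, q0, fun a => by rw [hfr', hs, map_pow], fun c _ => hfr' c, Or.inl rfl⟩
  · have hcop : Nat.Coprime q0 l := ((Nat.Prime.coprime_iff_not_dvd hl).2 hlq).symm
    obtain ⟨k, hk⟩ : ∃ k : ℕ, (k : ZMod l) * (q0 : ZMod l) = 1 := by
      have h0 : (q0 : ZMod l) ≠ 0 := by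
        rw [Ne, ZMod.natCast_eq_zero_iff]
        exact hlq
      refine ⟨((q0 : ZMod l)⁻¹).val, ?_⟩
      rw [ZMod.natCast_val, ZMod.cast_id, inv_mul_cancel₀ h0]
    refine ⟨fr.symm, k, fun a => ?_, fun c hc => ?_, Or.inr hk⟩
    · rw [RingEquiv.symm_apply_eq, hfr', hs, ← map_pow, ← pow_mul]
      congr 1
      have : q0 ^ 2 * q0 = Nat.card F := by rw [hq]; ring
      rw [this, hfin]
    · rw [RingEquiv.symm_apply_eq, hfr', ← pow_mul]
      have h1 : ((k * q0 : ℕ) : ZMod l) = ((1 : ℕ) : ZMod l) := by rw [Nat.cast_mul, hk, Nat.cast_one]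
      rw [ZMod.natCast_eq_natCast_iff] at h1
      have h2 : c ^ (k * q0) = c ^ 1 := by
        rw [← Nat.mod_add_div (k * q0) l, pow_add, pow_mul, hc, one_pow, mul_one]
        conv_rhs => rw [← Nat.mod_add_div 1 l, pow_add, pow_mul, hc, one_pow, mul_one]
        rw [show k * q0 % l = 1 % l from h1]
      rw [h2, pow_one]

/-- `ZN4` : no automorphism of the twisted product has odd prime order dividing `q₀² + 1` -/
theorem ZN4 [Finite F] {s : F ≃+* F} (h3 : ∀ a, s (s (s a)) = a) (hne : s ≠ RingEquiv.refl F) {q0 : ℕ}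
    (hq : Nat.card F = q0 ^ 3) {c : V8 F ≃ₗ[F] V8 F} (hc : c ∈ AutD (fG s)) {l : ℕ} (hl : l.Prime)
    (hl2 : l ≠ 2) (h1 : l ∣ q0 ^ 2 + 1) (hcl : c ^ l = 1) : c = 1 := by
  obtain ⟨q1, hq1, hq1', hpp, -, hs⟩ := BQ h3 hne
  have hqq : q1 = q0 := by
    have : q1 ^ 3 = q0 ^ 3 := by rw [← hq1', hq]
    exact Nat.pow_left_injective (by norm_num : 3 ≠ 0) this
  subst hqq
  have hlq : ¬ l ∣ q1 := by
    intro h
    have h2 : l ∣ 1 := (Nat.dvd_add_right (h.trans (dvd_pow_self q1 two_ne_zero))).1 h1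
    exact hl.one_lt.ne' (Nat.dvd_one.1 h2)
  have : Fact l.Prime := ⟨hl⟩
  obtain ⟨φ, k, hφ, hk, hka⟩ := exists_phi hpp hq hs hl hlq
  -- `l ≠ 0` in `F`
  have hlF : (l : AlgebraicClosure F) ≠ 0 := by
    intro h0
    have h4 : (l : F) = 0 := by
      apply (algebraMap F (AlgebraicClosure F)).injective
      rw [map_natCast, map_zero, h0]
    have h5 := Fintype.ofFinite F
    obtain ⟨p, hp⟩ := CharP.exists F
    have hppr : p.Prime := (CharP.char_is_prime_or_zero F p).resolve_right
      (fun h0 => CharP.char_ne_zero_of_finite F p h0)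
    have h6 : p ∣ l := (CharP.cast_eq_zero_iff F p l).1 h4
    have h7 : p = l := (Nat.prime_dvd_prime_iff_eq hppr hl).1 h6
    subst h7
    have : Fact p.Prime := ⟨hppr⟩
    obtain ⟨m, -, hm⟩ := FiniteField.card F p
    have h8 : p ∣ Nat.card F := by
      rw [Nat.card_eq_fintype_card, hm]
      exact dvd_pow_self p m.pos.ne'
    rw [hq] at h8
    exact hlq (hppr.dvd_of_dvd_pow h8)
  obtain ⟨e, he⟩ := exists_wt hlF hk
  have hq2 : (q1 : ZMod l) * (q1 : ZMod l) = -1 := by
    have h4 : ((q1 ^ 2 + 1 : ℕ) : ZMod l) = 0 := (ZMod.natCast_eq_zero_iff _ _).2 h1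
    push_cast at h4
    linear_combination h4
  have ha : (k : ZMod l) * (k : ZMod l) = -1 := by
    rcases hka with h | h
    · rw [h, hq2]
    · have h5 : ((k : ZMod l) * k) * ((q1 : ZMod l) * q1) = 1 := by
        linear_combination ((k : ZMod l) * q1 + 1) * h
      rw [hq2] at h5
      linear_combination -h5
  have h8 : finrank (AlgebraicClosure F) (V8 (AlgebraicClosure F)) = 8 := by
    rw [Module.finrank_fintype_fun_eq_card]
    rfl
  have hN := exists_bc h3 hφ hc hcl
  have h9 := z4_K (tk_dia φ) (Cfsg.Agent.ClassicalGeometry.Triality.nondeg8 (F := AlgebraicClosure F)) h8 he hN ha hl2 hlF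
  apply LinearEquiv.ext
  intro x
  apply io_inj (K := AlgebraicClosure F)
  have h10 := exN_io (K := AlgebraicClosure F) (c : V8 F →ₗ[F] V8 F) x
  rw [h9] at h10
  exact h10.symm

end Cfsg.Agent.H256.RC
end

-- part: H195/RC/TwPlane
section
/-!
# S3510, triality of type iii: absolute points `e ⋄ e = 0` and the plane `Π = ker(e ⋄ ·) ∩ ker(· ⋄ e)` (helper195)
-/

set_option autoImplicit false
set_option linter.unusedSectionVars false

namespace Cfsg.Agent.H195.RC

open Module QuadraticMap Cfsg.Agent.LieClassical.OrthCore Cfsg.Agent.LieClassical.OrthTrans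
  Cfsg.Agent.LieClassical.OrthSimple Cfsg.Agent.ClassicalGeometry.OrthAut1
  Cfsg.Agent.ClassicalGeometry.OrthSemi Cfsg.Agent.H198.Classes
  Cfsg.Agent.LieClassical.QuadForms Cfsg.Agent.H198.ClassesPlus
  Cfsg.Agent.ClassicalGeometry.TrialityOct Cfsg.Agent.ClassicalGeometry.Triality
  Cfsg.Agent.ClassicalGeometry.TrialitySpaces Cfsg.Agent.H198.TriBase Cfsg.Agent.H198.TriAut
  Cfsg.Agent.H198.TriDia Cfsg.Agent.H198.TriTC Cfsg.Agent.H106.RC Cfsg.Agent.H93.RC Cfsg.Agent.H566.RC

universe u

variable {F : Type u} [Field F] {φ : F ≃+* F}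

/-- the plane of an absolute point -/
structure InP (φ : F ≃+* F) (e y : V8 F) : Prop where
  left : tw φ e y = 0
  right : tw φ y e = 0

section

variable (h : ∀ a : F, φ (φ (φ a)) = a)

include h

/-- `z ⋄ e = 0`, `e ≠ 0`: `z` is singular -/
theorem norm_of_right {e z : V8 F} (he : e ≠ 0) (hz : tw φ z e = 0) : plusForm 4 F z = 0 := by
  have := tw_tw h z e
  rw [hz, tw_zero_left h] at this
  exact (map_eq_zero φ).1 ((smul_eq_zero.1 this.symm).resolve_right he)

theorem norm_of_left {e z : V8 F} (he : e ≠ 0) (hz : tw φ e z = 0) : plusForm 4 F z = 0 := by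
  have := tw_tw' h z e
  rw [hz, tw_zero_right h] at this
  have h1 := (smul_eq_zero.1 this.symm).resolve_right he
  exact (map_eq_zero φ).1 ((map_eq_zero φ).1 h1)

theorem polar_of_right {e y z : V8 F} (he : e ≠ 0) (hy : tw φ y e = 0) (hz : tw φ z e = 0) :
    polar (plusForm 4 F) y z = 0 := by
  rw [QuadraticMap.polar, norm_of_right h he hy, norm_of_right h he hz,
    norm_of_right h he (z := y + z) (by rw [tw_add_left h, hy, hz, add_zero])]
  simp

theorem norm_of_abs {e : V8 F} (hee : tw φ e e = 0) : plusForm 4 F e = 0 := by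
  have := tw_norm h e e
  rw [hee, QuadraticMap.map_zero] at this
  rcases mul_eq_zero.1 this.symm with h1 | h1
  · exact (map_eq_zero φ).1 ((map_eq_zero φ).1 h1)
  · exact (map_eq_zero φ).1 h1

theorem InP.polar {e y : V8 F} (he : e ≠ 0) (hee : tw φ e e = 0) (hy : InP φ e y) :
    QuadraticMap.polar (plusForm 4 F) e y = 0 := polar_of_right h he hee hy.right

theorem InP.norm {e y : V8 F} (he : e ≠ 0) (hy : InP φ e y) : plusForm 4 F y = 0 := norm_of_right h he hy.right

theorem InP.add {e y z : V8 F} (hy : InP φ e y) (hz : InP φ e z) : InP φ e (y + z) :=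
  ⟨by rw [tw_add_right h, hy.left, hz.left, add_zero], by rw [tw_add_left h, hy.right, hz.right, add_zero]⟩

theorem InP.smul {e y : V8 F} (hy : InP φ e y) (c : F) : InP φ e (c • y) :=
  ⟨by rw [tw_smul_right h, hy.left, smul_zero], by rw [tw_smul_left h, hy.right, smul_zero]⟩

omit h in
theorem fin_span_le (v : V8 F) : finrank F (Submodule.span F {v}) ≤ 1 := by
  by_cases hv : v = 0
  · rw [hv, Submodule.span_zero_singleton, finrank_bot]; exact Nat.zero_le _
  · rw [finrank_span_singleton hv]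

/-- `z ⋄ e ∈ Π` for `z ⟂ e` -/
theorem inP_right {e z : V8 F} (hee : tw φ e e = 0) (hz : QuadraticMap.polar (plusForm 4 F) e z = 0) :
    InP φ e (tw φ z e) := by
  refine ⟨by rw [tw_tw' h, norm_of_abs h hee, map_zero, map_zero, zero_smul], ?_⟩
  have := lin1 h z e e
  rw [hee, tw_zero_left h, add_zero, polar_comm, hz, map_zero, zero_smul] at this
  exact this

theorem inP_left {e z : V8 F} (hee : tw φ e e = 0) (hz : QuadraticMap.polar (plusForm 4 F) e z = 0) :
    InP φ e (tw φ e z) := by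
  refine ⟨?_, by rw [tw_tw h, norm_of_abs h hee, map_zero, zero_smul]⟩
  have := lin2 h e e z
  rw [hee, tw_zero_right h, add_zero, hz, map_zero, map_zero, zero_smul] at this
  exact this

omit h in
/-- a vector with `(e, f) = 1` -/
theorem exists_f {e : V8 F} (he : e ≠ 0) : ∃ f : V8 F, QuadraticMap.polar (plusForm 4 F) e f = 1 := by
  by_contra hcon
  push Not at hcon
  apply he
  apply ClassicalGeometry.Triality.nondeg8
  intro y
  by_contra hy
  apply hcon ((QuadraticMap.polar (plusForm 4 F) e y)⁻¹ • y)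
  rw [polar_smul_right, smul_eq_mul, inv_mul_cancel₀ hy]

omit h in
/-- the double perpendicular of a point -/
theorem mem_of_perp {e v : V8 F} (he : e ≠ 0)
    (hv : ∀ u, QuadraticMap.polar (plusForm 4 F) e u = 0 → QuadraticMap.polar (plusForm 4 F) u v = 0) :
    ∃ t : F, v = t • e := by
  obtain ⟨f, hf⟩ := exists_f he
  refine ⟨QuadraticMap.polar (plusForm 4 F) f v, ?_⟩
  rw [← sub_eq_zero]
  apply ClassicalGeometry.Triality.nondeg8
  intro x
  have h1 := hv (x - QuadraticMap.polar (plusForm 4 F) e x • f) (by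
    rw [polar_sub_right, polar_smul_right, hf, smul_eq_mul, mul_one, sub_self])
  rw [polar_sub_left, polar_smul_left] at h1
  rw [polar_sub_left, polar_smul_left, polar_comm _ v x]
  simp only [smul_eq_mul] at h1 ⊢
  linear_combination h1

/-- `Π ⋄ Π ⊆ F e` -/
theorem inP_mul {e y z : V8 F} (he : e ≠ 0) (hy : InP φ e y) (hz : InP φ e z) :
    ∃ t : F, tw φ y z = t • e := by
  apply mem_of_perp he
  intro u hu
  rw [tw_assoc h]
  have h1 : tw φ (tw φ u y) e = 0 := by
    have := lin1 h u y e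
    rw [hy.left, tw_zero_left h, add_zero, polar_comm, hu, map_zero, zero_smul] at this
    exact this
  rw [polar_of_right h he h1 hz.right, map_zero]

/-- the plane is larger than `F e` -/
theorem exists_inP {e : V8 F} (he : e ≠ 0) (hee : tw φ e e = 0) : ∃ y, InP φ e y ∧ ∀ t : F, y ≠ t • e := by
  by_contra hcon
  push Not at hcon
  let T : V8 F →ₗ[F] V8 F :=
    { toFun := fun z => cf φ (tw φ z e)
      map_add' := fun a b => by rw [tw_add_left h, cf_add]
      map_smul' := fun c a => by rw [tw_smul_left h, cf_smul, h]; rfl }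
  have hTa : ∀ z, T z = cf φ (tw φ z e) := fun _ => rfl
  let P : Submodule F (V8 F) := LinearMap.ker (polarBilin (plusForm 4 F) e)
  have hP : ∀ z, z ∈ P ↔ QuadraticMap.polar (plusForm 4 F) e z = 0 := fun z => Iff.rfl
  have h8 : finrank F (V8 F) = 8 := by
    rw [Module.finrank_pi, Fintype.card_sum, Fintype.card_fin]
  have hP7 : 7 ≤ finrank F P := by
    have h1 := LinearMap.finrank_range_add_finrank_ker (polarBilin (plusForm 4 F) e)
    have h2 : finrank F (LinearMap.range (polarBilin (plusForm 4 F) e)) ≤ 1 := by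
      have := Submodule.finrank_le (LinearMap.range (polarBilin (plusForm 4 F) e))
      rwa [Module.finrank_self] at this
    rw [h8] at h1
    change 7 ≤ finrank F (LinearMap.ker (polarBilin (plusForm 4 F) e))
    omega
  have h1 := LinearMap.finrank_range_add_finrank_ker (T.domRestrict P)
  have h2 : finrank F (LinearMap.range (T.domRestrict P)) ≤ 1 := by
    have h3 : LinearMap.range (T.domRestrict P) ≤ Submodule.span F {cf φ e} := by
      rintro _ ⟨⟨z, hz⟩, rfl⟩
      obtain ⟨t, ht⟩ := hcon _ (inP_right h hee ((hP z).1 hz))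
      change T z ∈ _
      rw [hTa, ht, cf_smul]
      exact Submodule.smul_mem _ _ (Submodule.mem_span_singleton_self _)
    exact (Submodule.finrank_mono h3).trans (fin_span_le _)
  have h3 : finrank F (LinearMap.ker (T.domRestrict P)) ≤ 4 := by
    have h4 : ∀ z ∈ (LinearMap.ker (T.domRestrict P)).map P.subtype, plusForm 4 F z = 0 := by
      rintro _ ⟨⟨z, hz⟩, hz', rfl⟩
      have h5 : cf φ (tw φ z e) = 0 := hz'
      have h6 : tw φ z e = 0 := by
        have := congrArg (cf φ) (congrArg (cf φ) h5)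
        rw [cf3 h] at this
        rw [this]
        funext i
        change φ (φ 0) = 0
        rw [map_zero, map_zero]
      exact norm_of_right h he h6
    have h5 := finrank_le_four h4
    have e7 := LinearEquiv.finrank_eq (Submodule.equivMapOfInjective P.subtype P.subtype_injective
      (LinearMap.ker (T.domRestrict P)))
    rwa [← e7] at h5
  omega

/-- **`1 + R_{e,y}` is a Siegel element for `y ∈ Π`** -/
theorem Rw_siegel {e y f : V8 F} (he : e ≠ 0) (hee : tw φ e e = 0) (hy : InP φ e y)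
    (hf : QuadraticMap.polar (plusForm 4 F) e f = 1) (x : V8 F) :
    Rw φ e y x = QuadraticMap.polar (plusForm 4 F) e x • Rw φ e y f -
      QuadraticMap.polar (plusForm 4 F) (Rw φ e y f) x • e := by
  have hey := hy.polar h he hee
  have hQe := norm_of_abs h hee
  -- isometry
  have iso : ∀ u v, QuadraticMap.polar (plusForm 4 F) (u + Rw φ e y u) (v + Rw φ e y v) =
      QuadraticMap.polar (plusForm 4 F) u v := by
    intro u v
    have k : ∀ u, plusForm 4 F (u + Rw φ e y u) = plusForm 4 F u := by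
      intro u
      rw [norm_add, Rw_norm h hQe, Rw_polar h hey]; ring
    have e1 : (u + Rw φ e y u) + (v + Rw φ e y v) = (u + v) + Rw φ e y (u + v) := by
      rw [Rw_add h]; abel
    rw [QuadraticMap.polar, QuadraticMap.polar, e1, k, k, k]
  have hRe : Rw φ e y e = 0 := by
    unfold Rw; rw [hee, tw_zero_left h]
  set y' := Rw φ e y f with hy'
  have hy'e : QuadraticMap.polar (plusForm 4 F) e y' = 0 := by
    have := iso e f
    rw [hRe, add_zero, polar_add_right] at this
    linear_combination this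
  -- on the perpendicular space
  have key : ∀ x, QuadraticMap.polar (plusForm 4 F) e x = 0 →
      Rw φ e y x = -(QuadraticMap.polar (plusForm 4 F) y' x) • e := by
    intro x hx
    obtain ⟨t, ht⟩ := inP_mul h he (inP_left h hee hx) hy
    have ht' : Rw φ e y x = t • e := ht
    have := iso f x
    rw [ht', ← hy', polar_add_left, polar_add_right, polar_add_right, polar_smul_right, polar_smul_right,
      polar_comm _ f e, hf, polar_comm _ y' e, hy'e] at this
    rw [ht']
    congr 1
    simp only [smul_eq_mul] at this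
    linear_combination this
  have h1 := key (x - QuadraticMap.polar (plusForm 4 F) e x • f) (by
    rw [polar_sub_right, polar_smul_right, hf, smul_eq_mul, mul_one, sub_self])
  have h2 : Rw φ e y (x - QuadraticMap.polar (plusForm 4 F) e x • f) =
      Rw φ e y x - QuadraticMap.polar (plusForm 4 F) e x • y' := by
    have h3 := Rw_add h (a := e) (b := y) (x - QuadraticMap.polar (plusForm 4 F) e x • f)
      (QuadraticMap.polar (plusForm 4 F) e x • f)
    rw [sub_add_cancel, Rw_smul h] at h3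
    rw [h3]; abel
  have h4 : QuadraticMap.polar (plusForm 4 F) y' f = 0 := by
    rw [polar_comm]; exact Rw_polar h hey f
  rw [h2, polar_sub_right, polar_smul_right, h4, smul_zero, sub_zero] at h1
  rw [sub_eq_iff_eq_add] at h1
  rw [h1]
  module

theorem Rw_inP {e y f : V8 F} (hee : tw φ e e = 0) (hy : InP φ e y) (hey : QuadraticMap.polar (plusForm 4 F) e y = 0) :
    InP φ e (Rw φ e y f) := by
  have hQe := norm_of_abs h hee
  constructor
  · rw [Rw_anti h hey]
    unfold Rw
    rw [tw_neg_right h, tw_tw' h, hQe]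
    simp
  · unfold Rw
    have h1 := lin1 h (tw φ e f) y e
    have h2 : QuadraticMap.polar (plusForm 4 F) (tw φ e f) e = 0 := by
      rw [polar_comm, tw_assoc h, hee, polar_zero_left, map_zero]
    rw [hy.left, tw_zero_left h, add_zero, h2, map_zero, zero_smul] at h1
    exact h1

end

end Cfsg.Agent.H195.RC
end

-- part: H195/RC/TwUni
section
/-!
# S3510, triality of type iii: unipotent automorphisms of the twisted product (helper195)

A unipotent automorphism `g ≠ 1` of `⋄` fixes an absolute point `e` and a vector of `Π / F e`.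
-/

set_option autoImplicit false
set_option linter.unusedSectionVars false

namespace Cfsg.Agent.H195.RC

open Module QuadraticMap Cfsg.Agent.LieClassical.OrthCore Cfsg.Agent.LieClassical.OrthTrans
  Cfsg.Agent.LieClassical.OrthSimple Cfsg.Agent.ClassicalGeometry.OrthAut1
  Cfsg.Agent.ClassicalGeometry.OrthSemi Cfsg.Agent.H198.Classes
  Cfsg.Agent.LieClassical.QuadForms Cfsg.Agent.H198.ClassesPlus
  Cfsg.Agent.ClassicalGeometry.TrialityOct Cfsg.Agent.ClassicalGeometry.Triality
  Cfsg.Agent.ClassicalGeometry.TrialitySpaces Cfsg.Agent.H198.TriBase Cfsg.Agent.H198.TriAut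
  Cfsg.Agent.H198.TriDia Cfsg.Agent.H198.TriTC Cfsg.Agent.H106.RC Cfsg.Agent.H93.RC Cfsg.Agent.H566.RC

universe u

variable {F : Type u} [Field F] {φ : F ≃+* F}

/-- isometries of `V8 F` which are automorphisms of the twisted product -/
structure Au3 (φ : F ≃+* F) (g : V8 F ≃ₗ[F] V8 F) : Prop where
  iso : ∀ v, plusForm 4 F (g v) = plusForm 4 F v
  mul : ∀ u w, g (tw φ u w) = tw φ (g u) (g w)

theorem Au3.polar {g : V8 F ≃ₗ[F] V8 F} (k : Au3 φ g) (u v : V8 F) :
    QuadraticMap.polar (plusForm 4 F) (g u) (g v) = QuadraticMap.polar (plusForm 4 F) u v := by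
  rw [QuadraticMap.polar, QuadraticMap.polar, ← map_add, k.iso, k.iso, k.iso]

/-- `g - 1` -/
def Nn (g : V8 F ≃ₗ[F] V8 F) : V8 F →ₗ[F] V8 F := (g : V8 F →ₗ[F] V8 F) - LinearMap.id

theorem Nn_apply (g : V8 F ≃ₗ[F] V8 F) (v : V8 F) : Nn g v = g v - v := rfl

theorem Nn_pow {p : ℕ} [hp : Fact p.Prime] [CharP F p] {g : V8 F ≃ₗ[F] V8 F} (hg : g ^ p = 1) : Nn g ^ p = 0 := by
  have hnt : Nontrivial (V8 F) := inferInstance
  have hch : CharP (Module.End F (V8 F)) p :=
    charP_of_injective_algebraMap (FaithfulSMul.algebraMap_injective F (Module.End F (V8 F))) p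
  have e : ((g : V8 F →ₗ[F] V8 F) : Module.End F (V8 F)) ^ p = 1 := by
    have h1 : ∀ (n : ℕ) (v : V8 F), (((g : V8 F →ₗ[F] V8 F) : Module.End F (V8 F)) ^ n) v = (g ^ n) v := by
      intro n
      induction n with
      | zero => intro v; rfl
      | succ n ih =>
        intro v
        rw [pow_succ, Module.End.mul_apply, pow_succ, LinearEquiv.mul_apply, ← ih]
        rfl
    refine LinearMap.ext fun v => ?_
    rw [h1, hg]; rfl
  have h2 : Nn g = ((g : V8 F →ₗ[F] V8 F) : Module.End F (V8 F)) - 1 := rfl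
  rw [h2, sub_pow_char_of_commute p (Commute.one_right _), e, one_pow, sub_self]

section

variable {g : V8 F ≃ₗ[F] V8 F} (k : Au3 φ g)

include k

/-- fixed vectors are orthogonal to `[V, g]` -/
theorem Au3.orth {v z : V8 F} (hv : g v = v) : QuadraticMap.polar (plusForm 4 F) v (Nn g z) = 0 := by
  rw [Nn_apply, polar_sub_right]
  nth_rewrite 1 [← hv]
  rw [k.polar, sub_self]

variable (h : ∀ a : F, φ (φ (φ a)) = a)

include h

/-- a fixed absolute point from a fixed singular vector of `[V, g]` -/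
theorem Au3.exists_e_of {v z : V8 F} (hv0 : v ≠ 0) (hQ : plusForm 4 F v = 0) (hv : g v = v) (hz : v = Nn g z) :
    ∃ e, e ≠ 0 ∧ tw φ e e = 0 ∧ g e = e := by
  by_cases hvv : tw φ v v = 0
  · exact ⟨v, hv0, hvv, hv⟩
  · have hf : g (tw φ v v) = tw φ v v := by rw [k.mul, hv]
    refine ⟨tw φ v v, hvv, ?_, hf⟩
    have h1 := lin1 h v v (tw φ v v)
    have h2 : QuadraticMap.polar (plusForm 4 F) v (tw φ v v) = 0 := by
      rw [polar_comm]
      nth_rewrite 3 [hz]
      exact k.orth hf
    rw [tw_tw h, hQ, map_zero, zero_smul, tw_zero_left h, add_zero, h2, map_zero, zero_smul] at h1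
    exact h1

/-- **a unipotent automorphism fixes an absolute point** -/
theorem Au3.exists_e [Finite F] {p : ℕ} [hp : Fact p.Prime] [CharP F p] (hg : g ^ p = 1) (hg1 : g ≠ 1) :
    ∃ e, e ≠ 0 ∧ tw φ e e = 0 ∧ g e = e := by
  have hN0 : Nn g ≠ 0 := by
    intro h0
    apply hg1
    ext1 v
    have := LinearMap.congr_fun h0 v
    rw [Nn_apply] at this
    exact sub_eq_zero.1 this
  have hNp := Nn_pow (g := g) (p := p) hg
  by_cases hp2 : p = 2
  · subst hp2
    have hNN : ∀ z, g (Nn g z) = Nn g z := by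
      intro z
      have := LinearMap.congr_fun hNp z
      rw [pow_two, Module.End.mul_apply] at this
      exact sub_eq_zero.1 this
    obtain ⟨z, hz⟩ : ∃ z, Nn g z ≠ 0 := by
      by_contra hcon
      push Not at hcon
      exact hN0 (LinearMap.ext hcon)
    by_cases hQ : plusForm 4 F (Nn g z) = 0
    · exact k.exists_e_of h hz hQ (hNN z) rfl
    -- a second vector
    by_cases hrk : ∀ z', ∃ a : F, Nn g z' = a • Nn g z
    · exfalso
      have h8 : finrank F (V8 F) = 8 := by
        rw [Module.finrank_pi, Fintype.card_sum, Fintype.card_fin]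
      have h1 := LinearMap.finrank_range_add_finrank_ker (Nn g)
      have h2 : finrank F (LinearMap.range (Nn g)) ≤ 1 := by
        have h3 : LinearMap.range (Nn g) ≤ Submodule.span F {Nn g z} := by
          rintro _ ⟨z', rfl⟩
          obtain ⟨a, ha⟩ := hrk z'
          rw [ha]
          exact Submodule.smul_mem _ _ (Submodule.mem_span_singleton_self _)
        exact (Submodule.finrank_mono h3).trans (fin_span_le _)
      have h4 : LinearMap.ker (Nn g) ≤ Submodule.span F {tw φ (Nn g z) (Nn g z)} := by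
        intro x hx
        have hx' : g x = x := sub_eq_zero.1 hx
        obtain ⟨c, hc⟩ := hrk (tw φ x z)
        have e1 : Nn g (tw φ x z) = tw φ x (Nn g z) := by
          rw [Nn_apply, k.mul, hx', Nn_apply, tw_sub_right h]
        rw [e1] at hc
        have e2 := tw_tw' h (Nn g z) x
        rw [hc, tw_smul_right h] at e2
        have hne : φ (φ (plusForm 4 F (Nn g z))) ≠ 0 := by
          intro h0
          exact hQ ((map_eq_zero φ).1 ((map_eq_zero φ).1 h0))
        have e3 : x = ((φ (φ (plusForm 4 F (Nn g z))))⁻¹ * φ c) • tw φ (Nn g z) (Nn g z) := by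
          rw [mul_smul, e2, smul_smul, inv_mul_cancel₀ hne, one_smul]
        rw [e3]
        exact Submodule.smul_mem _ _ (Submodule.mem_span_singleton_self _)
      have h5 := (Submodule.finrank_mono h4).trans (fin_span_le _)
      omega
    · push Not at hrk
      obtain ⟨z', hz'⟩ := hrk
      obtain ⟨a, ha⟩ : ∃ a : F, a ^ 2 = - (plusForm 4 F (Nn g z') / plusForm 4 F (Nn g z)) := by
        have hs : Function.Surjective (frobenius F 2) := by
          have := Fintype.ofFinite F
          exact ((Fintype.bijective_iff_injective_and_card _).2 ⟨frobenius_inj F 2, rfl⟩).2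
        exact hs _
      have e1 : Nn g (z' + a • z) = Nn g z' + a • Nn g z := by rw [map_add, map_smul]
      refine k.exists_e_of h (v := Nn g (z' + a • z)) (z := z' + a • z) ?_ ?_ (hNN _) rfl
      · intro h0
        apply hz' (-a)
        rw [e1] at h0
        rw [neg_smul]
        exact eq_neg_of_add_eq_zero_left h0
      · rw [e1, norm_add, QuadraticMap.map_smul, polar_smul_right, k.orth (hNN z'), smul_zero, add_zero,
          smul_eq_mul, ← pow_two, ha]
        field_simp
        ring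
  · -- odd characteristic
    have h2 : (2 : F) ≠ 0 := by
      intro h0
      have : p ∣ 2 := (CharP.cast_eq_zero_iff F p 2).1 (by exact_mod_cast h0)
      exact hp2 ((Nat.prime_dvd_prime_iff_eq hp.out Nat.prime_two).1 this)
    obtain ⟨z, hz⟩ : ∃ z, Nn g z ≠ 0 := by
      by_contra hcon
      push Not at hcon
      exact hN0 (LinearMap.ext hcon)
    classical
    have hex : ∃ n, (Nn g ^ n) z = 0 := ⟨p, by rw [hNp]; rfl⟩
    have hm := Nat.find_spec hex
    have hm2 : 2 ≤ Nat.find hex := by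
      by_contra hlt
      push Not at hlt
      have : Nat.find hex = 0 ∨ Nat.find hex = 1 := by omega
      rcases this with h0 | h0
      · rw [h0] at hm
        apply hz
        have : z = 0 := hm
        rw [this, map_zero]
      · rw [h0, pow_one] at hm
        exact hz hm
    obtain ⟨m, hm3⟩ : ∃ m, Nat.find hex = m + 2 := ⟨Nat.find hex - 2, by omega⟩
    have hne : (Nn g ^ (m + 1)) z ≠ 0 := Nat.find_min hex (by omega)
    rw [hm3] at hm
    have hv : (Nn g ^ (m + 1)) z = Nn g ((Nn g ^ m) z) := by rw [pow_succ']; rfl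
    rw [hv] at hne
    have hfix : g (Nn g ((Nn g ^ m) z)) = Nn g ((Nn g ^ m) z) := by
      have : Nn g (Nn g ((Nn g ^ m) z)) = 0 := by
        rw [← hm, pow_succ', pow_succ']; rfl
      exact sub_eq_zero.1 this
    refine k.exists_e_of h hne ?_ hfix rfl
    have h3 := k.orth (z := (Nn g ^ m) z) hfix
    rw [QuadraticMap.polar_self, two_smul] at h3
    have h4 : (2 : F) * plusForm 4 F (Nn g ((Nn g ^ m) z)) = 0 := by rw [two_mul]; exact h3
    exact (mul_eq_zero.1 h4).resolve_left h2

/-- **a unipotent automorphism fixes a vector of `Π / F e`** -/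
theorem Au3.exists_y {p : ℕ} [hp : Fact p.Prime] [CharP F p] (hg : g ^ p = 1) {e : V8 F} (he : e ≠ 0)
    (hee : tw φ e e = 0) (hge : g e = e) : ∃ y, InP φ e y ∧ (∀ t : F, y ≠ t • e) ∧ ∃ t : F, g y = y + t • e := by
  have hNp := Nn_pow (g := g) (p := p) hg
  obtain ⟨y, hy, hyn⟩ := exists_inP h he hee
  classical
  have hex : ∃ n, ∃ t : F, (Nn g ^ n) y = t • e := ⟨p, 0, by rw [hNp, zero_smul]; rfl⟩
  obtain ⟨t, ht⟩ := Nat.find_spec hex
  have hm1 : 1 ≤ Nat.find hex := by
    by_contra hlt
    push Not at hlt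
    have h0 : Nat.find hex = 0 := by omega
    rw [h0] at ht
    exact hyn t ht
  obtain ⟨m, hm⟩ : ∃ m, Nat.find hex = m + 1 := ⟨Nat.find hex - 1, by omega⟩
  have hne := Nat.find_min hex (m := m) (by omega)
  rw [hm] at ht
  have hin : ∀ n, InP φ e ((Nn g ^ n) y) := by
    intro n
    induction n with
    | zero => exact hy
    | succ n ih =>
      have e1 : (Nn g ^ (n + 1)) y = g ((Nn g ^ n) y) + (-1 : F) • (Nn g ^ n) y := by
        rw [pow_succ', Module.End.mul_apply, Nn_apply, neg_one_smul, sub_eq_add_neg]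
      rw [e1]
      refine InP.add h ⟨?_, ?_⟩ (ih.smul h _)
      · have := k.mul e ((Nn g ^ n) y)
        rw [ih.left, map_zero, hge] at this
        exact this.symm
      · have := k.mul ((Nn g ^ n) y) e
        rw [ih.right, map_zero, hge] at this
        exact this.symm
  refine ⟨(Nn g ^ m) y, hin m, fun t ht => hne ⟨t, ht⟩, t, ?_⟩
  have h5 : Nn g ((Nn g ^ m) y) = t • e := by rw [← ht, pow_succ']; rfl
  rw [← h5, Nn_apply]; abel

end

end Cfsg.Agent.H195.RC
end

-- part: H106/RC/LrTwo
section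
/-!
# S3510, orthogonal groups: two rules with the long root group of a totally singular plane (helper106)

* `lr_mem_or`, `box_LR1` : `t ≠ 1` in the long root group `X_L`, `x` any element preserving `L`, not in `X_L`: `{t, x}`
  is no cover;
* `box_LR2` : `t, t' ≠ 1` in the same `X_L` and commuting `p'`-elements preserving `L` : no cover.
-/

set_option autoImplicit false
open Cfsg

namespace Cfsg.Agent.H106.RC.LrTwo

open QuadraticMap MulAction
open Cfsg.Agent.LieClassical.OrthCore Cfsg.Agent.LieClassical.OrthTrans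
open Cfsg.Agent.LieClassical.OrthSimple Cfsg.Agent.ClassicalGeometry.OrthSemi
open Cfsg.Agent.ClassicalGeometry.OrthAut1 Cfsg.Agent.H106.RC Cfsg.Agent.H93.RC Cfsg.Agent.H297.RC
open Cfsg.Agent.AutOrth.SemiSim (sg sg_mul sg_congr sg_zero ext_E sg_apply)

section main

variable {F V : Type*} [Field F] [Finite F] [AddCommGroup V] [Module F V] [FiniteDimensional F V]
  {Q : QuadraticForm F V} {G : Type*} [Group G] {ρ : ↥(E Q) →* G}

/-- the main step for elements of any order: the root element is in the commutator group, or the lift is, up to a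
scalar, in the long root group -/
theorem lr_mem_or (hG : Good Q) {x : G} {M : Gam Q} (hl : Lf ρ x M) {u w : V} (hu : Q u = 0) (hw : Q w = 0)
    (huw : polar Q u w = 0) (hu0 : u ≠ 0) (hind : ∀ a : F, w ≠ a • u)
    (hL : ∀ v ∈ Submodule.span F {u, w}, M.1 v ∈ Submodule.span F {u, w}) :
    ρ (sg Q u w hu huw) ∈ H380.RC.cmm ((U Q (Submodule.span F {u, w})).map ρ) x ∨
      ∃ a d : F, d ≠ 0 ∧ ∀ v, M.1 v = d • (ss Q u (a • w) : V ≃ₗ[F] V) v := by
  by_cases hgoal : ρ (sg Q u w hu huw) ∈ H380.RC.cmm ((U Q (Submodule.span F {u, w})).map ρ) x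
  · exact Or.inl hgoal
  refine Or.inr ?_
  obtain ⟨σ, c, hS⟩ := M.2
  set L := Submodule.span F {u, w} with hLdef
  have hT : TS Q L := ts_pair hu hw huw
  have huL : u ∈ L := Submodule.subset_span (by simp)
  have hwL : w ∈ L := Submodule.subset_span (by simp)
  rw [← ss_eq hu huw] at hgoal
  -- the commutator group
  have k1 : ∀ g ∈ U Q L, ρ (g * (conjE Q M g)⁻¹) ∈ H380.RC.cmm ((U Q L).map ρ) x := by
    intro g hg
    have h1 := H380.RC.mem_cmm (U := (U Q L).map ρ) (x := x) (u := ρ g) ⟨g, hg, rfl⟩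
    have h2 := hl g⁻¹
    have h3 : ρ g * x * (ρ g)⁻¹ * x⁻¹ = ρ (g * (conjE Q M g)⁻¹) := by
      rw [map_mul, ← map_inv (conjE Q M), ← h2, map_inv]
      group
    rwa [h3] at h1
  have k2 : ∀ v ∈ U Q L, ∀ z : ↥(E Q), ρ z ∈ H380.RC.cmm ((U Q L).map ρ) x →
      ρ (z⁻¹ * (v * z * v⁻¹)) ∈ H380.RC.cmm ((U Q L).map ρ) x := by
    intro v hv z hz
    have h1 := H380.RC.cmm_conj (x := x) (v := ρ v) (z := ρ z) (U := (U Q L).map ρ) ⟨v, hv, rfl⟩ hz
    have h2 := mul_mem (inv_mem hz) h1
    rwa [← map_inv, ← map_inv, ← map_mul, ← map_mul, ← map_mul] at h2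
  have hperpM : ∀ b, (∀ v ∈ L, polar Q v b = 0) → ∀ v ∈ L, polar Q v (M.1 b) = 0 := by
    intro b hb v hv
    have h1 := hS.polar (M.1⁻¹ v) b
    rw [Cfsg.Agent.ClassicalGeometry.OrthSemi.apply_inv, hb _ (inv_mem_of hL v hv)] at h1
    rw [h1, map_zero, mul_zero]
  have hperp : ∀ {b : V}, polar Q u b = 0 → polar Q w b = 0 → ∀ v ∈ L, polar Q v b = 0 := fun h1 h2 =>
    perp_pair.2 ⟨h1, h2⟩
  have hMnot : ∀ b, b ∉ L → M.1 b ∉ L := by
    intro b hb h
    apply hb
    have := inv_mem_of hL _ h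
    rwa [Cfsg.Agent.ClassicalGeometry.OrthSemi.inv_apply] at this
  by_cases hline : ∀ l ∈ L, ∃ a : F, M.1 l = a • l
  · -- all the lines are fixed
    obtain ⟨a, ha⟩ := hline u huL
    obtain ⟨b, hb⟩ := hline w hwL
    obtain ⟨d, hd⟩ := hline (u + w) (add_mem huL hwL)
    have hind2 : ∀ s t : F, s • u = t • w → s = 0 ∧ t = 0 := by
      intro s t h
      have ht : t = 0 := by
        by_contra ht
        exact hind (t⁻¹ * s) (by rw [mul_smul, h, smul_smul, inv_mul_cancel₀ ht, one_smul])
      rw [ht, zero_smul] at h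
      exact ⟨(smul_eq_zero.1 h).resolve_right hu0, ht⟩
    have hab : a = d ∧ b = d := by
      rw [hS.add, ha, hb, smul_add] at hd
      have h1 : (a - d) • u = (d - b) • w := by
        rw [sub_smul, sub_smul, sub_eq_sub_iff_add_eq_add]
        rw [hd, add_comm]
      obtain ⟨h2, h3⟩ := hind2 _ _ h1
      exact ⟨sub_eq_zero.1 h2, (sub_eq_zero.1 h3).symm⟩
    have hba : b = a := hab.2.trans hab.1.symm
    rw [hba] at hb
    have ha0 : a ≠ 0 := by
      intro h
      rw [h, zero_smul] at ha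
      exact hu0 (M.1.injective (ha.trans hS.map_zero.symm))
    -- linear
    have hσ : ∀ t : F, σ t = t := by
      intro t
      obtain ⟨d, hd⟩ := hline (t • u + w) (add_mem (L.smul_mem _ huL) hwL)
      rw [hS.add, hS.smul, ha, hb, smul_add, smul_smul, smul_smul] at hd
      have h1 : (σ t * a - d * t) • u = (d - a) • w := by
        rw [sub_smul, sub_smul, sub_eq_sub_iff_add_eq_add, hd, add_comm]
      obtain ⟨h2, h3⟩ := hind2 _ _ h1
      have h4 : d = a := sub_eq_zero.1 h3
      rw [h4] at h2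
      have h5 : (σ t - t) * a = 0 := by linear_combination h2
      exact sub_eq_zero.1 ((mul_eq_zero.1 h5).resolve_right ha0)
    have hML : ∀ l ∈ L, M.1 l = a • l := by
      intro l hl
      obtain ⟨s, t, rfl⟩ := Submodule.mem_span_pair.1 hl
      rw [hS.add, hS.smul, hS.smul, ha, hb, hσ, hσ, smul_add, smul_comm a s, smul_comm a t]
    by_cases hex : ∃ b, (∀ v ∈ L, polar Q v b = 0) ∧ b - (a * c⁻¹) • M.1 b ∉ L
    · obtain ⟨b, hbp, hbn⟩ := hex
      set w1 := b - (a * c⁻¹) • M.1 b with hw1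
      have hw1p : ∀ v ∈ L, polar Q v w1 = 0 := by
        intro v hv
        rw [hw1, polar_sub_right, hbp v hv, polar_smul_right, hperpM b hbp v hv]
        simp
      -- the element `ss u w1`
      have hz : ρ (ss Q u w1) ∈ H380.RC.cmm ((U Q L).map ρ) x := by
        have h1 := k1 _ (ss_mem hT huL hbp)
        rw [conjE_ss hS hu (hbp u huL), ha] at h1
        have h2 : ss Q (a • u) (c⁻¹ • M.1 b) = ss Q u ((a * c⁻¹) • M.1 b) := by
          have e1 : polar Q u (M.1 b) = 0 := hperpM b hbp u huL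
          have e2 : Q (a • u) = 0 := by rw [QuadraticMap.map_smul, hu, smul_zero]
          have e3 : polar Q (a • u) (c⁻¹ • M.1 b) = 0 := by
            rw [polar_smul_left, polar_smul_right, e1]; simp
          have e4 : polar Q u (a • c⁻¹ • M.1 b) = 0 := by
            rw [polar_smul_right, polar_smul_right, e1]; simp
          rw [ss_eq e2 e3, mul_smul, ss_eq hu e4]
          exact AutOrth.SemiSim.sg_smul a hu e2 e3 e4
        have e5 : polar Q u ((a * c⁻¹) • M.1 b) = 0 := by
          rw [polar_smul_right, hperpM b hbp u huL, smul_zero]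
        rw [h2, ← ss_neg hu e5, ← ss_add hu (hbp u huL) (by rw [polar_neg_right, e5, neg_zero]), ← sub_eq_add_neg] at h1
        exact h1
      obtain ⟨b2, h1, h2, h3⟩ := exists_b hG.nondeg hu0 hind hbn (-1)
      have hb2 := hperp h1 h2
      have h4 := k2 _ (ss_mem hT hwL hb2) _ hz
      rw [ss_cj hT hwL huL hb2 hw1p, inv_mul_cancel_left, polar_comm Q b2 w1, h3, neg_neg, one_smul] at h4
      exact absurd h4 hgoal
    · -- then `M` is a scalar
      push Not at hex
      -- `c = a ^ 2`
      obtain ⟨b, hb1, hb2⟩ := exists_out (Q := Q) hG.dim u w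
      obtain ⟨b', h1, h2, h3⟩ := exists_b hG.nondeg hu0 hind hb2 1
      have hbp := hperp hb1.1 hb1.2
      have hbp' := hperp h1 h2
      have hca : c = a ^ 2 := by
        have e1 := hex b hbp
        have e2 := hex b' hbp'
        have e3 := hS.polar b b'
        rw [h3, map_one, mul_one] at e3
        -- `b = κ M b + l`
        set κ := a * c⁻¹ with hκ
        have e4 : polar Q b b' = κ ^ 2 * c := by
          have f1 : b = κ • M.1 b + (b - κ • M.1 b) := by abel
          have f2 : b' = κ • M.1 b' + (b' - κ • M.1 b') := by abel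
          have f3 : polar Q (b - κ • M.1 b) (M.1 b') = 0 := hperpM b' hbp' _ e1
          have f4 : polar Q (M.1 b) (b' - κ • M.1 b') = 0 := by
            rw [polar_comm]; exact hperpM b hbp _ e2
          have f5 : polar Q (b - κ • M.1 b) (b' - κ • M.1 b') = 0 := hT.polar e1 e2
          conv_lhs => rw [f1, f2]
          rw [polar_add_left, polar_add_right, polar_add_right, f5, polar_smul_left, polar_smul_left,
            polar_smul_right, polar_smul_right, f3, f4, e3]
          simp only [smul_eq_mul]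
          ring
        rw [h3, hκ] at e4
        have hc0 := hS.ne
        field_simp at e4
        linear_combination e4
      -- the nilpotent map
      have hlin : ∀ (t : F) (v : V), M.1 (t • v) = t • M.1 v := fun t v => by rw [hS.smul, hσ]
      let T : Module.End F V :=
        { toFun := fun v => a⁻¹ • M.1 v
          map_add' := fun v w => by rw [hS.add, smul_add]
          map_smul' := fun t v => by rw [hlin, smul_comm]; rfl }
      have hTa : ∀ v, T v = a⁻¹ • M.1 v := fun _ => rfl
      have t1 : ∀ v ∈ L, (T - 1) v = 0 := by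
        intro v hv
        show T v - v = 0
        rw [hTa, hML v hv, smul_smul, inv_mul_cancel₀ ha0, one_smul, sub_self]
      have hκa : a * c⁻¹ = a⁻¹ := by rw [hca]; field_simp
      have t2 : ∀ v, (∀ l ∈ L, polar Q l v = 0) → (T - 1) v ∈ L := by
        intro v hv
        show T v - v ∈ L
        have := hex v hv
        rw [hκa] at this
        rw [hTa, ← neg_sub]
        exact L.neg_mem this
      have t3 : ∀ v, ∀ l ∈ L, polar Q l ((T - 1) v) = 0 := by
        intro v l hl
        show polar Q l (T v - v) = 0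
        rw [polar_sub_right, hTa, polar_smul_right]
        have e1 := hS.polar l v
        rw [hML l hl, polar_smul_left, hσ, hca] at e1
        have e2 : polar Q l (M.1 v) = a * polar Q l v := by
          have : a * (polar Q l (M.1 v) - a * polar Q l v) = 0 := by
            simp only [smul_eq_mul] at e1
            linear_combination e1
          exact sub_eq_zero.1 ((mul_eq_zero.1 this).resolve_left ha0)
        rw [e2, smul_eq_mul, ← mul_assoc, inv_mul_cancel₀ ha0, one_mul, sub_self]
      -- the isometry `T`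
      have hTlin : ∀ v w : V, polar Q (T v) (T w) = polar Q v w := by
        intro v w
        rw [hTa, hTa, polar_smul_left, polar_smul_right]
        have e1 := hS.polar v w
        rw [hσ, hca] at e1
        rw [e1]
        simp only [smul_eq_mul]
        field_simp
      have hTQ : ∀ v : V, Q (T v) = Q v := by
        intro v
        rw [hTa, QuadraticMap.map_smul]
        have e1 := hS.form v
        rw [hσ, hca] at e1
        rw [e1]
        simp only [smul_eq_mul]
        field_simp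
      by_cases hfix : ∀ b, (∀ l ∈ L, polar Q l b = 0) → T b = b
      · -- `T` in the long root group
        obtain ⟨w', g1, g2⟩ := exists_sep hG.nondeg hind
        obtain ⟨u', g3, g4⟩ := exists_sep hG.nondeg (ind_symm hu0 hind)
        have hd : ∀ v', T v' - v' ∈ L := by
          intro v'
          apply mem_of_perp hG.nondeg hu0 hind
          intro b hb1 hb2
          have e1 : T b = b := hfix b (perp_pair.2 ⟨hb1, hb2⟩)
          have e2 := hTlin v' b
          rw [e1] at e2
          rw [polar_sub_left, e2, sub_self]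
        obtain ⟨α, β, hd1⟩ := Submodule.mem_span_pair.1 (hd u')
        obtain ⟨γ, δ, hd2⟩ := Submodule.mem_span_pair.1 (hd w')
        have k3 : T u' = u' + (α • u + β • w) := by rw [hd1]; abel
        have k4 : T w' = w' + (γ • u + δ • w) := by rw [hd2]; abel
        have hQL : ∀ s t : F, Q (s • u + t • w) = 0 := fun s t =>
          hT _ (add_mem (L.smul_mem _ huL) (L.smul_mem _ hwL))
        have k5 : α = 0 := by
          have e1 := hTQ u'
          rw [k3, Q_add, hQL, polar_add_right, polar_smul_right, polar_smul_right, polar_comm Q u' u, g4,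
            polar_comm Q u' w, g3] at e1
          simp only [smul_eq_mul] at e1
          linear_combination e1
        have k6 : δ = 0 := by
          have e1 := hTQ w'
          rw [k4, Q_add, hQL, polar_add_right, polar_smul_right, polar_smul_right, polar_comm Q w' u, g1,
            polar_comm Q w' w, g2] at e1
          simp only [smul_eq_mul] at e1
          linear_combination e1
        have k7 : γ = -β := by
          have e1 := hTlin u' w'
          have k8 : polar Q (α • u + β • w) (γ • u + δ • w) = 0 :=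
            hT.polar (add_mem (L.smul_mem _ huL) (L.smul_mem _ hwL)) (add_mem (L.smul_mem _ huL) (L.smul_mem _ hwL))
          have k9 : polar Q u' (γ • u + δ • w) = γ := by
            rw [polar_add_right, polar_smul_right, polar_smul_right, polar_comm Q u' u, polar_comm Q u' w, g4, g3]
            simp
          have k10 : polar Q (α • u + β • w) w' = β := by
            rw [polar_add_left, polar_smul_left, polar_smul_left, g1, g2]
            simp
          rw [k3, k4, polar_add_left, polar_add_right Q u' w', polar_add_right Q (α • u + β • w) w', k8, k9,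
            k10] at e1
          linear_combination e1
        refine ⟨β, a, ha0, fun v => ?_⟩
        have e1 : polar Q u (β • w) = 0 := by rw [polar_smul_right, huw, smul_zero]
        rw [ss_eq hu e1, sg_apply, QuadraticMap.map_smul, hw, polar_smul_left]
        have e2 : T v = v + polar Q u v • (β • w) - (β • polar Q w v) • u - ((β * β) • (0 : F) * polar Q u v) • u := by
          have e3 : T (v - polar Q u v • u' - polar Q w v • w') = v - polar Q u v • u' - polar Q w v • w' := by
            apply hfix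
            refine perp_pair.2 ⟨?_, ?_⟩
            · rw [polar_sub_right, polar_sub_right, polar_smul_right, polar_smul_right, g4, g1]
              simp
            · rw [polar_sub_right, polar_sub_right, polar_smul_right, polar_smul_right, g3, g2]
              simp
          rw [map_sub, map_sub, map_smul, map_smul, k3, k4, k5, k6, k7] at e3
          have e4 : T v = (v - polar Q u v • u' - polar Q w v • w') + polar Q w v • (w' + (-β • u + (0 : F) • w)) +
              polar Q u v • (u' + ((0 : F) • u + β • w)) := by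
            rw [← e3]; abel
          rw [e4]
          simp only [smul_eq_mul]
          module
        rw [← e2, hTa, smul_smul, mul_inv_cancel₀ ha0, one_smul]
      · -- `T` in `U L` outside of the long root group
        exfalso
        apply hgoal
        push Not at hfix
        obtain ⟨b, hbp, hbn⟩ := hfix
        have hl'L : T b - b ∈ L := t2 b hbp
        obtain ⟨α, β, hl'⟩ := Submodule.mem_span_pair.1 hl'L
        have hTb : M.1 b = a • (b + (α • u + β • w)) := by
          rw [hl', add_sub_cancel, hTa, smul_smul, mul_inv_cancel₀ ha0, one_smul]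
        have key : ∀ l ∈ L, ∀ s : F, ρ (ss Q l (s • (α • u + β • w))) ∈
            H380.RC.cmm ((U Q L).map ρ) x := by
          intro l hlL s
          have hsb : ∀ v ∈ L, polar Q v ((-s) • b) = 0 := fun v hv => by
            rw [polar_smul_right, hbp v hv, smul_zero]
          have h1 := k1 _ (ss_mem hT hlL hsb)
          rw [conjE_ss hS (hT l hlL) (hsb l hlL), hML l hlL] at h1
          have e0 : M.1 ((-s) • b) = (-s) • a • (b + (α • u + β • w)) := by rw [hlin, hTb]
          have e5 : ∀ v ∈ L, polar Q v ((-s) • (b + (α • u + β • w))) = 0 := by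
            intro v hv
            rw [polar_smul_right, polar_add_right, hbp v hv,
              hT.polar hv (add_mem (L.smul_mem _ huL) (L.smul_mem _ hwL))]
            simp
          have h2 : ss Q (a • l) (c⁻¹ • M.1 ((-s) • b)) = ss Q l ((-s) • (b + (α • u + β • w))) := by
            rw [e0]
            have e1 : Q (a • l) = 0 := by rw [QuadraticMap.map_smul, hT l hlL, smul_zero]
            have e6 : c⁻¹ • (-s) • a • (b + (α • u + β • w)) = (a⁻¹) • ((-s) • (b + (α • u + β • w))) := by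
              rw [hca]
              simp only [smul_smul]
              congr 1
              field_simp
            rw [e6]
            have e2 : polar Q (a • l) (a⁻¹ • ((-s) • (b + (α • u + β • w)))) = 0 := by
              rw [polar_smul_left, polar_smul_right, e5 l hlL]; simp
            have e3 : polar Q l (a • a⁻¹ • ((-s) • (b + (α • u + β • w)))) = 0 := by
              rw [polar_smul_right, polar_smul_right, e5 l hlL]; simp
            rw [ss_eq e1 e2, AutOrth.SemiSim.sg_smul a (hT l hlL) e1 e2 e3, ← ss_eq (hT l hlL) e3, smul_smul a,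
              mul_inv_cancel₀ ha0, one_smul]
          rw [h2, ← ss_neg (hT l hlL) (e5 l hlL), ← ss_add (hT l hlL) (hsb l hlL) (by
            rw [polar_neg_right, e5 l hlL, neg_zero])] at h1
          have e7 : (-s) • b + -((-s) • (b + (α • u + β • w))) = s • (α • u + β • w) := by module
          rw [e7] at h1
          exact h1
        have hne : α • u + β • w ≠ 0 := by
          rw [hl']; exact sub_ne_zero.2 hbn
        by_cases hβ : β = 0
        · have hα : α ≠ 0 := by
            rintro rfl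
            apply hne
            rw [hβ]; simp
          have h1 := key w hwL (-α⁻¹)
          have e1 : ss Q w ((-α⁻¹) • (α • u + β • w)) = ss Q u w := by
            rw [hβ]
            have e2 : polar Q w ((-α⁻¹) • (α • u + (0 : F) • w)) = 0 := by
              rw [polar_smul_right, hT.polar hwL (add_mem (L.smul_mem _ huL) (L.smul_mem _ hwL)), smul_zero]
            rw [ss_eq hw e2, ss_eq hu huw]
            refine ext_E fun v => ?_
            have e3 : (-α⁻¹) • (α • u + (0 : F) • w) = -u := by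
              rw [zero_smul, add_zero, smul_smul, neg_mul, inv_mul_cancel₀ hα, neg_smul, one_smul]
            rw [sg_apply, sg_apply, e3, QuadraticMap.map_neg, hu, hw, polar_neg_left]
            module
          rwa [e1] at h1
        · have h1 := key u huL β⁻¹
          have e1 : ss Q u (β⁻¹ • (α • u + β • w)) = ss Q u w := by
            have e2 : polar Q u (β⁻¹ • (α • u + β • w)) = 0 := by
              rw [polar_smul_right, hT.polar huL (add_mem (L.smul_mem _ huL) (L.smul_mem _ hwL)), smul_zero]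
            rw [ss_eq hu e2, ss_eq hu huw]
            refine ext_E fun v => ?_
            have e3 : β⁻¹ • (α • u + β • w) = (β⁻¹ * α) • u + w := by
              rw [smul_add, smul_smul, smul_smul, inv_mul_cancel₀ hβ, one_smul]
            have e4 : Q ((β⁻¹ * α) • u + w) = 0 := hT _ (add_mem (L.smul_mem _ huL) hwL)
            rw [sg_apply, sg_apply, e3, e4, hw, polar_add_left, polar_smul_left]
            simp only [smul_eq_mul]
            module
          rwa [e1] at h1
  · -- a line which is not fixed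
    push Not at hline
    obtain ⟨l, hlL, hl2⟩ := hline
    set m := M.1 l with hm
    have hmL : m ∈ L := hL l hlL
    have hl0 : l ≠ 0 := by
      rintro rfl
      apply hl2 0
      rw [hm, hS.map_zero, smul_zero]
    -- `L = ⟨l, m⟩`
    have hLlm : Submodule.span F {l, m} = L := by
      apply Submodule.eq_of_le_of_finrank_le
      · rw [Submodule.span_le]
        rintro v (hv | hv)
        · rw [hv]; exact hlL
        · rw [Set.mem_singleton_iff.1 hv]; exact hmL
      · rw [finrank_pair hl0 hl2]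
        exact finrank_pair_le u w
    -- a vector in the perpendicular space outside
    obtain ⟨b, hb1, hb2⟩ := exists_out (Q := Q) hG.dim u w
    have hbp := hperp hb1.1 hb1.2
    have hcb : c⁻¹ • M.1 b ∉ Submodule.span F {u, w} := by
      intro h
      apply hMnot b hb2
      have := L.smul_mem c h
      rwa [smul_smul, mul_inv_cancel₀ hS.ne, one_smul] at this
    have hMbp : ∀ v ∈ L, polar Q v (c⁻¹ • M.1 b) = 0 := by
      intro v hv
      rw [polar_smul_right, hperpM b hbp v hv, smul_zero]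
    -- coordinates of `u`, `w`
    obtain ⟨α, β, huc⟩ := Submodule.mem_span_pair.1 (hLlm.symm ▸ huL)
    obtain ⟨γ, δ, hwc⟩ := Submodule.mem_span_pair.1 (hLlm.symm ▸ hwL)
    obtain ⟨b2, h1, h2, h3⟩ := exists_b hG.nondeg hu0 hind hcb (β * γ - α * δ)
    have hb2p := hperp h1 h2
    have hz := k1 _ (ss_mem hT hlL hbp)
    rw [conjE_ss hS (hT l hlL) (hbp l hlL)] at hz
    have h4 := k2 _ (ss_mem hT hlL hb2p) _ hz
    -- compute
    have e1 := ss_cj hT hlL hlL hb2p hbp
    have e2 : ss Q l (-(polar Q b2 b) • l) = 1 := by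
      have f1 : polar Q l (-(polar Q b2 b) • l) = 0 := by rw [polar_smul_right, hT.polar hlL hlL, smul_zero]
      rw [ss_eq (hT l hlL) f1]
      refine ext_E fun v => ?_
      rw [sg_apply, QuadraticMap.map_smul, hT l hlL, polar_smul_left]
      simp only [smul_eq_mul]
      show _ = v
      module
    rw [e2, mul_one] at e1
    have e3 := ss_cj hT hlL hmL hb2p hMbp
    have e4 : (ss Q l b * (ss Q m (c⁻¹ • M.1 b))⁻¹)⁻¹ *
        (ss Q l b2 * (ss Q l b * (ss Q m (c⁻¹ • M.1 b))⁻¹) * (ss Q l b2)⁻¹) =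
        ss Q m (c⁻¹ • M.1 b) * (ss Q m (c⁻¹ • M.1 b) * ss Q m (-(polar Q b2 (c⁻¹ • M.1 b)) • l))⁻¹ := by
      rw [← e3]
      have e5 : ss Q l b2 * (ss Q l b * (ss Q m (c⁻¹ • M.1 b))⁻¹) * (ss Q l b2)⁻¹ =
          (ss Q l b2 * ss Q l b * (ss Q l b2)⁻¹) * (ss Q l b2 * ss Q m (c⁻¹ • M.1 b) * (ss Q l b2)⁻¹)⁻¹ := by group
      rw [e5, e1]
      group
    rw [e4] at h4
    have hml : ∀ s : F, polar Q m (s • l) = 0 := fun s => by rw [polar_smul_right, hT.polar hmL hlL, smul_zero]
    rw [polar_comm Q b2, h3, ← ss_add (hT m hmL) (hMbp m hmL) (hml _), ← ss_neg (hT m hmL) (by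
      rw [polar_add_right, hMbp m hmL, hml, add_zero]), ← ss_add (hT m hmL) (hMbp m hmL) (by
      rw [polar_neg_right, polar_add_right, hMbp m hmL, hml, add_zero, neg_zero])] at h4
    have e6 : c⁻¹ • M.1 b + -(c⁻¹ • M.1 b + -(β * γ - α * δ) • l) = (β * γ - α * δ) • l := by module
    rw [e6] at h4
    have e7 : ss Q m ((β * γ - α * δ) • l) = ss Q u w := by
      rw [ss_eq hu huw, ss_eq (hT m hmL) (hml _)]
      refine ext_E fun v => ?_
      rw [sg_apply, sg_apply, QuadraticMap.map_smul, hT l hlL, hw, ← huc, ← hwc]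
      simp only [polar_add_left, polar_smul_left, smul_eq_mul]
      module
    rw [e7] at h4
    exact absurd h4 hgoal


end main

/-- two elements `t`, `t'` acting on the abelian group `f D` as `1 + a φ`, `1 + b φ` : if `{t, t'}` covers, then the
image of `φ` acts trivially -/
theorem two_abs {F : Type*} [Field F] [Finite F] {D L G Ω : Type*} [AddCommGroup D] [AddCommGroup L] [Module F L]
    [Group G] [MulAction G Ω] {f : D → G} (hf : ∀ v v', f (v + v') = f v * f v') {j : L → D}
    (hj : ∀ l l', j (l + l') = j l + j l') {φ : D → L} (hφ : Function.Surjective φ) {t t' : G} {a b : F}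
    (ha : a ≠ 0) (hb : b ≠ 0) (ht : ∀ v, t * f v = f (v + j (a • φ v)) * t)
    (ht' : ∀ v, t' * f v = f (v + j (b • φ v)) * t') (hcov : ∀ ω : Ω, t • ω = ω ∨ t' • ω = ω)
    (h1 : a = b → t = t') (ω : Ω) (l : L) : f (j l) • ω = ω := by
  have hf0 : f 0 = 1 := by
    have := hf 0 0
    rw [add_zero] at this
    exact mul_left_cancel (a := f 0) (by rw [mul_one]; exact this.symm)
  have hj0 : j 0 = 0 := by
    have := hj 0 0
    rw [add_zero] at this
    exact (left_eq_add.1 this)
  -- the claim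
  have main : ∀ (t t' : G) (a b : F), a ≠ 0 → b ≠ 0 → (∀ v, t * f v = f (v + j (a • φ v)) * t) →
      (∀ v, t' * f v = f (v + j (b • φ v)) * t') → (∀ ω : Ω, t • ω = ω ∨ t' • ω = ω) → (a = b → t = t') →
      ∀ ω : Ω, t • ω ≠ ω → ∀ l : L, f (j l) • ω = ω := by
    clear ht ht' hcov h1 t t' ha hb
    intro t t' a b ha hb ht ht' hcov h1 ω hω l
    have hab : a ≠ b := by
      rintro rfl
      apply hω
      rcases hcov ω with h | h
      · exact h
      · rw [h1 rfl]; exact h
    have hω' : t' • ω = ω := (hcov ω).resolve_left hω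
    let K : AddSubgroup L :=
      { carrier := {l | f (j l) • ω = ω}
        zero_mem' := by
          show f (j 0) • ω = ω
          rw [hj0, hf0, one_smul]
        add_mem' := by
          intro x y hx hy
          show f (j (x + y)) • ω = ω
          have hx' : f (j x) • ω = ω := hx
          have hy' : f (j y) • ω = ω := hy
          rw [hj, hf, mul_smul, hy', hx']
        neg_mem' := by
          intro x hx
          have hx' : f (j x) • ω = ω := hx
          show f (j (-x)) • ω = ω
          conv_lhs => rw [← hx']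
          rw [← mul_smul, ← hf, ← hj, neg_add_cancel, hj0, hf0, one_smul] }
    have hK : ∀ l, l ∈ K ↔ f (j l) • ω = ω := fun l => Iff.rfl
    by_contra hl
    have hcomm : ∀ v v', f v * f v' = f v' * f v := fun v v' => by rw [← hf, ← hf, add_comm]
    -- fixed points of `t'` and `t` in the orbit
    have key : ∀ v, b • φ v ∉ K → t • ω = f (j (-(a • φ v))) • ω := by
      intro v hv
      have e1 : t' • f v • ω ≠ f v • ω := by
        intro h
        apply hv
        rw [hK]
        rw [← mul_smul, ht', mul_smul, hω', hf, mul_smul] at h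
        have e2 : f v • f (j (b • φ v)) • ω = f v • ω := by
          rw [← mul_smul, hcomm (v) (j (b • φ v)), mul_smul] at *
          exact h
        exact smul_left_cancel _ e2
      have e3 := (hcov (f v • ω)).resolve_right e1
      rw [← mul_smul, ht, mul_smul, hf, mul_smul] at e3
      have e4 := smul_left_cancel _ e3
      have e5 : j (-(a • φ v)) + j (a • φ v) = 0 := by rw [← hj, neg_add_cancel, hj0]
      calc t • ω = f (j (-(a • φ v))) • f (j (a • φ v)) • t • ω := by
            rw [← mul_smul (f (j (-(a • φ v)))) (f (j (a • φ v))), ← hf, e5, hf0, one_smul]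
        _ = f (j (-(a • φ v))) • ω := by rw [e4]
    have hdiff : ∀ l1 l2, l1 ∉ K → l2 ∉ K → (a * b⁻¹) • (l1 - l2) ∈ K := by
      intro l1 l2 hl1 hl2
      obtain ⟨v1, hv1⟩ := hφ (b⁻¹ • l1)
      obtain ⟨v2, hv2⟩ := hφ (b⁻¹ • l2)
      have e1 := key v1 (by rw [hv1, smul_smul, mul_inv_cancel₀ hb, one_smul]; exact hl1)
      have e2 := key v2 (by rw [hv2, smul_smul, mul_inv_cancel₀ hb, one_smul]; exact hl2)
      rw [hv1, smul_smul] at e1
      rw [hv2, smul_smul] at e2
      rw [hK]
      have e3 : f (j (-((a * b⁻¹) • l2))) • ω = f (j (-((a * b⁻¹) • l1))) • ω := by rw [← e2, ← e1]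
      have e4 : (a * b⁻¹) • (l1 - l2) = (a * b⁻¹) • l1 + -((a * b⁻¹) • l2) := by
        rw [smul_sub, sub_eq_add_neg]
      rw [e4, hj, hf, mul_smul, e3, ← mul_smul, ← hf, ← hj, add_neg_cancel, hj0, hf0, one_smul]
    set c := a * b⁻¹ with hc
    have hc0 : c ≠ 0 := mul_ne_zero ha (inv_ne_zero hb)
    have hlK : l ∉ K := hl
    have hcK : ∀ k ∈ K, c • k ∈ K := by
      intro k hk
      have e1 := hdiff (l + k) l (fun h => hlK (by simpa using K.sub_mem h hk)) hlK
      rwa [add_sub_cancel_left] at e1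
    have hcinv : ∀ k, c • k ∈ K → k ∈ K := by
      intro k hk
      obtain ⟨n, hn, hcn⟩ := isOfFinOrder_iff_pow_eq_one.1 (isOfFinOrder_of_finite (Units.mk0 c hc0))
      have hcn' : c ^ n = 1 := by
        have := congrArg Units.val hcn
        simpa using this
      have e1 : ∀ m : ℕ, c ^ (m + 1) • k ∈ K := by
        intro m
        induction m with
        | zero => simpa using hk
        | succ m ih =>
          have := hcK _ ih
          rwa [smul_smul, ← pow_succ'] at this
      have e2 := e1 (n - 1)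
      rw [Nat.sub_add_cancel hn, hcn', one_smul] at e2
      exact e2
    have hc1 : c - 1 ≠ 0 := by
      intro h
      apply hab
      have h2 : a * b⁻¹ = 1 := sub_eq_zero.1 h
      calc a = a * b⁻¹ * b := by rw [mul_assoc, inv_mul_cancel₀ hb, mul_one]
        _ = b := by rw [h2, one_mul]
    -- `(c - 1) m ∈ K` for all `m`
    have hm : ∀ m, (c - 1) • m ∈ K := by
      intro m
      by_cases hmK : m ∈ K
      · rw [sub_smul, one_smul]
        exact K.sub_mem (hcK _ hmK) hmK
      · have e1 : c • m ∉ K := fun h => hmK (hcinv _ h)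
        have e2 := hcinv _ (hdiff _ _ e1 hmK)
        rwa [sub_smul, one_smul]
    apply hlK
    have := hm ((c - 1)⁻¹ • l)
    rwa [smul_smul, mul_inv_cancel₀ hc1, one_smul] at this
  have hmove : ∀ v, (∀ l, f (j l) • f v • ω = f v • ω) → ∀ l, f (j l) • ω = ω := by
    intro v h l
    have h2 := h l
    rw [← mul_smul, ← hf, add_comm, hf, mul_smul] at h2
    exact smul_left_cancel _ h2
  by_cases h2 : t • ω = ω
  · by_cases h3 : ∃ v, t • f v • ω ≠ f v • ω
    · obtain ⟨v, hv⟩ := h3
      exact hmove v (main t t' a b ha hb ht ht' hcov h1 _ hv) l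
    · push Not at h3
      obtain ⟨v, hv⟩ := hφ (a⁻¹ • l)
      have h4 := h3 v
      rw [← mul_smul, ht, hv, smul_smul, mul_inv_cancel₀ ha, one_smul, mul_smul, h2, hf, mul_smul] at h4
      exact smul_left_cancel _ h4
  · exact main t t' a b ha hb ht ht' hcov h1 ω h2 l

section box

variable {F V : Type*} [Field F] [Finite F] [AddCommGroup V] [Module F V] [FiniteDimensional F V]
  {Q : QuadraticForm F V} {G Ω : Type*} [Group G] [Finite G] [MulAction G Ω] [Nonempty Ω]
  {N : Subgroup G} {ρ : ↥(E Q) →* G}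

omit [Finite F] [FiniteDimensional F V] in
theorem span_smul_right (u w : V) {a : F} (ha : a ≠ 0) :
    Submodule.span F {u, a • w} = Submodule.span F {u, w} := by
  apply le_antisymm
  · rw [Submodule.span_le]
    rintro v (hv | hv)
    · rw [hv]; exact Submodule.subset_span (by simp)
    · rw [Set.mem_singleton_iff.1 hv]
      exact Submodule.smul_mem _ _ (Submodule.subset_span (by simp))
  · rw [Submodule.span_le]
    rintro v (hv | hv)
    · rw [hv]; exact Submodule.subset_span (by simp)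
    · rw [Set.mem_singleton_iff.1 hv]
      have h : a⁻¹ • a • w ∈ Submodule.span F {u, a • w} :=
        Submodule.smul_mem _ _ (Submodule.subset_span (by simp))
      rwa [smul_smul, inv_mul_cancel₀ ha, one_smul] at h

omit [Finite F] [FiniteDimensional F V] [Finite G] in
theorem ss_comm_U {u w : V} (hu : Q u = 0) (huw : polar Q u w = 0) {g : ↥(E Q)}
    (hg : g ∈ U Q (Submodule.span F {u, w})) : ρ g * ρ (ss Q u w) = ρ (ss Q u w) * ρ g := by
  rw [ss_eq hu huw, ← map_mul, ← map_mul]
  congr 1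
  have e1 : (g : V ≃ₗ[F] V) u = u := hg.1 u (Submodule.subset_span (by simp))
  have e2 : (g : V ≃ₗ[F] V) w = w := hg.1 w (Submodule.subset_span (by simp))
  have h1 := Cfsg.Agent.AutOrth.SemiSim.conj_sg g hu huw (by rw [e1]; exact hu) (by rw [e1, e2]; exact huw)
  rw [mul_inv_eq_iff_eq_mul] at h1
  rw [h1]
  congr 1
  exact sg_congr _ _ _ _ e1 e2

omit [Finite F] [FiniteDimensional F V] [Finite G] in
theorem ss_ne (hG : Good Q) (hρ : _root_.Cfsg.Agent.H93.RC.Rep Q N ρ) {u w : V} (hu : Q u = 0) (huw : polar Q u w = 0) (hu0 : u ≠ 0)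
    (hind : ∀ a : F, w ≠ a • u) : ρ (ss Q u w) ≠ 1 := by
  rw [ss_eq hu huw]
  intro h1
  have h2 : sg Q u w hu huw ∈ Subgroup.center ↥(E Q) := by
    rw [← hρ.ker, MonoidHom.mem_ker]; exact h1
  obtain ⟨a, ha⟩ := center_scalar hG h2
  obtain ⟨b, hb⟩ := Cfsg.Agent.AutOrth.SemiSim.mem_line_of_scalar hG.nondeg hu hu0 huw ha
  exact hind b hb

/-- **LR1**: a long root element `t` of the plane `L = ⟨u, w⟩` and an element `x` preserving `L`, not in the long root
group of `L`, of any order -/
theorem box_LR1 (hG : Good Q) (hE : Env G Ω N) (hρ : _root_.Cfsg.Agent.H93.RC.Rep Q N ρ) {x : G} {M : Gam Q} (hl : Lf ρ x M) {u w : V}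
    (hu : Q u = 0) (hw : Q w = 0) (huw : polar Q u w = 0) (hu0 : u ≠ 0) (hind : ∀ a : F, w ≠ a • u)
    (hL : ∀ v ∈ Submodule.span F {u, w}, M.1 v ∈ Submodule.span F {u, w})
    (hx : ∀ a : F, x ≠ ρ (ss Q u (a • w)))
    (hcov : ∀ ω : Ω, ρ (ss Q u w) • ω = ω ∨ x • ω = ω) : False := by
  rcases lr_mem_or hG hl hu hw huw hu0 hind hL with h | ⟨a, d, hd, hM⟩
  · rw [← ss_eq hu huw] at h
    refine H380.RC.not_cov_one hE (U := (U Q (Submodule.span F {u, w})).map ρ) hcov ?_
      (ss_ne hG hρ hu huw hu0 hind) h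
    rintro _ ⟨g, hg, rfl⟩
    exact ss_comm_U hu huw hg
  · apply hx a
    have h1 : Lf ρ (x * (ρ (ss Q u (a • w)))⁻¹) (M * (tg Q (ss Q u (a • w)))⁻¹) := hl.mul (Lf.tg _).inv
    have h2 : x * (ρ (ss Q u (a • w)))⁻¹ = 1 := by
      rw [h1.eq_one_iff hG hE hρ]
      refine ⟨d, hd, fun v => ?_⟩
      show M.1 ((tg Q (ss Q u (a • w)))⁻¹.1 v) = d • v
      rw [hM, ← tg_apply]
      congr 1
      exact Cfsg.Agent.ClassicalGeometry.OrthSemi.apply_inv _ _
    exact mul_inv_eq_one.1 h2

/-- `{t, t'}` in the same long root group is no cover -/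
theorem box_LR2' (hG : Good Q) (hE : Env G Ω N) (hρ : _root_.Cfsg.Agent.H93.RC.Rep Q N ρ) {u w : V}
    (hu : Q u = 0) (hw : Q w = 0) (huw : polar Q u w = 0) (hu0 : u ≠ 0) (hind : ∀ a : F, w ≠ a • u)
    {e : V} (he : Q e = 0) (heu : polar Q e u = 0) (hew : polar Q e w = 0) (heL : e ∉ Submodule.span F {u, w})
    {a b : F} (ha : a ≠ 0) (hb : b ≠ 0)
    (hcov : ∀ ω : Ω, ρ (ss Q u (a • w)) • ω = ω ∨ ρ (ss Q u (b • w)) • ω = ω) : False := by
  set L := Submodule.span F {u, w} with hLdef
  have hT : TS Q L := ts_pair hu hw huw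
  have huL : u ∈ L := Submodule.subset_span (by simp)
  have hwL : w ∈ L := Submodule.subset_span (by simp)
  have he0 : e ≠ 0 := by rintro rfl; exact heL L.zero_mem
  have hpe : ∀ l ∈ L, polar Q e l = 0 := by
    intro l hl
    obtain ⟨x, y, rfl⟩ := Submodule.mem_span_pair.1 hl
    rw [polar_add_right, polar_smul_right, polar_smul_right, heu, hew]
    simp
  have hwe : ∀ x : F, w ≠ x • e := by
    intro x hx
    have hx0 : x ≠ 0 := by
      rintro rfl
      exact hind 0 (by rw [hx, zero_smul, zero_smul])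
    apply heL
    have : e = x⁻¹ • w := by rw [hx, smul_smul, inv_mul_cancel₀ hx0, one_smul]
    rw [this]; exact L.smul_mem _ hwL
  have hue : ∀ x : F, u ≠ x • e := by
    intro x hx
    have hx0 : x ≠ 0 := by
      rintro rfl
      exact hu0 (by rw [hx, zero_smul])
    apply heL
    have : e = x⁻¹ • u := by rw [hx, smul_smul, inv_mul_cancel₀ hx0, one_smul]
    rw [this]; exact L.smul_mem _ huL
  have hu' : u ∉ Submodule.span F {e, w} := by
    intro h
    obtain ⟨x, y, hxy⟩ := Submodule.mem_span_pair.1 h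
    by_cases hx : x = 0
    · rw [hx, zero_smul, zero_add] at hxy
      exact ind_symm hu0 hind y hxy.symm
    · apply heL
      have : e = x⁻¹ • (u - y • w) := by
        rw [← hxy, add_sub_cancel_right, smul_smul, inv_mul_cancel₀ hx, one_smul]
      rw [this]; exact L.smul_mem _ (L.sub_mem huL (L.smul_mem _ hwL))
  have hw' : w ∉ Submodule.span F {e, u} := by
    intro h
    obtain ⟨x, y, hxy⟩ := Submodule.mem_span_pair.1 h
    by_cases hx : x = 0
    · rw [hx, zero_smul, zero_add] at hxy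
      exact hind y hxy.symm
    · apply heL
      have : e = x⁻¹ • (w - y • u) := by
        rw [← hxy, add_sub_cancel_right, smul_smul, inv_mul_cancel₀ hx, one_smul]
      rw [this]; exact L.smul_mem _ (L.sub_mem hwL (L.smul_mem _ huL))
  let D : Submodule F V := LinearMap.ker (polarBilin Q e)
  have hD : ∀ v : D, polar Q e v = 0 := fun v => LinearMap.mem_ker.1 v.2
  let f : D → G := fun v => ρ (ss Q e v)
  let j : L → D := fun l => ⟨l, LinearMap.mem_ker.2 (hpe l l.2)⟩
  let φ : D → L := fun v => ⟨polar Q u v • w - polar Q w v • u, L.sub_mem (L.smul_mem _ hwL) (L.smul_mem _ huL)⟩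
  have hφ : Function.Surjective φ := by
    rintro ⟨l, hl⟩
    obtain ⟨x, y, rfl⟩ := Submodule.mem_span_pair.1 hl
    obtain ⟨v1, a1, a2, a3⟩ := exists_b hG.nondeg he0 hwe hu' y
    obtain ⟨v2, b1, b2, b3⟩ := exists_b hG.nondeg he0 hue hw' (-x)
    refine ⟨⟨v1 + v2, LinearMap.mem_ker.2 ?_⟩, Subtype.ext ?_⟩
    · show polar Q e (v1 + v2) = 0
      rw [polar_add_right, a1, b1, add_zero]
    · show polar Q u (v1 + v2) • w - polar Q w (v1 + v2) • u = _
      rw [polar_add_right, polar_add_right, a2, a3, b2, b3]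
      module
  have hact : ∀ (a : F) (v : D), ρ (ss Q u (a • w)) * f v = f (v + j (a • φ v)) * ρ (ss Q u (a • w)) := by
    intro a v
    have e1 : polar Q u (a • w) = 0 := by rw [polar_smul_right, huw, smul_zero]
    have e2 : (sg Q u (a • w) hu e1 : V ≃ₗ[F] V) e = e := by
      rw [sg_apply, polar_comm Q u e, heu, polar_smul_left, polar_comm Q w e, hew]
      simp only [_root_.zero_smul, _root_.add_zero, _root_.smul_eq_mul, _root_.MulZeroClass.mul_zero, _root_.sub_zero]
    have e3 : (sg Q u (a • w) hu e1 : V ≃ₗ[F] V) v = v + a • (polar Q u v • w - polar Q w v • u) := by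
      rw [sg_apply, QuadraticMap.map_smul, hw, polar_smul_left]
      simp only [smul_eq_mul]
      module
    have e4 : polar Q e (v + a • (polar Q u v • w - polar Q w v • u)) = 0 := by
      rw [polar_add_right, hD v, polar_smul_right, polar_sub_right, polar_smul_right, polar_smul_right, heu, hew]
      simp
    have e5 := Cfsg.Agent.AutOrth.SemiSim.conj_sg (sg Q u (a • w) hu e1) he (hD v) (by rw [e2]; exact he)
      (by rw [e2, e3]; exact e4)
    rw [mul_inv_eq_iff_eq_mul] at e5
    show ρ (ss Q u (a • w)) * ρ (ss Q e v) = ρ (ss Q e (v + a • (polar Q u v • w - polar Q w v • u))) *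
      ρ (ss Q u (a • w))
    rw [ss_eq hu e1, ss_eq he (hD v), ss_eq he e4, ← map_mul, ← map_mul, e5]
    congr 2
    exact sg_congr _ _ _ _ e2 e3
  have hmain := two_abs (Ω := Ω) (f := f) (j := j) (φ := φ) (t := ρ (ss Q u (a • w))) (t' := ρ (ss Q u (b • w)))
    (fun v v' => by
      show ρ (ss Q e (v + v')) = ρ (ss Q e v) * ρ (ss Q e v')
      rw [ss_add he (hD v) (hD v'), map_mul])
    (fun l l' => rfl) hφ ha hb (hact a) (hact b) hcov (fun h => by rw [h])
  exact hE.not_all (ss_ne hG hρ he heu he0 hue) fun ω => hmain ω ⟨u, huL⟩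

/-- **LR2**: two long root elements of the same long root group, and commuting `p'`-elements preserving the plane -/
theorem box_LR2 (hG : Good Q) (hE : Env G Ω N) (hρ : _root_.Cfsg.Agent.H93.RC.Rep Q N ρ) {p : ℕ} [CharP F p]
    {ι : Type*} [Finite ι] {y : ι → G} {M : ι → Gam Q} {r : ι → ℕ} (hl : ∀ i, Lf ρ (y i) (M i))
    (hr : ∀ i, (r i).Prime) (hrp : ∀ i, r i ≠ p) (hy : ∀ i, y i ^ r i = 1) (hy1 : ∀ i, y i ≠ 1)
    (hc : ∀ i j, y i * y j = y j * y i) {u w : V} (hu : Q u = 0) (hw : Q w = 0)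
    (huw : polar Q u w = 0) (hu0 : u ≠ 0) (hind : ∀ a : F, w ≠ a • u)
    (hL : ∀ i, ∀ v ∈ Submodule.span F {u, w}, (M i).1 v ∈ Submodule.span F {u, w})
    {e : V} (he : Q e = 0) (heu : polar Q e u = 0) (hew : polar Q e w = 0) (heL : e ∉ Submodule.span F {u, w})
    {a b : F} (ha : a ≠ 0) (hb : b ≠ 0)
    (hcov : ∀ ω : Ω, ρ (ss Q u (a • w)) • ω = ω ∨ ρ (ss Q u (b • w)) • ω = ω ∨ ∃ i, y i • ω = ω) : False := by
  have hp : p.Prime := CharP.char_is_prime F p
  have hpf : Fact p.Prime := ⟨hp⟩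
  refine box_LR2' hG hE hρ hu hw huw hu0 hind he heu hew heL ha hb ?_
  intro ω
  set L := Submodule.span F {u, w} with hLdef
  have hpg : IsPGroup p ((U Q L).map ρ) := (isPGroup_U p _).map ρ
  have hcomU : ∀ (a : F), ∀ g ∈ (U Q L).map ρ, g * ρ (ss Q u (a • w)) = ρ (ss Q u (a • w)) * g := by
    rintro a _ ⟨g, hg, rfl⟩
    have e1 : polar Q u (a • w) = 0 := by rw [polar_smul_right, huw, smul_zero]
    rw [ss_eq hu e1, ← map_mul, ← map_mul]
    congr 1
    have e2 : (g : V ≃ₗ[F] V) u = u := hg.1 u (Submodule.subset_span (by simp))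
    have e3 : (g : V ≃ₗ[F] V) (a • w) = a • w := hg.1 _ (L.smul_mem _ (Submodule.subset_span (by simp)))
    have h1 := Cfsg.Agent.AutOrth.SemiSim.conj_sg g hu e1 (by rw [e2]; exact hu) (by rw [e2, e3]; exact e1)
    rw [mul_inv_eq_iff_eq_mul] at h1
    rw [h1]
    congr 1
    exact sg_congr _ _ _ _ e2 e3
  have hloc := H380.RC.lr_loc (x := y) hr hy hc (U := (U Q L).map ρ)
    (P := fun ω : Ω => ρ (ss Q u (a • w)) • ω = ω ∨ ρ (ss Q u (b • w)) • ω = ω) ?_ ?_ ?_ (Or.inr ⟨hpg.isNilpotent, ?_⟩) ω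
  · rcases hloc with h | ⟨i, hi⟩
    · exact h
    · left
      have e0 : ∀ v ∈ Submodule.span F {u, a • w}, (M i).1 v ∈ Submodule.span F {u, a • w} := by
        rw [span_smul_right u w ha]
        exact hL i
      have e1 : polar Q u (a • w) = 0 := by rw [polar_smul_right, huw, smul_zero]
      have e2 : Q (a • w) = 0 := by rw [QuadraticMap.map_smul, hw, smul_zero]
      have e3 : ∀ x : F, a • w ≠ x • u := by
        intro x hx
        exact hind (a⁻¹ * x) (by rw [mul_smul, ← hx, smul_smul, inv_mul_cancel₀ ha, one_smul])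
      have e4 := lr_mem hG (hl i) hu e2 e1 hu0 e3 e0
        (fun h => hy1 i (((hl i).eq_one_iff hG hE hρ).2 h)) (hr i) (hrp i) ((hl i).pow_scal hG hρ (hy i))
      rw [← ss_eq hu e1] at e4
      rw [span_smul_right u w ha] at e4
      exact H380.RC.comm_le hi e4
  · rintro g hg ω (h | h)
    · left
      rw [← mul_smul, ← hcomU a g hg, mul_smul] at h
      exact smul_left_cancel _ h
    · right
      rw [← mul_smul, ← hcomU b g hg, mul_smul] at h
      exact smul_left_cancel _ h
  · intro ω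
    rcases hcov ω with h | h | h
    · exact Or.inl (Or.inl h)
    · exact Or.inl (Or.inr h)
    · exact Or.inr h
  · rintro i _ ⟨g, hg, rfl⟩
    rw [hl i g]
    exact ⟨_, conjE_mem_U (hL i) hg, rfl⟩
  · intro i
    obtain ⟨n, hn⟩ := IsPGroup.iff_card.1 hpg
    rw [hn]
    exact Nat.Coprime.pow_right _ ((Nat.coprime_primes (hr i) hp).2 (hrp i))

end box

end Cfsg.Agent.H106.RC.LrTwo
end

-- part: H195/RC/TwK2
section
/-!
# S3510, triality of type iii, `k = 2`: `{x₁, u}`, `u` of order `p` (helper195)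

1. `u` fixes an absolute point `e` and a vector `y` of `Π / F e`; `b = siegel e (t y)` commutes with `u` and
   `x₁ b x₁⁻¹ = siegel e (φ t y₁)`, `y₁ ∈ Π`: `{d, u}` is a cover, `d = b⁻¹ x₁ b x₁⁻¹ = siegel e w`, `w ∈ Π`.
2. `box_LR1`: `u` is in the long root group of `⟨e, w⟩`.
3. `z = [siegel e b₀, x₁]`, `b₀ ⟂ e`, `(b₀, w) = 1`, is not trivial on `⟨e, w⟩`: `u ∈ [C(u), x₁]`.
-/

set_option autoImplicit false
set_option linter.unusedSectionVars false
open Cfsg

namespace Cfsg.Agent.H195.RC

open Module QuadraticMap Cfsg.Agent.LieClassical.OrthCore Cfsg.Agent.LieClassical.OrthTrans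
  Cfsg.Agent.LieClassical.OrthSimple Cfsg.Agent.ClassicalGeometry.OrthAut1
  Cfsg.Agent.ClassicalGeometry.OrthSemi
  Cfsg.Agent.LieClassical.QuadForms 
  Cfsg.Agent.ClassicalGeometry.TrialityOct Cfsg.Agent.ClassicalGeometry.Triality
  Cfsg.Agent.ClassicalGeometry.TrialitySpaces Cfsg.Agent.H198.TriBase Cfsg.Agent.H198.TriAut
  Cfsg.Agent.H206.Balance Cfsg.Agent.H198.TriDia Cfsg.Agent.H106.RC Cfsg.Agent.H93.RC Cfsg.Agent.H566.RC
open Cfsg.Agent.H297.RC (ss ss_eq ss_add ss_neg ss_zero conjE_ss)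
open Cfsg.Agent.H106.RC.LrTwo (lr_mem_or box_LR1 ss_comm_U)

universe u v w

section

variable {F : Type u} [Field F] {φ : F ≃+* F} {a b : V8 F}

theorem sE_eq (ha : plusForm 4 F a = 0) (hab : QuadraticMap.polar (plusForm 4 F) a b = 0) :
    sE ha hab = ss (plusForm 4 F) a b := by
  rw [ss_eq ha hab]; rfl

theorem ss_apply (ha : plusForm 4 F a = 0) (hab : QuadraticMap.polar (plusForm 4 F) a b = 0) (x : V8 F) :
    (ss (plusForm 4 F) a b : V8 F ≃ₗ[F] V8 F) x = x + QuadraticMap.polar (plusForm 4 F) a x • b -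
    QuadraticMap.polar (plusForm 4 F) b x • a - (plusForm 4 F b * QuadraticMap.polar (plusForm 4 F) a x) • a := by
  rw [← sE_eq ha hab, sE_apply]

/-- `siegel e (c e) = 1` -/
theorem ss_self (ha : plusForm 4 F a = 0) (c : F) : ss (plusForm 4 F) a (c • a) = 1 := by
  have haa : QuadraticMap.polar (plusForm 4 F) a a = 0 := by rw [QuadraticMap.polar_self, ha, smul_zero]
  have hab : QuadraticMap.polar (plusForm 4 F) a (c • a) = 0 := by rw [polar_smul_right, haa, smul_zero]
  apply Subtype.ext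
  apply LinearEquiv.ext
  intro x
  rw [ss_apply ha hab, polar_smul_left, QuadraticMap.map_smul, ha]
  change _ = x
  simp only [smul_eq_mul]
  module

variable {G : Type v} {Ω : Type w} [Group G] [MulAction G Ω] {N : Subgroup G} {κ : P8 F →* G} {x₁ : G}

/-- conjugation of a long root element by `x₁` -/
theorem conj_ss (h : ∀ a : F, φ (φ (φ a)) = a) (hG : _root_.Cfsg.Agent.LieClassical.OrthTrans.Good (plusForm 4 F)) (h1 : La κ x₁ (xt hG (fG φ)))
    (ha : plusForm 4 F a = 0) (hb : plusForm 4 F b = 0) (hab : QuadraticMap.polar (plusForm 4 F) a b = 0) :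
    Lf (up κ) (x₁ * up κ (ss (plusForm 4 F) a b) * x₁⁻¹) (RG h ha hab) := by
  rw [← La.lf]
  have h2 : La κ (up κ (ss (plusForm 4 F) a b)) (Psi _ (tg _ (ss (plusForm 4 F) a b))) := La.lf.2 (Lf.tg _)
  have h3 := (h1.mul h2).mul h1.inv
  rw [← sE_eq ha hab] at h3 ⊢
  rwa [xt_siegel h ha hb hab hG] at h3

/-- the image under `x₁` of `siegel e y`, `y ∈ Π` -/
theorem conj_ss_inP (h : ∀ a : F, φ (φ (φ a)) = a) (hG : _root_.Cfsg.Agent.LieClassical.OrthTrans.Good (plusForm 4 F)) (hE : Env G Ω N)
    (hκ : Rp (plusForm 4 F) N κ) (h1 : La κ x₁ (xt hG (fG φ))) {e y f : V8 F} (he : e ≠ 0) (hee : tw φ e e = 0)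
    (hy : InP φ e y) (hf : QuadraticMap.polar (plusForm 4 F) e f = 1) :
    x₁ * up κ (ss (plusForm 4 F) e y) * x₁⁻¹ = up κ (ss (plusForm 4 F) e (Rw φ e y f)) := by
  have hQe := norm_of_abs h hee
  have hey := hy.polar h he hee
  have hQy := hy.norm h he
  have hR := Rw_inP h (f := f) hee hy hey
  have h2 := conj_ss h hG h1 hQe hQy hey
  have h3 : Lf (up κ) (up κ (ss (plusForm 4 F) e (Rw φ e y f))) (tg _ (ss (plusForm 4 F) e (Rw φ e y f))) := Lf.tg _
  have h4 : RG h hQe hey = tg _ (ss (plusForm 4 F) e (Rw φ e y f)) := by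
    apply Subtype.ext
    ext1 v
    rw [tg_apply, ss_apply hQe (hR.polar h he hee), hR.norm h he, zero_mul, zero_smul, sub_zero]
    change v + Rw φ e y v = _
    rw [Rw_siegel h he hee hy hf v]
    abel
  rw [h4, ← La.lf] at h2
  rw [← La.lf] at h3
  exact h2.eq hE hκ h3

end

section main

variable {F : Type u} [Field F] [Finite F] {φ : F ≃+* F}
variable {G : Type v} {Ω : Type w} [Group G] [Finite G] [MulAction G Ω] [Nonempty Ω] {N : Subgroup G}
  {κ : P8 F →* G} {x₁ u : G}

/-- step 3: `u` in the long root group of `⟨e, w⟩`, `w ∈ Π` -/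
theorem not_cov_root (h : ∀ a : F, φ (φ (φ a)) = a) (hG : _root_.Cfsg.Agent.LieClassical.OrthTrans.Good (plusForm 4 F)) (hE : Env G Ω N)
    (hκ : Rp (plusForm 4 F) N κ) (h1 : La κ x₁ (xt hG (fG φ))) {e w : V8 F} (he : e ≠ 0) (hee : tw φ e e = 0)
    (hw : InP φ e w) (hwe : ∀ t : F, w ≠ t • e)
    (hcov : ∀ ω : Ω, up κ (ss (plusForm 4 F) e w) • ω = ω ∨ x₁ • ω = ω) : False := by
  have hQe := norm_of_abs h hee
  have hew := hw.polar h he hee
  have hQw := hw.norm h he
  have hρ := hκ.rep
  set u : G := up κ (ss (plusForm 4 F) e w) with hu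
  -- the vector `b₀`
  obtain ⟨b₀, hb1, hb2, hb3⟩ : ∃ b₀ : V8 F, plusForm 4 F b₀ = 0 ∧ QuadraticMap.polar (plusForm 4 F) e b₀ = 0 ∧
      QuadraticMap.polar (plusForm 4 F) w b₀ = 1 := by
    obtain ⟨c, hc1, hc2⟩ : ∃ c : V8 F, QuadraticMap.polar (plusForm 4 F) e c = 0 ∧
        QuadraticMap.polar (plusForm 4 F) w c ≠ 0 := by
      by_contra hcon
      push Not at hcon
      obtain ⟨t, ht⟩ := mem_of_perp he (v := w) fun c hc => by rw [polar_comm]; exact hcon c hc
      exact hwe t ht
    set c' := (QuadraticMap.polar (plusForm 4 F) w c)⁻¹ • c with hc'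
    have k1 : QuadraticMap.polar (plusForm 4 F) e c' = 0 := by rw [hc', polar_smul_right, hc1, smul_zero]
    have k2 : QuadraticMap.polar (plusForm 4 F) w c' = 1 := by
      rw [hc', polar_smul_right, smul_eq_mul, inv_mul_cancel₀ hc2]
    clear_value c'
    refine ⟨c' + (- plusForm 4 F c') • w, ?_, ?_, ?_⟩
    · rw [norm_add, QuadraticMap.map_smul, hQw, polar_smul_right, polar_comm _ c' w, k2]
      simp
    · rw [polar_add_right, k1, polar_smul_right, hew, smul_zero, add_zero]
    · rw [polar_add_right, k2, polar_smul_right, QuadraticMap.polar_self, hQw, smul_zero, smul_zero, add_zero]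
  set s : G := up κ (ss (plusForm 4 F) e b₀) with hs
  have hsu : s * u = u * s := by
    rw [hs, hu, ← map_mul, ← map_mul, ← ss_add hQe hb2 hew, ← ss_add hQe hew hb2, add_comm]
  set H : Subgroup G := Subgroup.centralizer {u} with hH
  have hmem : ∀ c : G, c ∈ H ↔ c * u = u * c := fun c => Subgroup.mem_centralizer_singleton_iff
  have hz : s * x₁ * s⁻¹ * x₁⁻¹ ∈ H380.RC.cmm H x₁ := H380.RC.mem_cmm ((hmem s).2 hsu)
  have hLz : Lf (up κ) (s * x₁ * s⁻¹ * x₁⁻¹) (tg _ (ss (plusForm 4 F) e b₀) * (RG h hQe hb2)⁻¹) := by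
    have e1 : s * x₁ * s⁻¹ * x₁⁻¹ = s * (x₁ * s * x₁⁻¹)⁻¹ := by group
    rw [e1]
    exact (Lf.tg _).mul (conj_ss h hG h1 hQe hb1 hb2).inv
  -- action on the plane
  have ri : ∀ v, Rw φ e b₀ v = 0 → (RG h hQe hb2)⁻¹.1 v = v := by
    intro v hv
    change v - Rw φ e b₀ v = v
    rw [hv, sub_zero]
  have ae : (tg _ (ss (plusForm 4 F) e b₀) * (RG h hQe hb2)⁻¹).1 e = e := by
    change (tg _ (ss (plusForm 4 F) e b₀)).1 ((RG h hQe hb2)⁻¹.1 e) = e
    rw [ri e (by unfold Rw; rw [hee, tw_zero_left h]), tg_apply, ss_apply hQe hb2, QuadraticMap.polar_self, hQe,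
      smul_zero, polar_comm _ b₀ e, hb2]
    simp
  have aw : (tg _ (ss (plusForm 4 F) e b₀) * (RG h hQe hb2)⁻¹).1 w = w - e := by
    change (tg _ (ss (plusForm 4 F) e b₀)).1 ((RG h hQe hb2)⁻¹.1 w) = w - e
    rw [ri w (by unfold Rw; rw [hw.left, tw_zero_left h]), tg_apply, ss_apply hQe hb2, hew, polar_comm _ b₀ w, hb3]
    simp
  obtain ⟨σM, cM, hMS⟩ := (tg _ (ss (plusForm 4 F) e b₀) * (RG h hQe hb2)⁻¹).2
  have heL : e ∈ Submodule.span F {e, w} := Submodule.subset_span (by simp)
  have hwL : w ∈ Submodule.span F {e, w} := Submodule.subset_span (by simp)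
  have hL : ∀ v ∈ Submodule.span F {e, w},
      (tg _ (ss (plusForm 4 F) e b₀) * (RG h hQe hb2)⁻¹).1 v ∈ Submodule.span F {e, w} := by
    intro v hv
    obtain ⟨p, q, rfl⟩ := Submodule.mem_span_pair.1 hv
    rw [hMS.add, hMS.smul, hMS.smul, ae, aw]
    exact add_mem (Submodule.smul_mem _ _ heL) (Submodule.smul_mem _ _ (sub_mem hwL heL))
  rcases lr_mem_or hG hLz hQe hQw hew he hwe hL with h2 | ⟨a, d, hd, hM⟩
  · have h3 : H380.RC.cmm ((U (plusForm 4 F) (Submodule.span F {e, w})).map (up κ)) (s * x₁ * s⁻¹ * x₁⁻¹) ≤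
        H380.RC.cmm H x₁ := by
      conv_lhs => rw [H380.RC.cmm]
      rw [Subgroup.closure_le]
      rintro _ ⟨c, ⟨k, hk, rfl⟩, rfl⟩
      exact H380.RC.cmm_comm ((hmem _).2 (ss_comm_U hQe hew hk)) hz
    have h4 : u ∈ H380.RC.cmm H x₁ := by
      rw [hu, ss_eq hQe hew]
      exact h3 h2
    refine H380.RC.not_cov_one hE (x := x₁) (y := u) (U := H) hcov (fun c hc => (hmem c).1 hc) ?_ h4
    exact H106.RC.LrTwo.ss_ne hG hρ hQe hew he hwe
  · have haw : QuadraticMap.polar (plusForm 4 F) e (a • w) = 0 := by rw [polar_smul_right, hew, smul_zero]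
    have h3 := hM e
    have h4 := hM w
    rw [ae, ss_apply hQe haw, QuadraticMap.polar_self, hQe, polar_smul_left, polar_comm _ w e, hew] at h3
    rw [aw, ss_apply hQe haw, hew, polar_smul_left, QuadraticMap.polar_self, hQw] at h4
    have h5 : (1 - d) • e = 0 := by
      rw [sub_smul, one_smul, sub_eq_zero]
      simpa only [_root_.nsmul_zero, _root_.zero_smul, _root_.add_zero, _root_.smul_eq_mul, _root_.MulZeroClass.mul_zero, _root_.sub_zero] using h3
    have h6 : d = 1 := (sub_eq_zero.1 ((smul_eq_zero.1 h5).resolve_right he)).symm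
    rw [h6] at h4
    have h7 : w - e = w := by simpa using h4
    exact he (by simpa using h7)

/-- **`k = 2`** -/
theorem core (h : ∀ a : F, φ (φ (φ a)) = a) (hφ : ∃ t, φ t ≠ t) (hG : _root_.Cfsg.Agent.LieClassical.OrthTrans.Good (plusForm 4 F)) (hE : Env G Ω N)
    (hκ : Rp (plusForm 4 F) N κ) (h1 : La κ x₁ (xt hG (fG φ))) {M : G8 F} (hu : Lf (up κ) u M)
    (hMs : IsSS (plusForm 4 F) (RingEquiv.refl F) 1 M.1) {g : V8 F ≃ₗ[F] V8 F} (hMg : ∀ v, M.1 v = g v)
    (hg : Au3 φ g) {p : ℕ} [Fact p.Prime] [CharP F p] (hgp : g ^ p = 1) (hg1 : g ≠ 1)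
    (hcov : ∀ ω : Ω, x₁ • ω = ω ∨ u • ω = ω) : False := by
  obtain ⟨e, he, hee, hge⟩ := hg.exists_e h hgp hg1
  obtain ⟨y, hy, hye, t₀, hgy⟩ := hg.exists_y h hgp he hee hge
  obtain ⟨f, hf⟩ := exists_f he
  have hQe := norm_of_abs h hee
  have hey := hy.polar h he hee
  have hQy := hy.norm h he
  have hρ := hκ.rep
  set y₁ := Rw φ e y f with hy₁
  have hy1 : InP φ e y₁ := Rw_inP h hee hy hey
  -- action of `g` on `y₁`
  have hgy1 : ∃ c : F, g y₁ = y₁ + c • e := by
    refine ⟨-QuadraticMap.polar (plusForm 4 F) y₁ (g f), ?_⟩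
    have e1 : g y₁ = Rw φ e y (g f) := by
      rw [hy₁]
      unfold Rw
      rw [hg.mul, hg.mul, hge, hgy, tw_add_right h, tw_smul_right h, tw_tw h, hQe, map_zero, zero_smul, smul_zero,
        add_zero]
    have e2 := Rw_siegel h he hee hy hf (g f)
    have e3 : QuadraticMap.polar (plusForm 4 F) e (g f) = 1 := by
      nth_rewrite 1 [← hge]
      rw [hg.polar, hf]
    rw [e3, one_smul] at e2
    rw [e1, e2, hy₁]
    module
  -- the scalar `t`
  obtain ⟨t, ht⟩ : ∃ t : F, ∀ c : F, φ t • y₁ + (-t) • y ≠ c • e := by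
    by_contra hcon
    push Not at hcon
    obtain ⟨c, hc⟩ := hcon 1
    obtain ⟨t, ht⟩ := hφ
    obtain ⟨c', hc'⟩ := hcon t
    rw [map_one, one_smul] at hc
    have e1 : y₁ = y + c • e := by rw [← hc]; module
    rw [e1] at hc'
    have e2 : (φ t - t) • y = (c' - φ t * c) • e := by
      rw [sub_smul c', ← hc']
      module
    have hne : φ t - t ≠ 0 := sub_ne_zero.2 ht
    apply hye ((φ t - t)⁻¹ * (c' - φ t * c))
    rw [mul_smul, ← e2, smul_smul, inv_mul_cancel₀ hne, one_smul]
  set w := φ t • y₁ + (-t) • y with hw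
  have hwP : InP φ e w := (hy1.smul h _).add h (hy.smul h _)
  have hgw : ∃ c : F, g w = w + c • e := by
    obtain ⟨c, hc⟩ := hgy1
    refine ⟨φ t * c + (-t) * t₀, ?_⟩
    rw [hw, map_add, map_smul, map_smul, hc, hgy]
    module
  have hMe : M.1 e = e := by rw [hMg, hge]
  -- `b` and its conjugate
  have hb1 : x₁ * up κ (ss (plusForm 4 F) e (t • y)) * x₁⁻¹ = up κ (ss (plusForm 4 F) e (φ t • y₁)) := by
    rw [conj_ss_inP h hG hE hκ h1 he hee (hy.smul h t) hf]
    congr 2
    rw [hy₁]
    unfold Rw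
    rw [tw_smul_right h]
  have hbu : up κ (ss (plusForm 4 F) e (t • y)) * u = u * up κ (ss (plusForm 4 F) e (t • y)) := by
    have hty : QuadraticMap.polar (plusForm 4 F) e (t • y) = 0 := by rw [polar_smul_right, hey, smul_zero]
    have e1 := hu (ss (plusForm 4 F) e (t • y))
    rw [conjE_ss hMs hQe hty, hMe, inv_one, one_smul, hMg, map_smul, hgy, smul_add, smul_smul,
      ss_add hQe hty (by rw [polar_smul_right, QuadraticMap.polar_self, hQe, smul_zero, smul_zero]), ss_self hQe,
      mul_one, mul_inv_eq_iff_eq_mul] at e1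
    exact e1.symm
  have hd : (up κ (ss (plusForm 4 F) e (t • y)))⁻¹ * (x₁ * up κ (ss (plusForm 4 F) e (t • y)) * x₁⁻¹) =
      up κ (ss (plusForm 4 F) e w) := by
    have hty : QuadraticMap.polar (plusForm 4 F) e (t • y) = 0 := by rw [polar_smul_right, hey, smul_zero]
    have hty' : QuadraticMap.polar (plusForm 4 F) e ((-t) • y) = 0 := by rw [polar_smul_right, hey, smul_zero]
    have hty1 : QuadraticMap.polar (plusForm 4 F) e (φ t • y₁) = 0 := by
      rw [polar_smul_right, hy1.polar h he hee, smul_zero]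
    rw [hb1, ← map_inv, ← map_mul, ← ss_neg hQe hty, hw, ← neg_smul, ← ss_add hQe hty' hty1, add_comm]
  have hcov2 : ∀ ω : Ω, up κ (ss (plusForm 4 F) e w) • ω = ω ∨ u • ω = ω := by
    intro ω
    by_cases huω : u • ω = ω
    · exact Or.inr huω
    · left
      have k1 : x₁ • ω = ω := (hcov ω).resolve_right huω
      have k2 : u • up κ (ss (plusForm 4 F) e (t • y)) • ω ≠ up κ (ss (plusForm 4 F) e (t • y)) • ω := by
        intro hc
        rw [← mul_smul, ← hbu, mul_smul] at hc
        exact huω (MulAction.injective _ hc)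
      have k3 := (hcov (up κ (ss (plusForm 4 F) e (t • y)) • ω)).resolve_right k2
      have k4 : x₁⁻¹ • ω = ω := by rw [inv_smul_eq_iff, k1]
      rw [← hd, mul_smul, mul_smul, k4, mul_smul, k3, inv_smul_smul]
  -- `u` is in the root group
  by_cases hx : ∃ a : F, u = up κ (ss (plusForm 4 F) e (a • w))
  · obtain ⟨a, ha⟩ := hx
    have ha0 : a ≠ 0 := by
      intro h0
      rw [h0, zero_smul, ss_zero hQe, map_one] at ha
      obtain ⟨c, hc, hMc⟩ := (hu.eq_one_iff hG hE hρ).1 ha
      have e1 := hMc e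
      rw [hMe] at e1
      have e2 : (c - 1) • e = 0 := by rw [sub_smul, one_smul, ← e1, sub_self]
      have e3 : c = 1 := sub_eq_zero.1 ((smul_eq_zero.1 e2).resolve_right he)
      apply hg1
      apply LinearEquiv.ext
      intro v
      rw [← hMg, hMc, e3, one_smul]; rfl
    refine not_cov_root (Ω := Ω) h hG hE hκ h1 he hee (hwP.smul h a) ?_ ?_
    · intro c hc
      apply ht (a⁻¹ * c)
      rw [mul_smul, ← hc, smul_smul, inv_mul_cancel₀ ha0, one_smul]
    · intro ω
      rw [← ha]
      exact (hcov ω).symm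
  · push Not at hx
    have heL : e ∈ Submodule.span F {e, w} := Submodule.subset_span (by simp)
    have hwL : w ∈ Submodule.span F {e, w} := Submodule.subset_span (by simp)
    refine box_LR1 hG hE hρ hu hQe (hwP.norm h he) (hwP.polar h he hee) he ht ?_ hx hcov2
    intro v hv
    obtain ⟨p, q, rfl⟩ := Submodule.mem_span_pair.1 hv
    obtain ⟨c, hc⟩ := hgw
    rw [hMg, map_add, map_smul, map_smul, hge, hc]
    exact add_mem (Submodule.smul_mem _ _ heL) (Submodule.smul_mem _ _ (add_mem hwL (Submodule.smul_mem _ _ heL)))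

end main

section stub

open Cfsg.Agent.H864.RC

variable {F : Type} [Field F] {G Ω ι : Type} [Group G] [MulAction G Ω] {N : Subgroup G}
  {hG : _root_.Cfsg.Agent.LieClassical.OrthTrans.Good (plusForm 4 F)} {κ : P8 F →* G} {s : F ≃+* F} {x₁ : G} {x : ι → G} {r : ι → ℕ}
  {g : ι → (V8 F ≃ₗ[F] V8 F)}

/-- one member `u` of order `p` and nothing else -/
theorem dead_k2 [Finite F] [Finite G] [Finite ι] [Nonempty Ω] {p : ℕ} [CharP F p]
    (h : T3 hG N κ s Ω x₁ x r g) (_hN : NoN Ω N) (i₀ : ι) (hi : r i₀ = p) (hall : ∀ i, i = i₀) : False := by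
  have hp : Fact p.Prime := ⟨by rw [← hi]; exact h.prime i₀⟩
  have hφ : ∃ t, s t ≠ t := by
    by_contra hcon
    push Not at hcon
    exact h.ne (RingEquiv.ext hcon)
  have hgE := (h.mem i₀).1
  have hu : Lf (up κ) (x i₀) (tg _ ⟨g i₀, hgE⟩) := by
    rw [h.x_eq]; exact Lf.tg _
  refine core (M := tg _ ⟨g i₀, hgE⟩) (g := g i₀) (p := p) h.cube hφ hG h.env h.rp h.tri hu ?_ (fun v => rfl)
    ⟨fun v => E_le_O hgE v, fun u w => (h.mem i₀).2 u w⟩ (by rw [← hi]; exact h.pow i₀) (h.ne1 i₀) ?_
  · exact ⟨one_ne_zero, fun u v => map_add (g i₀) u v, fun a v => map_smul (g i₀) a v, fun v => by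
      rw [one_mul]; exact E_le_O hgE v⟩
  · intro ω
    rcases h.cov ω with h2 | ⟨i, hi2⟩
    · exact Or.inl h2
    · right
      rw [hall i] at hi2
      exact hi2

end stub

end Cfsg.Agent.H195.RC
end

private theorem dce_93c278412edb : _root_.True := by
  try have : _root_.True := by simp only [_root_.Cfsg.Agent.H256.RC.io.eq_1]
  try have : _root_.True := by simp only [_root_.Cfsg.Agent.H256.RC.gK.eq_1]
  try have : _root_.True := by simp only [_root_.Cfsg.Agent.H256.RC.exN.eq_1]
  exact _root_.True.intro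
end
end
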